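import Cfsg.Agent.Lib.Phan.Standard

/-!
# Phan's theorem, part 13

Subgroups of `SU 3` isomorphic to `SU 2` are stabilisers of norm one vectors; two of them with
commuting nontrivial elements of order dividing `q + 1` are the two blocks after a move.
-/

set_option autoImplicit false
set_option linter.unusedSectionVars false

namespace Cfsg.Agent.Lib.Phan

open Matrix Module Cfsg.Agent.Lib.Unitary
open scoped MatrixGroups

variable {F : Type*} [Field F] [Fintype F] {q N : ℕ}

/-- The stabiliser of a vector. -/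
def vstab (q : ℕ) (u : Fin N → F) : Subgroup (Cfsg.SU N F q) where
  carrier := {g | act g u = u}
  one_mem' := act_one u
  mul_mem' {a b} ha hb := by
    show act (a * b) u = u
    rw [act_mul, show act b u = u from hb, show act a u = u from ha]
  inv_mem' {a} ha := by
    show act a⁻¹ u = u
    conv_lhs => rw [← show act a u = u from ha]
    rw [act_inv_act]

theorem mem_vstab {u : Fin N → F} {g : Cfsg.SU N F q} : g ∈ vstab q u ↔ act g u = u := Iff.rfl

/-- An isotropic pair of orthogonal vectors in dimension three is dependent. -/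
theorem exists_smul_of_isotropic (hF : Fintype.card F = q ^ 2) {v w : Fin 3 → F} (hv : v ≠ 0)
    (hvv : hermForm 3 F q v v = 0) (hww : hermForm 3 F q w w = 0) (hvw : hermForm 3 F q v w = 0) :
    ∃ c : F, w = c • v := by
  by_contra hcon
  push Not at hcon
  have hli : LinearIndependent F ![v, w] := by
    rw [LinearIndependent.pair_iff' hv]
    exact fun a h => hcon a h.symm
  have hle : Submodule.span F (Set.range ![v, w]) ≤ perp q (Submodule.span F (Set.range ![v, w])) := by
    rw [Submodule.span_le]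
    rintro _ ⟨i, rfl⟩
    refine (mem_perp_span_range hF).2 fun j => ?_
    fin_cases i <;> fin_cases j <;> simp [hvv, hww, hvw, herm_eq_zero_symm hF hvw]
  have h1 := Submodule.finrank_mono hle
  have h2 := finrank_perp hF (Submodule.span F (Set.range ![v, w]))
  rw [finrank_span_eq_card hli] at h1 h2
  simp at h1 h2
  omega

/-- A norm one vector orthogonal to two isotropic vectors. -/
theorem exists_unit_perp_iso (hF : Fintype.card F = q ^ 2) {v w : Fin 3 → F} (hv : v ≠ 0)
    (hvv : hermForm 3 F q v v = 0) (hww : hermForm 3 F q w w = 0) :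
    ∃ u, hermForm 3 F q u u = 1 ∧ hermForm 3 F q u v = 0 ∧ hermForm 3 F q u w = 0 := by
  by_contra hcon
  push Not at hcon
  have hiso : ∀ u, hermForm 3 F q u v = 0 → hermForm 3 F q u w = 0 → hermForm 3 F q u u = 0 := by
    intro u h1 h2
    by_contra h0
    obtain ⟨a, -, ha⟩ := exists_unit_of_ne_zero hF h0
    exact hcon _ ha (by rw [herm_smul_left, h1, mul_zero]) (by rw [herm_smul_left, h2, mul_zero])
  have hline : ∀ u, hermForm 3 F q u v = 0 → hermForm 3 F q u w = 0 → ∃ c : F, u = c • v := fun u h1 h2 =>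
    exists_smul_of_isotropic hF hv hvv (hiso u h1 h2) (herm_eq_zero_symm hF h1)
  set W : Submodule F (Fin 3 → F) := Submodule.span F (Set.range ![v, w])
  have hle : perp q W ≤ Submodule.span F {v} := fun u hu => by
    have hu' := (mem_perp_span_range hF).1 hu
    obtain ⟨c, rfl⟩ := hline u (hu' 0) (hu' 1)
    exact Submodule.smul_mem _ _ (Submodule.mem_span_singleton_self v)
  have h1 := Submodule.finrank_mono hle
  rw [finrank_span_singleton hv] at h1
  have h2 := finrank_perp hF W
  have hW : finrank F W ≤ 2 := (finrank_range_le_card _).trans (by simp)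
  -- so `v` is orthogonal to `w`, and then `w` is a multiple of `v`
  obtain ⟨u, hu, hu0⟩ := Submodule.exists_mem_ne_zero_of_ne_bot (p := perp q W) (fun h => by
    rw [h, finrank_bot] at h2; omega)
  have hu' := (mem_perp_span_range hF).1 hu
  obtain ⟨c, rfl⟩ := hline u (hu' 0) (hu' 1)
  have hc : c ≠ 0 := fun e => hu0 (by rw [e, zero_smul])
  have hvw : hermForm 3 F q v w = 0 := by
    have := hu' 1
    rw [herm_smul_left] at this
    exact (mul_eq_zero.1 this).resolve_left hc
  obtain ⟨d, rfl⟩ := exists_smul_of_isotropic hF hv hvv hww hvw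
  have hW1 : finrank F W ≤ 1 := by
    have hWle : W ≤ Submodule.span F {v} := by
      rw [Submodule.span_le]
      rintro _ ⟨i, rfl⟩
      fin_cases i
      · exact Submodule.mem_span_singleton_self v
      · exact Submodule.smul_mem _ _ (Submodule.mem_span_singleton_self v)
    exact (Submodule.finrank_mono hWle).trans (le_of_eq (finrank_span_singleton hv))
  omega

/-- In characteristic two a commuting family of involutions fixes an orthogonal of one isotropic vector. -/
theorem exists_point (hF : Fintype.card F = q ^ 2) (h2 : (2 : F) = 0) (E : Set (Cfsg.SU 3 F q))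
    (hsq : ∀ x ∈ E, x * x = 1) (hcomm : ∀ x ∈ E, ∀ y ∈ E, x * y = y * x) :
    ∃ v : Fin 3 → F, v ≠ 0 ∧ hermForm 3 F q v v = 0 ∧
      ∀ x ∈ E, ∀ u, hermForm 3 F q u v = 0 → act x u = u := by
  have neg : ∀ c : F, -c = c := fun c => by linear_combination (-c) * h2
  have selfadj : ∀ x ∈ E, ∀ a b, hermForm 3 F q (act x a - a) b = hermForm 3 F q a (act x b - b) := by
    intro x hx a b
    have h := act_herm x (act x a) b
    rw [← act_mul, hsq x hx, act_one] at h
    rw [herm_sub_left, herm_sub_right _ _ _ hF, h]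
  have twice : ∀ x ∈ E, ∀ a, act x (act x a - a) - (act x a - a) = 0 := by
    intro x hx a
    rw [act_sub, ← act_mul, hsq x hx, act_one]
    funext i
    simp only [Pi.sub_apply, Pi.zero_apply]
    linear_combination (a i - act x a i) * h2
  have hiso : ∀ x ∈ E, ∀ a b, hermForm 3 F q (act x a - a) (act x b - b) = 0 := fun x hx a b => by
    rw [selfadj x hx, twice x hx, herm_zero_right _ hF]
  by_cases hne : ∃ x ∈ E, ∃ a, act x a - a ≠ 0
  swap
  · push Not at hne
    obtain ⟨v, hv, hv'⟩ : ∃ v : Fin 3 → F, v ≠ 0 ∧ hermForm 3 F q v v = 0 := by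
      obtain ⟨e, f, hh⟩ := exists_hyp_any (n := 3) hF (by norm_num)
      exact ⟨e, fun he => by simpa [he, herm_zero_left] using hh.2.2, hh.1⟩
    exact ⟨v, hv, hv', fun x hx u _ => sub_eq_zero.1 (hne x hx u)⟩
  obtain ⟨x0, hx0, a0, ha0⟩ := hne
  set v := act x0 a0 - a0 with hv
  have hxline : ∀ b, ∃ c : F, act x0 b - b = c • v := fun b =>
    exists_smul_of_isotropic hF ha0 (hiso x0 hx0 a0 a0) (hiso x0 hx0 b b) (hiso x0 hx0 a0 b)
  refine ⟨v, ha0, hiso x0 hx0 a0 a0, fun y hy u hu => ?_⟩
  -- the other involution kills `v`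
  have hyv : act y v - v = 0 := by
    obtain ⟨d, hd⟩ := hxline (act y a0 - a0)
    have e : act y v - v = d • v := by
      rw [← hd, hv, act_sub, act_sub, ← act_mul, ← act_mul, hcomm y hy x0 hx0]
      abel
    have h := twice y hy v
    rw [e, act_smul, ← smul_sub, e, smul_smul] at h
    rcases smul_eq_zero.1 h with h | h
    · rw [e, mul_self_eq_zero.1 h, zero_smul]
    · exact absurd h ha0
  have hyline : ∀ b, ∃ c : F, act y b - b = c • v := fun b =>
    exists_smul_of_isotropic hF ha0 (hiso x0 hx0 a0 a0) (hiso y hy b b)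
      (herm_eq_zero_symm hF (by rw [selfadj y hy, hyv, herm_zero_right _ hF]))
  refine sub_eq_zero.1 (herm_nondeg_left hF fun b => ?_)
  obtain ⟨c, hc⟩ := hyline b
  rw [selfadj y hy, hc, herm_smul_right, hu, mul_zero]

/-- Two subgroups generated by elements of order dividing `q` have no nontrivial character. -/
theorem eq_one_of_pow_q (hF : Fintype.card F = q ^ 2) {c : F} (h : c ^ q = 1) : c = 1 :=
  pow_q_injective hF (by rw [h, one_pow])

/-- The determinant of an involutory matrix from its eigenspaces. -/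
theorem det_of_eigen (M : Matrix (Fin 3) (Fin 3) F) {P Q : Submodule F (Fin 3 → F)} (h : IsCompl P Q)
    (hP : ∀ a ∈ P, M *ᵥ a = a) (hQ : ∀ a ∈ Q, M *ᵥ a = -a) : M.det = (-1) ^ finrank F Q := by
  classical
  let e := Submodule.prodEquivOfIsCompl P Q h
  have hc : Matrix.toLin' M ∘ₗ e.toLinearMap =
      e.toLinearMap ∘ₗ LinearMap.prodMap (LinearMap.id : P →ₗ[F] P) (-(LinearMap.id : Q →ₗ[F] Q)) := by
    refine LinearMap.ext fun x => ?_
    simp [e, Matrix.mulVec_add, hP _ x.1.2, hQ _ x.2.2]
  have h2 : Matrix.toLin' M = (e : (P × Q) →ₗ[F] Fin 3 → F) ∘ₗ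
      LinearMap.prodMap (LinearMap.id : P →ₗ[F] P) (-(LinearMap.id : Q →ₗ[F] Q)) ∘ₗ
        (e.symm : (Fin 3 → F) →ₗ[F] P × Q) := by
    refine LinearMap.ext fun x => ?_
    have := LinearMap.congr_fun hc (e.symm x)
    simpa using this
  rw [← LinearMap.det_toLin', h2, LinearMap.det_conj, LinearMap.det_prodMap, LinearMap.det_id, one_mul,
    show -(LinearMap.id : Q →ₗ[F] Q) = (-1 : F) • LinearMap.id by rw [neg_smul (1 : F) (LinearMap.id : Q →ₗ[F] Q), one_smul], LinearMap.det_smul,
    LinearMap.det_id, mul_one]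

/-- A subgroup of `SU 3` isomorphic to `SU 2` fixes a norm one vector. -/
theorem exists_fixed_unit (hF : Fintype.card F = q ^ 2) {A : Subgroup (Cfsg.SU 3 F q)}
    (e : Cfsg.SU 2 F q ≃* A) : ∃ u : Fin 3 → F, hermForm 3 F q u u = 1 ∧ A ≤ vstab q u := by
  classical
  let K : Subfield F := (conj hF).eqLocusField (RingHom.id F)
  haveI : Fintype K := Fintype.ofFinite K
  have hK : Fintype.card K = q := by
    rw [← Nat.card_eq_fintype_card]
    exact card_fixed hF
  obtain ⟨e'⟩ := UnitarySmall.nonempty_SU2_equiv_SL2 hF hK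
  set θ : Matrix.SpecialLinearGroup (Fin 2) K →* Cfsg.SU 3 F q :=
    A.subtype.comp (e.toMonoidHom.comp e'.symm.toMonoidHom) with hθ
  have hrange : θ.range = A := by
    rw [hθ, MonoidHom.range_comp, MonoidHom.range_eq_top.2 (e.surjective.comp e'.symm.surjective :
      Function.Surjective (e.toMonoidHom.comp e'.symm.toMonoidHom)), ← MonoidHom.range_eq_map,
      Subgroup.range_subtype]
  have hinj : Function.Injective θ :=
    (Subgroup.subtype_injective A).comp (e.injective.comp e'.symm.injective)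
  have gen : ∀ S : Subgroup (Cfsg.SU 3 F q),
      (∀ (i j : Fin 2) (hij : i ≠ j) (t : K), θ (Matrix.SpecialLinearGroup.transvection hij t) ∈ S) →
        A ≤ S := by
    intro S h
    have htop := Cfsg.Agent.Lib.Linear.sl_eq_top_of_transvection_mem (S.comap θ) h
    rw [← hrange]
    rintro _ ⟨x, rfl⟩
    exact (htop.ge (Subgroup.mem_top x) : x ∈ S.comap θ)
  have hpow : ∀ (i j : Fin 2) (hij : i ≠ j) (t : K),
      θ (Matrix.SpecialLinearGroup.transvection hij t) ^ q = 1 := fun i j hij t => by
    have h := transvection_pow hij t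
    rw [hK] at h
    rw [← map_pow, h, map_one]
  by_cases h2 : (2 : F) = 0
  · -- two commuting families of involutions
    have h2K : (2 : K) = 0 := Subtype.ext h2
    have fam : ∀ i j : Fin 2, ∀ hij : i ≠ j, ∃ v : Fin 3 → F, v ≠ 0 ∧ hermForm 3 F q v v = 0 ∧
        ∀ t : K, ∀ u, hermForm 3 F q u v = 0 →
          act (θ (Matrix.SpecialLinearGroup.transvection hij t)) u = u := by
      intro i j hij
      have hmul : ∀ s t : K, Matrix.SpecialLinearGroup.transvection hij s *
          Matrix.SpecialLinearGroup.transvection hij t =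
            Matrix.SpecialLinearGroup.transvection hij (s + t) := fun s t => by
        apply Subtype.ext
        simp [Matrix.SpecialLinearGroup.transvection_coe, Matrix.mul_add,
          Matrix.single_mul_single_of_ne _ _ _ _ hij.symm, add_mul, Matrix.single_add]
        abel
      obtain ⟨v, hv0, hvv, hv⟩ := exists_point hF h2
        (Set.range fun t : K => θ (Matrix.SpecialLinearGroup.transvection hij t))
        (by
          rintro _ ⟨t, rfl⟩
          simp only
          rw [← map_mul, hmul, show t + t = 0 by linear_combination t * h2K]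
          simp)
        (by
          rintro _ ⟨s, rfl⟩ _ ⟨t, rfl⟩
          simp only
          rw [← map_mul, ← map_mul, hmul, hmul, add_comm])
      exact ⟨v, hv0, hvv, fun t u hu => hv _ ⟨t, rfl⟩ u hu⟩
    obtain ⟨v, hv0, hvv, hv⟩ := fam 0 1 (by decide)
    obtain ⟨w, -, hww, hw⟩ := fam 1 0 (by decide)
    obtain ⟨u, hu, huv, huw⟩ := exists_unit_perp_iso hF hv0 hvv hww
    refine ⟨u, hu, gen _ fun i j hij t => ?_⟩
    fin_cases i <;> fin_cases j
    · exact absurd rfl hij
    · exact hv t u huv
    · exact hw t u huw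
    · exact absurd rfl hij
  · -- the centraliser of the central involution
    set z0 : Matrix.SpecialLinearGroup (Fin 2) K := ⟨-1, by simp [Matrix.det_neg]⟩ with hz0
    have hz0c : ∀ x, z0 * x = x * z0 := fun x =>
      Subtype.ext (show (-1 : Matrix (Fin 2) (Fin 2) K) * x.1 = x.1 * -1 by simp)
    have hz02 : z0 * z0 = 1 :=
      Subtype.ext (show (-1 : Matrix (Fin 2) (Fin 2) K) * -1 = 1 by simp)
    have hz01 : z0 ≠ 1 := fun h => h2 (by
      have := congrArg (fun x : Matrix.SpecialLinearGroup (Fin 2) K => ((x.1 0 0 : K) : F)) h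
      simp [hz0] at this
      linear_combination -this)
    set z := θ z0
    have hzz : ∀ a, act z (act z a) = a := fun a => by
      rw [← act_mul, ← map_mul, hz02, map_one, act_one]
    obtain ⟨Vp, hVp⟩ : ∃ W : Submodule F (Fin 3 → F), ∀ a, a ∈ W ↔ act z a = a :=
      ⟨{ carrier := {a | act z a = a}
         zero_mem' := by show act z 0 = 0; exact act_zero z
         add_mem' := fun {a b} ha hb => by
           show act z (a + b) = a + b
           rw [act_add, show act z a = a from ha, show act z b = b from hb]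
         smul_mem' := fun c {a} ha => by
           show act z (c • a) = c • a
           rw [act_smul, show act z a = a from ha] }, fun _ => Iff.rfl⟩
    obtain ⟨Vm, hVm⟩ : ∃ W : Submodule F (Fin 3 → F), ∀ a, a ∈ W ↔ act z a = -a :=
      ⟨{ carrier := {a | act z a = -a}
         zero_mem' := by show act z 0 = -0; rw [neg_zero]; exact act_zero z
         add_mem' := fun {a b} ha hb => by
           show act z (a + b) = -(a + b)
           rw [act_add, show act z a = -a from ha, show act z b = -b from hb, neg_add]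
         smul_mem' := fun c {a} ha => by
           show act z (c • a) = -(c • a)
           rw [act_smul, show act z a = -a from ha, smul_neg] }, fun _ => Iff.rfl⟩
    have hsum : ∀ a : Fin 3 → F, ∃ p ∈ Vp, ∃ m ∈ Vm, a = p + m := fun a => by
      refine ⟨(2 : F)⁻¹ • (a + act z a), (hVp _).2 ?_, (2 : F)⁻¹ • (a - act z a), (hVm _).2 ?_, ?_⟩
      · rw [act_smul, act_add, hzz, add_comm]
      · rw [act_smul, act_sub, hzz, ← smul_neg, neg_sub]
      · funext i
        simp only [Pi.add_apply, Pi.smul_apply, Pi.sub_apply, smul_eq_mul]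
        field_simp
        ring
    have horth : ∀ p ∈ Vp, ∀ m ∈ Vm, hermForm 3 F q p m = 0 := fun p hp m hm => by
      have h := act_herm z p m
      rw [(hVp p).1 hp, (hVm m).1 hm, herm_neg_right _ _ hF] at h
      have : (2 : F) * hermForm 3 F q p m = 0 := by linear_combination -h
      exact (mul_eq_zero.1 this).resolve_left h2
    have hdim : finrank F Vp = 1 := by
      have hcompl : IsCompl Vp Vm := by
        refine ⟨?_, codisjoint_iff.2 ?_⟩
        · rw [disjoint_iff, Submodule.eq_bot_iff]
          intro a ha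
          have : act z a = a := (hVp a).1 ha.1
          rw [(hVm a).1 ha.2] at this
          funext i
          have hi := congrFun this i
          simp only [Pi.neg_apply] at hi
          have : (2 : F) * a i = 0 := by linear_combination -hi
          exact (mul_eq_zero.1 this).resolve_left h2
        · rw [eq_top_iff]
          intro a _
          obtain ⟨p, hp, m, hm, rfl⟩ := hsum a
          exact Submodule.add_mem_sup hp hm
      have hadd := Submodule.finrank_add_eq_of_isCompl hcompl
      rw [finrank_fin_fun] at hadd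
      have hdet := det_of_eigen z.1.1 hcompl (fun a ha => (hVp a).1 ha) (fun a ha => (hVm a).1 ha)
      rw [z.1.2] at hdet
      have hz1 : finrank F Vm ≠ 0 := fun h => hz01 (hinj (by
        rw [map_one]
        refine su_ext fun a => ?_
        obtain ⟨p, hp, m, hm, rfl⟩ := hsum a
        rw [Submodule.finrank_eq_zero.1 h, Submodule.mem_bot] at hm
        rw [hm, add_zero, act_one]
        exact (hVp p).1 hp))
      rcases (show finrank F Vm = 1 ∨ finrank F Vm = 2 ∨ finrank F Vm = 3 by omega) with h | h | h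
      · rw [h, pow_one] at hdet
        exact absurd (by linear_combination hdet : (2 : F) = 0) h2
      · omega
      · rw [h] at hdet
        exact absurd (by linear_combination hdet : (2 : F) = 0) h2
    obtain ⟨p0, hp0, hp1⟩ := finrank_eq_one_iff'.1 hdim
    have hne : hermForm 3 F q (p0 : Fin 3 → F) p0 ≠ 0 := fun h0 => hp0 (Subtype.ext (herm_nondeg_left hF
      fun b => by
        obtain ⟨p, hp, m, hm, rfl⟩ := hsum b
        obtain ⟨c, hc⟩ := hp1 ⟨p, hp⟩
        have hpc : p = c • (p0 : Fin 3 → F) := (congrArg Subtype.val hc).symm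
        rw [herm_add_right _ _ _ hF, horth _ p0.2 m hm, hpc, herm_smul_right, h0, mul_zero, add_zero]))
    obtain ⟨a, ha0, ha⟩ := exists_unit_of_ne_zero hF hne
    refine ⟨a • (p0 : Fin 3 → F), ha, gen _ fun i j hij t => ?_⟩
    set g := θ (Matrix.SpecialLinearGroup.transvection hij t)
    have hgm : act g (p0 : Fin 3 → F) ∈ Vp := (hVp _).2 (by
      rw [← act_mul, ← map_mul, hz0c, map_mul, act_mul, (hVp _).1 p0.2])
    obtain ⟨c, hc⟩ := hp1 ⟨_, hgm⟩
    have hgc : act g (p0 : Fin 3 → F) = c • (p0 : Fin 3 → F) := (congrArg Subtype.val hc).symm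
    have hiter : ∀ n : ℕ, act (g ^ n) (p0 : Fin 3 → F) = c ^ n • (p0 : Fin 3 → F) := by
      intro n
      induction n with
      | zero => simp [act_one]
      | succ n ih => rw [pow_succ, act_mul, hgc, act_smul, ih, smul_smul, pow_succ, mul_comm]
    have hcq : c ^ q = 1 := by
      have h := hiter q
      rw [hpow i j hij t, act_one] at h
      have hp0' : (p0 : Fin 3 → F) ≠ 0 := fun e => hp0 (Subtype.ext e)
      by_contra hne'
      exact hp0' ((smul_eq_zero.1 (show (c ^ q - 1) • (p0 : Fin 3 → F) = 0 by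
        rw [sub_smul, one_smul, ← h, sub_self])).resolve_left (sub_ne_zero.2 hne'))
    show act g (a • (p0 : Fin 3 → F)) = _
    rw [act_smul, hgc, eq_one_of_pow_q hF hcq, one_smul]

theorem map_conj_vstab {u : Fin N → F} (h : Cfsg.SU N F q) :
    (vstab q u).map (MulAut.conj h).toMonoidHom = vstab q (act h u) := by
  ext g
  rw [Subgroup.mem_map_equiv, mem_vstab, mem_vstab]
  show act ((MulAut.conj h).symm g) u = u ↔ _
  rw [MulAut.conj_symm_apply, act_mul, act_mul, eq_comm, eq_comm (a := act g (act h u))]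
  constructor
  · intro e; conv_lhs => rw [e, act_act_inv]
  · intro e; rw [← e, act_inv_act]

theorem range_win_high (hF : Fintype.card F = q ^ 2) :
    (win 3 2 1 : Cfsg.SU 2 F q →* _).range = vstab q (bv 0 : Fin 3 → F) := by
  rw [range_win hF (show 1 + 2 ≤ 3 by omega)]
  ext g
  rw [mem_fix, mem_vstab]
  refine ⟨fun h => h 0 (by simp), fun h i hi => ?_⟩
  simp only [Finset.mem_filter, Finset.mem_univ, true_and] at hi
  obtain rfl : i = 0 := Fin.ext (by have := i.isLt; simp; omega)
  exact h

theorem range_win_low (hF : Fintype.card F = q ^ 2) :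
    (win 3 2 0 : Cfsg.SU 2 F q →* _).range = vstab q (bv 2 : Fin 3 → F) := by
  rw [range_win hF (show 0 + 2 ≤ 3 by omega)]
  ext g
  rw [mem_fix, mem_vstab]
  refine ⟨fun h => h 2 (by simp), fun h i hi => ?_⟩
  simp only [Finset.mem_filter, Finset.mem_univ, true_and] at hi
  obtain rfl : i = 2 := Fin.ext (by have := i.isLt; simp; omega)
  exact h

theorem exists_move_unit (hF : Fintype.card F = q ^ 2) {u v : Fin 3 → F}
    (hu : hermForm 3 F q u u = 1) (hv : hermForm 3 F q v v = 1) :
    ∃ g : Cfsg.SU 3 F q, act g u = v := by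
  obtain ⟨g, -, e⟩ := exists_fix_unit hF (∅ : Finset (Fin 3)) (by simp)
    (fun x hx => absurd hx (Finset.notMem_empty x)) (fun x hx => absurd hx (Finset.notMem_empty x)) hu hv
  exact ⟨g, e⟩

/-- A subgroup isomorphic to `SU 2` is a full stabiliser. -/
theorem exists_eq_vstab (hF : Fintype.card F = q ^ 2) {A : Subgroup (Cfsg.SU 3 F q)}
    (e : Cfsg.SU 2 F q ≃* A) : ∃ u : Fin 3 → F, hermForm 3 F q u u = 1 ∧ A = vstab q u := by
  obtain ⟨u, hu, hle⟩ := exists_fixed_unit hF e
  refine ⟨u, hu, Subgroup.eq_of_le_of_card_ge hle (le_of_eq ?_)⟩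
  obtain ⟨g, hg⟩ := exists_move_unit hF hu (v := bv 2) (by simp [herm_bv hF])
  have h1 : (vstab q u).map (MulAut.conj g).toMonoidHom = (win 3 2 0 : Cfsg.SU 2 F q →* _).range := by
    rw [map_conj_vstab, hg, range_win_low hF]
  calc Nat.card (vstab q u) = Nat.card ((vstab q u).map (MulAut.conj g).toMonoidHom) :=
        Nat.card_congr (Subgroup.equivMapOfInjective _ _ (MulAut.conj g).injective).toEquiv
    _ = Nat.card (win 3 2 0 : Cfsg.SU 2 F q →* _).range := by rw [h1]
    _ = Nat.card (Cfsg.SU 2 F q) :=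
        (Nat.card_congr (MonoidHom.ofInjective (win_injective (N := 3) (a := 0) (by omega))).toEquiv).symm
    _ = Nat.card A := Nat.card_congr e.toEquiv

/-- A nontrivial element of order dividing `q + 1` fixing a norm one vector fixes only its line. -/
theorem fixed_line (hF : Fintype.card F = q ^ 2) {t : Cfsg.SU 3 F q} (ht : t ^ (q + 1) = 1) (ht1 : t ≠ 1)
    {u y : Fin 3 → F} (hu : hermForm 3 F q u u = 1) (htu : act t u = u) (hty : act t y = y) :
    ∃ c : F, y = c • u := by
  obtain ⟨g, hg⟩ := exists_move_unit hF hu (v := bv 2) (by simp [herm_bv hF])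
  have hm : g * t * g⁻¹ ∈ (win 3 2 0 : Cfsg.SU 2 F q →* _).range := by
    rw [range_win_low hF, mem_vstab, act_mul, act_mul, ← hg, act_inv_act, htu]
  obtain ⟨x, hx⟩ := hm
  set w := act g y with hw
  have hfix : act (win 3 2 0 x) w = w := by
    rw [hx, hw, act_mul, act_mul, act_inv_act, hty]
  by_cases h0 : w 0 = 0 ∧ w 1 = 0
  · refine ⟨w 2, ?_⟩
    have : w = w 2 • (bv 2 : Fin 3 → F) := by
      funext i; fin_cases i <;> simp [h0.1, h0.2]
    calc y = act g⁻¹ w := by rw [hw, act_inv_act]
      _ = w 2 • u := by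
        conv_lhs => rw [this]
        rw [act_smul, ← hg, act_inv_act]
  exfalso
  obtain ⟨hs, hn⟩ := su2_shape hF x
  set a := x.1.1 0 0
  set b := x.1.1 1 0
  have f0 := congrFun hfix 0
  have f1 := congrFun hfix 1
  simp [act, win_low_val, Matrix.mulVec, dotProduct, Fin.sum_univ_three] at f0 f1
  rw [hs] at f0 f1
  simp [su2Matrix] at f0 f1
  have htr : a + a ^ q = 2 := by
    by_contra hne
    have hD : (2 : F) - (a + a ^ q) ≠ 0 := sub_ne_zero.2 (Ne.symm hne)
    refine h0 ⟨?_, ?_⟩
    · refine (mul_eq_zero.1 (show ((2 : F) - (a + a ^ q)) * w 0 = 0 by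
        linear_combination (a ^ q - 1) * f0 + b ^ q * f1 - w 0 * hn)).resolve_left hD
    · refine (mul_eq_zero.1 (show ((2 : F) - (a + a ^ q)) * w 1 = 0 by
        linear_combination (a - 1) * f1 - b * f0 - w 1 * hn)).resolve_left hD
  have hsq : (x.1.1 - 1) * (x.1.1 - 1) = 0 := by
    rw [hs]
    ext i j
    fin_cases i <;> fin_cases j <;> simp [su2Matrix, Matrix.mul_apply, Fin.sum_univ_two]
    · linear_combination (a - 1) * htr - hn + htr
    · linear_combination (-b ^ q) * htr
    · linear_combination b * htr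
    · linear_combination (a ^ q - 1) * htr - hn + htr
  have hpow : ∀ n : ℕ, (x ^ n).1.1 = 1 + (n : F) • (x.1.1 - 1) := by
    intro n
    induction n with
    | zero => simp
    | succ n ih =>
      rw [pow_succ]
      show (x ^ n).1.1 * x.1.1 = _
      rw [ih]
      set X := x.1.1 - 1 with hX
      have : x.1.1 = 1 + X := by rw [hX]; abel
      simp only [this, Matrix.add_mul, Matrix.mul_add, Matrix.one_mul, Matrix.smul_mul,
        Matrix.mul_one, hsq, smul_zero, add_zero]
      push_cast
      rw [add_smul, one_smul]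
      abel
  have hq0 : (q : F) = 0 := by
    have h := FiniteField.cast_card_eq_zero F
    rw [hF, Nat.cast_pow] at h
    exact eq_zero_of_pow_eq_zero h
  have hxq : x ^ q = 1 := Subtype.ext (Subtype.ext (by rw [hpow, hq0, zero_smul, add_zero]; rfl))
  have htq : t ^ q = 1 := by
    have h : (g * t * g⁻¹) ^ q = 1 := by rw [← hx, ← map_pow, hxq, map_one]
    rw [conj_pow] at h
    simpa using h
  exact ht1 (by rwa [pow_succ, htq, one_mul] at ht)

theorem vstab_ne_top (hF : Fintype.card F = q ^ 2) {u : Fin 3 → F} (hu : hermForm 3 F q u u = 1) :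
    vstab q u ≠ (⊤ : Subgroup (Cfsg.SU 3 F q)) := by
  intro htop
  obtain ⟨g, hg⟩ := exists_move_unit hF hu (v := bv 2) (by simp [herm_bv hF])
  obtain ⟨g', hg'⟩ := exists_move_unit hF hu (v := bv 0) (by simp [herm_bv hF])
  have h : ∀ k : Cfsg.SU 3 F q, act k u = u := fun k => (htop ▸ Subgroup.mem_top k : k ∈ vstab q u)
  have e := congrFun ((hg.symm.trans (h g)).trans ((h g').symm.trans hg')) 2
  simp at e

/-- Two distinct copies of `SU 2` with commuting tori are moved onto the two blocks. -/
theorem exists_move_blocks_ne (hF : Fintype.card F = q ^ 2) {A B : Subgroup (Cfsg.SU 3 F q)}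
    (eA : Cfsg.SU 2 F q ≃* A) (eB : Cfsg.SU 2 F q ≃* B) (hne : A ≠ B)
    {t s : Cfsg.SU 3 F q} (htA : t ∈ A) (hsB : s ∈ B) (ht : t ^ (q + 1) = 1) (hs : s ^ (q + 1) = 1)
    (ht1 : t ≠ 1) (hs1 : s ≠ 1) (hts : t * s = s * t) :
    ∃ h : Cfsg.SU 3 F q, A.map (MulAut.conj h).toMonoidHom = (win 3 2 0).range ∧
      B.map (MulAut.conj h).toMonoidHom = (win 3 2 1).range := by
  obtain ⟨u, hu, rfl⟩ := exists_eq_vstab hF eA
  obtain ⟨w, hw, rfl⟩ := exists_eq_vstab hF eB
  have hsu : act t (act s u) = act s u := by rw [← act_mul, hts, act_mul, show act t u = u from htA]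
  obtain ⟨c, hc⟩ := fixed_line hF ht ht1 hu htA hsu
  have huw : hermForm 3 F q u w = 0 := by
    by_cases hc1 : c = 1
    · exfalso
      rw [hc1, one_smul] at hc
      obtain ⟨d, hd⟩ := fixed_line hF hs hs1 hw hsB hc
      have hle : vstab q w ≤ vstab q u := fun k hk => by
        show act k u = u
        rw [hd, act_smul, show act k w = w from hk]
      exact hne (Subgroup.eq_of_le_of_card_ge hle (le_of_eq
        ((Nat.card_congr eA.toEquiv).symm.trans (Nat.card_congr eB.toEquiv)))).symm
    · have h := act_herm s u w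
      rw [hc, show act s w = w from hsB, herm_smul_left] at h
      exact (mul_eq_zero.1 (show (c - 1) * hermForm 3 F q u w = 0 by linear_combination h)).resolve_left
        (sub_ne_zero.2 hc1)
  obtain ⟨h, -, h1, h2⟩ := exists_fix_pair hF (∅ : Finset (Fin 3)) (by simp)
    (fun x hx => absurd hx (Finset.notMem_empty x)) (fun x hx => absurd hx (Finset.notMem_empty x))
    (v := bv 2) (v' := bv 0) (fun x hx => absurd hx (Finset.notMem_empty x))
    (fun x hx => absurd hx (Finset.notMem_empty x)) hu hw huw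
    (by simp [herm_bv hF]) (by simp [herm_bv hF]) (by simp [herm_bv hF])
  exact ⟨h, by rw [map_conj_vstab, h1, range_win_low hF], by rw [map_conj_vstab, h2, range_win_high hF]⟩

/-- Two copies of `SU 2` generating `SU 3`, with commuting nontrivial elements of order dividing
`q + 1`, are moved onto the two blocks. -/
theorem exists_move_blocks (hF : Fintype.card F = q ^ 2) {A B : Subgroup (Cfsg.SU 3 F q)}
    (eA : Cfsg.SU 2 F q ≃* A) (eB : Cfsg.SU 2 F q ≃* B) (hgen : A ⊔ B = ⊤)
    {t s : Cfsg.SU 3 F q} (htA : t ∈ A) (hsB : s ∈ B) (ht : t ^ (q + 1) = 1) (hs : s ^ (q + 1) = 1)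
    (ht1 : t ≠ 1) (hs1 : s ≠ 1) (hts : t * s = s * t) :
    ∃ h : Cfsg.SU 3 F q, A.map (MulAut.conj h).toMonoidHom = (win 3 2 0).range ∧
      B.map (MulAut.conj h).toMonoidHom = (win 3 2 1).range := by
  refine exists_move_blocks_ne hF eA eB (fun e => ?_) htA hsB ht hs ht1 hs1 hts
  obtain ⟨u, hu, rfl⟩ := exists_eq_vstab hF eA
  rw [← e, sup_idem] at hgen
  exact vstab_ne_top hF hu hgen

/-- A pair homomorphism from an isomorphism of `U ⊔ V` with `SU 3`. -/
theorem exists_isPair_of_tori (hF : Fintype.card F = q ^ 2) {G : Type*} [Group G] {U V D E : Subgroup G}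
    (eU : Cfsg.SU 2 F q ≃* U) (eV : Cfsg.SU 2 F q ≃* V) (φ : ↥(U ⊔ V) ≃* Cfsg.SU 3 F q)
    (hD : D ≤ U ∧ IsCyclic D ∧ Nat.card D = q + 1) (hE : E ≤ V ∧ IsCyclic E ∧ Nat.card E = q + 1)
    (hDE : ∀ x ∈ D, ∀ y ∈ E, x * y = y * x) :
    ∃ π : Cfsg.SU 3 F q →* G, π.range = U ⊔ V ∧ IsPair π U V := by
  set M := U ⊔ V with hM
  let A : Subgroup (Cfsg.SU 3 F q) := (U.subgroupOf M).map φ.toMonoidHom
  let B : Subgroup (Cfsg.SU 3 F q) := (V.subgroupOf M).map φ.toMonoidHom
  have hAB : A ⊔ B = ⊤ := by
    rw [← Subgroup.map_sup, ← Subgroup.subgroupOf_sup le_sup_left le_sup_right,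
      Subgroup.subgroupOf_self, ← MonoidHom.range_eq_map, MonoidHom.range_eq_top]
    exact φ.surjective
  have gen : ∀ {W D' : Subgroup G} (_ : W ≤ M), D' ≤ W ∧ IsCyclic D' ∧ Nat.card D' = q + 1 →
      ∃ t ∈ (W.subgroupOf M).map φ.toMonoidHom, t ^ (q + 1) = 1 ∧ t ≠ 1 ∧
        ((φ.symm t : M) : G) ∈ D' := by
    intro W D' hW ⟨hle, hcyc, hcard⟩
    obtain ⟨⟨d, hd⟩, hgen⟩ := hcyc.exists_generator
    refine ⟨φ ⟨d, hW (hle hd)⟩, ⟨⟨d, hW (hle hd)⟩, hle hd, rfl⟩, ?_, ?_, ?_⟩
    · rw [← map_pow, show (⟨d, hW (hle hd)⟩ : M) ^ (q + 1) = 1 from Subtype.ext (by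
        have := congrArg Subtype.val (pow_card_eq_one' (x := (⟨d, hd⟩ : D')))
        rw [hcard] at this
        simpa using this), map_one]
    · intro h
      have hd1 : d = 1 := congrArg Subtype.val (φ.map_eq_one_iff.1 h)
      have : Subsingleton D' := ⟨fun x y => by
        obtain ⟨i, rfl⟩ := hgen x
        obtain ⟨j, rfl⟩ := hgen y
        simp [show (⟨d, hd⟩ : D') = 1 from Subtype.ext hd1]⟩
      rw [Nat.card_of_subsingleton (1 : D')] at hcard
      have := one_lt_q hF
      omega
    · rw [MulEquiv.symm_apply_apply]; exact hd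
  obtain ⟨t, ht, ht', ht1, htD⟩ := gen le_sup_left hD
  obtain ⟨s, hs, hs', hs1, hsE⟩ := gen le_sup_right hE
  have hts : t * s = s * t := φ.symm.injective (Subtype.ext (by
    simp only [map_mul, Subgroup.coe_mul]
    exact hDE _ htD _ hsE))
  obtain ⟨h, hA, hB⟩ := exists_move_blocks hF (A := A) (B := B)
    (eU.trans ((Subgroup.subgroupOfEquivOfLe le_sup_left).symm.trans (φ.subgroupMap _)))
    (eV.trans ((Subgroup.subgroupOfEquivOfLe le_sup_right).symm.trans (φ.subgroupMap _)))
    hAB ht hs ht' hs' ht1 hs1 hts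
  let ρ : Cfsg.SU 3 F q ≃* M := (MulAut.conj h).symm.trans φ.symm
  have hρ : ∀ {W : Subgroup G}, W ≤ M → ∀ {k : Cfsg.SU 2 F q →* Cfsg.SU 3 F q},
      ((W.subgroupOf M).map φ.toMonoidHom).map (MulAut.conj h).toMonoidHom = k.range →
      ((M.subtype.comp ρ.toMonoidHom).comp k).range = W := by
    intro W hW k hk
    have hcomp : ((M.subtype.comp ρ.toMonoidHom).comp (MulAut.conj h).toMonoidHom).comp φ.toMonoidHom =
        M.subtype := MonoidHom.ext fun x => by simp [ρ]; group
    rw [MonoidHom.range_comp, ← hk, Subgroup.map_map, Subgroup.map_map]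
    erw [hcomp]
    rw [Subgroup.subgroupOf_map_subtype, inf_eq_left.2 hW]
  refine ⟨M.subtype.comp ρ.toMonoidHom, ?_, hρ le_sup_left hA, hρ le_sup_right hB, fun z hz => ?_⟩
  · rw [MonoidHom.range_comp, MonoidHom.range_eq_top.2 ρ.surjective, ← MonoidHom.range_eq_map,
      Subgroup.range_subtype]
  · have : ρ z = 1 := Subtype.ext hz
    rw [(ρ.map_eq_one_iff).1 this]
    exact one_mem _

end Cfsg.Agent.Lib.Phan
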