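import Cfsg.Agent.Lib.Phan.Standard

/-!
# Phan's theorem, part 11

A chain of standard pairs gives compatible windows.
-/

set_option autoImplicit false
set_option linter.unusedSectionVars false

namespace Cfsg.Agent.Lib.Phan

open Matrix Cfsg.Agent.Lib.Unitary

variable {F : Type*} [Field F] [Fintype F] {q N : ℕ} {G : Type*} [Group G]

theorem herm_diag {d : Fin N → F} (hd : ∀ i, d i * d i ^ q = 1) (u v : Fin N → F) :
    hermForm N F q (diagonal d *ᵥ u) (diagonal d *ᵥ v) = hermForm N F q u v := by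
  simp only [hermForm, Matrix.mulVec_diagonal]
  refine Finset.sum_congr rfl fun i _ => ?_
  rw [mul_pow, mul_mul_mul_comm, hd, one_mul]

theorem herm_map (σ : F ≃+* F) (u v : Fin N → F) :
    hermForm N F q (fun i => σ (u i)) (fun i => σ (v i)) = σ (hermForm N F q u v) := by
  simp [hermForm, map_sum, map_mul, map_pow]

/-- A diagonal times a field automorphism, as an endomorphism of `SU`. -/
def semi (hF : Fintype.card F = q ^ 2) (σ : F ≃+* F) (d : Fin N → F) (hd : ∀ i, d i * d i ^ q = 1) :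
    Cfsg.SU N F q →* Cfsg.SU N F q where
  toFun g := ⟨⟨diagonal d * g.1.1.map σ * diagonal (fun i => d i ^ q), by
      rw [Matrix.det_mul, Matrix.det_mul, Matrix.det_diagonal, Matrix.det_diagonal, mul_right_comm,
        ← Finset.prod_mul_distrib, Finset.prod_eq_one (fun i _ => hd i), one_mul]
      show (σ.toRingHom.mapMatrix g.1.1).det = 1
      rw [← RingHom.map_det, g.1.2, map_one]⟩, fun u v => by
    show hermForm N F q ((diagonal d * g.1.1.map σ * diagonal (fun i => d i ^ q)) *ᵥ u)
      ((diagonal d * g.1.1.map σ * diagonal (fun i => d i ^ q)) *ᵥ v) = _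
    rw [← mulVec_mulVec, ← mulVec_mulVec, ← mulVec_mulVec, ← mulVec_mulVec, herm_diag hd]
    have key : ∀ w : Fin N → F,
        g.1.1.map σ *ᵥ w = fun i => σ ((g.1.1 *ᵥ fun j => σ.symm (w j)) i) := fun w => by
      funext i
      simp [Matrix.mulVec, dotProduct, map_sum, map_mul]
    have hg : ∀ a b : Fin N → F, hermForm N F q (g.1.1 *ᵥ a) (g.1.1 *ᵥ b) = hermForm N F q a b := g.2
    rw [key, key, herm_map, hg, ← herm_map]
    simp only [RingEquiv.apply_symm_apply]
    exact herm_diag (fun i => by rw [pow_q_q hF, mul_comm]; exact hd i) u v⟩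
  map_one' := Subtype.ext (Subtype.ext (show
      diagonal d * (1 : Matrix (Fin N) (Fin N) F).map σ * diagonal (fun i => d i ^ q) = 1 by
    rw [Matrix.map_one _ (map_zero σ) (map_one σ), Matrix.mul_one, diagonal_mul_diagonal]
    simp [hd]))
  map_mul' g h := Subtype.ext (Subtype.ext (by
    show diagonal d * (g.1.1 * h.1.1).map σ * diagonal (fun i => d i ^ q) =
      (diagonal d * g.1.1.map σ * diagonal (fun i => d i ^ q)) *
        (diagonal d * h.1.1.map σ * diagonal (fun i => d i ^ q))
    rw [show (g.1.1 * h.1.1).map σ = g.1.1.map σ * h.1.1.map σ from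
      map_mul σ.toRingHom.mapMatrix g.1.1 h.1.1]
    simp only [Matrix.mul_assoc]
    rw [← Matrix.mul_assoc (diagonal fun i => d i ^ q) (diagonal d), diagonal_mul_diagonal,
      show (fun i => d i ^ q * d i) = (fun _ => (1 : F)) from funext fun i => by rw [mul_comm]; exact hd i,
      diagonal_one, Matrix.one_mul]))

theorem semi_val (hF : Fintype.card F = q ^ 2) (σ : F ≃+* F) (d : Fin N → F)
    (hd : ∀ i, d i * d i ^ q = 1) (g : Cfsg.SU N F q) (i j : Fin N) :
    (semi hF σ d hd g).1.1 i j = d i * σ (g.1.1 i j) * d j ^ q := by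
  show (diagonal d * g.1.1.map σ * diagonal (fun i => d i ^ q)) i j = _
  simp [Matrix.mul_diagonal, Matrix.diagonal_mul]

theorem semi_injective (hF : Fintype.card F = q ^ 2) (σ : F ≃+* F) (d : Fin N → F)
    (hd : ∀ i, d i * d i ^ q = 1) : Function.Injective (semi hF σ d hd) := fun g h e => by
  refine Subtype.ext (Subtype.ext (Matrix.ext fun i j => ?_))
  have h1 := congrArg (fun x : Cfsg.SU N F q => x.1.1 i j) e
  simp only [semi_val] at h1
  have hne : ∀ i, d i ≠ 0 := fun i h0 => by simpa [h0] using hd i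
  exact σ.injective (mul_left_cancel₀ (hne i) (mul_right_cancel₀ (pow_ne_zero q (hne j)) h1))

theorem semi_mem_fix (hF : Fintype.card F = q ^ 2) (σ : F ≃+* F) (d : Fin N → F)
    (hd : ∀ i, d i * d i ^ q = 1) {s : Finset (Fin N)} {g : Cfsg.SU N F q}
    (hg : g ∈ fix q F s) : semi hF σ d hd g ∈ fix q F s := fun j hj => by
  show act (semi hF σ d hd g) (bv j) = bv j
  funext i
  have h := congrFun (mem_fix.1 hg j hj) i
  rw [act_bv_apply] at h
  rw [act_bv_apply, semi_val, h]
  by_cases hij : i = j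
  · subst hij; simp [hd]
  · simp [hij]

/-- The step of the chain: a pair can be adjusted to agree with the previous one. -/
theorem exists_adjusted (hF : Fintype.card F = q ^ 2) {ψ π : Cfsg.SU 3 F q →* G} {A B C : Subgroup G}
    (ha : IsPair ψ A B) (hb : IsPair π B C) (hAC : ∀ x ∈ A, ∀ y ∈ C, x * y = y * x) :
    ∃ ψ' : Cfsg.SU 3 F q →* G, IsPair ψ' B C ∧ ψ'.range = π.range ∧
      ∀ g, ψ (win 3 2 1 g) = ψ' (win 3 2 0 g) := by
  let τ : MulAut (Cfsg.SU 2 F q) :=
    (MonoidHom.ofInjective (ha.injective hF (i := 1) le_rfl)).trans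
      ((MulEquiv.subgroupCongr (ha.high.trans hb.low.symm)).trans
        (MonoidHom.ofInjective (hb.injective hF (i := 0) (by omega))).symm)
  have hτ : ∀ g, π (win 3 2 0 (τ g)) = ψ (win 3 2 1 g) := fun g => by
    have h : MonoidHom.ofInjective (hb.injective hF (i := 0) (by omega)) (τ g) =
        MulEquiv.subgroupCongr (ha.high.trans hb.low.symm)
          (MonoidHom.ofInjective (ha.injective hF (i := 1) le_rfl) g) := by simp [τ]
    have h' := congrArg Subtype.val h
    exact h'
  obtain ⟨σ, ν, hν, hσ⟩ := aut_SU2_torus hF (one_lt_q hF) τ.symm fun h h0 => by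
    refine torus_match hF ha hb hAC (g := τ.symm h) (h := h) ?_ h0
    rw [← hτ, MulEquiv.apply_symm_apply]
  have hd : ∀ i, (![1, ν, ν] : Fin 3 → F) i * (![1, ν, ν] : Fin 3 → F) i ^ q = 1 := fun i => by
    fin_cases i <;> simp [hν]
  let β : MulAut (Cfsg.SU 3 F q) := MulEquiv.ofBijective (semi hF σ ![1, ν, ν] hd)
    (Finite.injective_iff_bijective.1 (semi_injective hF σ _ hd))
  have hβ : ∀ g, β (win 3 2 0 (τ g)) = win 3 2 0 g := fun g => by
    obtain ⟨h, rfl⟩ := τ.symm.surjective g
    rw [MulEquiv.apply_symm_apply]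
    refine Subtype.ext (Subtype.ext (Matrix.ext fun i j => ?_))
    show (semi hF σ ![1, ν, ν] hd (win 3 2 0 h)).1.1 i j = _
    obtain ⟨hh, -⟩ := su2_shape hF h
    rw [semi_val, win_low_val, win_low_val, hσ, hh]
    fin_cases i <;> fin_cases j <;>
      simp [su2Matrix, mul_pow, map_pow, map_neg] <;>
      first
      | ring1
      | linear_combination σ (h.1.1 0 0) ^ q * hν
      | linear_combination hν
  refine ⟨π.comp β.symm.toMonoidHom, ⟨?_, ?_, ?_⟩, ?_, fun g => ?_⟩
  · rw [← ha.high]
    congr 1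
    refine MonoidHom.ext fun g => ?_
    show π (β.symm (win 3 2 0 g)) = ψ (win 3 2 1 g)
    rw [← hτ, ← hβ g, MulEquiv.symm_apply_apply]
  · set R := (win 3 2 1 : Cfsg.SU 2 F q →* _).range with hR
    have hmap : R.map β.toMonoidHom = R := by
      refine Subgroup.eq_of_le_of_card_ge ?_ (le_of_eq ?_)
      · rw [hR, range_win hF (show 1 + 2 ≤ 3 by omega)]
        rintro _ ⟨x, hx, rfl⟩
        exact semi_mem_fix hF σ _ hd hx
      · exact (Nat.card_congr (R.equivMapOfInjective _ β.injective).toEquiv)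
    have hmap' : R.map β.symm.toMonoidHom = R := by
      conv_lhs => rw [← hmap]
      rw [Subgroup.map_map]
      simp
    rw [MonoidHom.comp_assoc, MonoidHom.range_comp, MonoidHom.range_comp, ← hR, hmap', hR,
      ← MonoidHom.range_comp]
    exact hb.high
  · intro z hz
    have hc : β.symm z ∈ Subgroup.center (Cfsg.SU 3 F q) := hb.ker hz
    refine Subgroup.mem_center_iff.2 fun x => ?_
    have h := congrArg β (Subgroup.mem_center_iff.1 hc (β.symm x))
    simpa using h
  · rw [MonoidHom.range_comp, MonoidHom.range_eq_top.2 β.symm.surjective, ← MonoidHom.range_eq_map]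
  · show ψ (win 3 2 1 g) = π (β.symm (win 3 2 0 g))
    rw [← hτ, ← hβ g, MulEquiv.symm_apply_apply]

/-- A chain of standard pairs gives compatible windows. -/
theorem exists_windows (hF : Fintype.card F = q ^ 2) {n : ℕ} (U V : ℕ → Subgroup G)
    (h1 : ∀ i j, i + 2 ≤ j → j < n → ∀ x ∈ U i, ∀ y ∈ U j, x * y = y * x)
    (h2 : ∀ i, i + 1 < n → ∃ π : Cfsg.SU 3 F q →* G, π.range = V i ∧ IsPair π (U i) (U (i + 1))) :
    ∃ W : Windows q F (n + 1) G, ∀ a, a + 1 < n →
      IsPair (W.ψ a) (U a) (U (a + 1)) ∧ (W.ψ a).range = V a := by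
  have key : ∀ m, ∃ ψ : ℕ → Cfsg.SU 3 F q →* G,
      (∀ a, a < m → a + 1 < n → IsPair (ψ a) (U a) (U (a + 1)) ∧ (ψ a).range = V a) ∧
      ∀ a, a + 1 < m → a + 2 < n → ∀ g, ψ a (win 3 2 1 g) = ψ (a + 1) (win 3 2 0 g) := by
    intro m
    induction m with
    | zero => exact ⟨fun _ => 1, by omega, by omega⟩
    | succ m ih =>
      obtain ⟨ψ, hψ, hag⟩ := ih
      by_cases hm : m + 1 < n
      · obtain ⟨ψ', hψ', hag'⟩ : ∃ ψ' : Cfsg.SU 3 F q →* G,
            (IsPair ψ' (U m) (U (m + 1)) ∧ ψ'.range = V m) ∧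
            ∀ a, a + 1 = m → ∀ g, ψ a (win 3 2 1 g) = ψ' (win 3 2 0 g) := by
          obtain ⟨π, hπ, hp⟩ := h2 m hm
          cases m with
          | zero => exact ⟨π, ⟨hp, hπ⟩, by omega⟩
          | succ m' =>
            obtain ⟨ψ', h', hr, he⟩ := exists_adjusted hF (hψ m' (by omega) (by omega)).1 hp
              (h1 m' (m' + 2) le_rfl hm)
            exact ⟨ψ', ⟨h', hr.trans hπ⟩, fun a ha g => by
              obtain rfl : a = m' := by omega
              exact he g⟩
        refine ⟨Function.update ψ m ψ', fun a ha hb => ?_, fun a ha hb g => ?_⟩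
        · by_cases e : a = m
          · subst e; rw [Function.update_self]; exact hψ'
          · rw [Function.update_of_ne e]; exact hψ a (by omega) hb
        · rw [Function.update_of_ne (show a ≠ m by omega)]
          by_cases e : a + 1 = m
          · subst e; rw [Function.update_self]; exact hag' a rfl g
          · rw [Function.update_of_ne e]; exact hag a (by omega) hb g
      · exact ⟨ψ, fun a ha hb => hψ a (by omega) hb, fun a ha hb g => hag a (by omega) hb g⟩
  obtain ⟨ψ, hψ, hag⟩ := key n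
  refine ⟨⟨ψ, fun a ha g => hag a (by omega) (by omega) g,
    fun a b i j hi hj ha hb hab g h => ?_⟩, fun a ha => hψ a (by omega) ha⟩
  obtain ⟨pa, -⟩ := hψ a (by omega) (by omega)
  obtain ⟨pb, -⟩ := hψ b (by omega) (by omega)
  have mem : ∀ {c k}, IsPair (ψ c) (U c) (U (c + 1)) → k ≤ 1 → ∀ x, ψ c (win 3 2 k x) ∈ U (c + k) := by
    intro c k hp hk x
    rcases Nat.le_one_iff_eq_zero_or_eq_one.1 hk with rfl | rfl
    · rw [add_zero, ← hp.low]; exact ⟨x, rfl⟩
    · rw [← hp.high]; exact ⟨x, rfl⟩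
  exact h1 (a + i) (b + j) (by omega) (by omega) _ (mem pa hi g) _ (mem pb hj h)

end Cfsg.Agent.Lib.Phan
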