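import Cfsg.Agent.Lib.Phan.Indep

/-!
# Phan's theorem, part 6

The extension theorem in dimension four, for `q ≥ 4`.
-/

set_option autoImplicit false
set_option linter.unusedSectionVars false

namespace Cfsg.Agent.Lib.Phan

open Matrix Module Cfsg.Agent.Lib.Unitary

variable {F : Type*} [Field F] [Fintype F] {q N : ℕ}

theorem gramInj_three (hF : Fintype.card F = q ^ 2) {u v w : Fin N → F}
    (hu : hermForm N F q u u = 1) (hv : hermForm N F q v v = 1) (hw : hermForm N F q w w = 1)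
    (huv : hermForm N F q u v = 0)
    (hne : hermForm N F q w u * hermForm N F q w u ^ q + hermForm N F q w v * hermForm N F q w v ^ q ≠ 1) :
    GramInj q ![u, v, w] := by
  intro e he
  have e1 := he 0
  have e2 := he 1
  have e3 := he 2
  simp [Fin.sum_univ_three, herm_add_left, herm_smul_left, hu, hv, hw, huv, herm_eq_zero_symm hF huv,
    ← herm_conj w u hF, ← herm_conj w v hF] at e1 e2 e3
  have h2 : e 2 = 0 := by
    have h : e 2 * (1 - (hermForm N F q w u * hermForm N F q w u ^ q +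
        hermForm N F q w v * hermForm N F q w v ^ q)) = 0 := by
      linear_combination e3 - hermForm N F q w u ^ q * e1 - hermForm N F q w v ^ q * e2
    exact (mul_eq_zero.1 h).resolve_right (sub_ne_zero.2 (Ne.symm hne))
  rw [h2, zero_mul, add_zero] at e1 e2
  funext i; fin_cases i <;> assumption

theorem exists_unit_perp_three (hF : Fintype.card F = q ^ 2) (hN : 4 ≤ N) {u v w : Fin N → F}
    (hu : hermForm N F q u u = 1) (hv : hermForm N F q v v = 1) (hw : hermForm N F q w w = 1)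
    (huv : hermForm N F q u v = 0)
    (hne : hermForm N F q w u * hermForm N F q w u ^ q + hermForm N F q w v * hermForm N F q w v ^ q ≠ 1) :
    ∃ z, hermForm N F q z z = 1 ∧ hermForm N F q z u = 0 ∧ hermForm N F q z v = 0 ∧
      hermForm N F q z w = 0 := by
  obtain ⟨g, hg, ho, -⟩ := (gramInj_three hF hu hv hw huv hne).exists_complement hF
  let i : Fin (N - Fintype.card (Fin 3)) := ⟨0, by simp; omega⟩
  exact ⟨g i, by simpa using hg i i, ho i 0, ho i 1, ho i 2⟩

/-- For `q ≥ 4` a fixed element avoids three given values. -/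
theorem exists_fixed_avoid (hF : Fintype.card F = q ^ 2) (hq : 4 ≤ q) (a b c : F) :
    ∃ x : F, x ^ q = x ∧ x ≠ a ∧ x ≠ b ∧ x ≠ c := by
  classical
  by_contra hcon
  push Not at hcon
  have hsub : ({x : F | x ^ q = x} : Finset F) ⊆ {a, b, c} := by
    intro x hx
    simp only [Finset.mem_filter, Finset.mem_univ, true_and] at hx
    by_cases h1 : x = a
    · simp [h1]
    by_cases h2 : x = b
    · simp [h2]
    simp [hcon x hx h1 h2]
  have h := Finset.card_le_card hsub
  have h3 := Finset.card_le_three (a := a) (b := b) (c := c)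
  have hq' : ({x : F | x ^ q = x} : Finset F).card = q := by
    rw [← Fintype.card_subtype, ← Nat.card_eq_fintype_card]; exact card_fixed hF
  omega

/-- For `q ≥ 5` every fixed element is a sum of two others avoiding `0` and `1`. -/
theorem exists_fixed_sum (hF : Fintype.card F = q ^ 2) (hq : 5 ≤ q) {D : F} (hD : D ^ q = D) :
    ∃ a b : F, a ^ q = a ∧ b ^ q = b ∧ a ≠ 0 ∧ a ≠ 1 ∧ b ≠ 0 ∧ b ≠ 1 ∧ D = a + b := by
  classical
  by_contra hcon
  push Not at hcon
  have hsub : ({x : F | x ^ q = x} : Finset F) ⊆ {0, 1, D, D - 1} := by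
    intro x hx
    simp only [Finset.mem_filter, Finset.mem_univ, true_and] at hx
    by_cases h1 : x = 0
    · simp [h1]
    by_cases h2 : x = 1
    · simp [h2]
    by_cases h3 : x = D
    · simp [h3]
    by_cases h4 : x = D - 1
    · simp [h4]
    exact absurd (add_sub_cancel x D).symm
      (hcon x (D - x) hx (by rw [sub_pow_q hF, hD, hx]) h1 h2 (sub_ne_zero.2 (Ne.symm h3))
        (fun h => h4 (by linear_combination -h)))
  have h := Finset.card_le_card hsub
  have h4 := Finset.card_le_four (a := (0 : F)) (b := 1) (c := D) (d := D - 1)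
  have hq' : ({x : F | x ^ q = x} : Finset F).card = q := by
    rw [← Fintype.card_subtype, ← Nat.card_eq_fintype_card]; exact card_fixed hF
  omega

theorem eq_zero_of_four {x₁ x₂ x₃ x₄ u : Fin 4 → F} (hF : Fintype.card F = q ^ 2)
    (hli : LinearIndependent F ![x₁, x₂, x₃, x₄]) (h1 : hermForm 4 F q u x₁ = 0)
    (h2 : hermForm 4 F q u x₂ = 0) (h3 : hermForm 4 F q u x₃ = 0) (h4 : hermForm 4 F q u x₄ = 0) :
    u = 0 := by
  have htop : Submodule.span F (Set.range ![x₁, x₂, x₃, x₄]) = ⊤ :=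
    hli.span_eq_top_of_card_eq_finrank (by simp)
  have hp : u ∈ perp q (Submodule.span F (Set.range ![x₁, x₂, x₃, x₄])) :=
    (mem_perp_span_range hF).2 fun i => by fin_cases i <;> assumption
  rw [htop] at hp
  exact herm_nondeg_left hF fun v => hp v trivial

namespace Amalg

variable {hN : 4 ≤ N} {G : Type*} [Group G] (M : Amalg q F hN G) {hF : Fintype.card F = q ^ 2}
include hF

/-- Two-step paths between opposite vertices in general position end in the same coset. -/
theorem quad (hq : 5 ≤ N ∨ 4 ≤ q) {a d b d' b' : M.C} (h1 : M.Adj hF a d) (h2 : M.Adj hF d b)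
    (h1' : M.Adj hF a d') (h2' : M.Adj hF d' b') (e : M.vec b = M.vec b')
    (hn : hermForm N F q (M.vec b) (M.vec a) * hermForm N F q (M.vec b) (M.vec a) ^ q ≠ 1) :
    b = b' := by
  obtain ⟨p, rfl⟩ := M.exists_smul a
  have l1 : M.Lift hF (M.vec (p⁻¹ • d)) (M.vec (p⁻¹ • b)) (p⁻¹ • b) :=
    ⟨p⁻¹ • d, by simpa using h1.smul M p⁻¹, rfl, h2.smul M _, rfl⟩
  have l2 : M.Lift hF (M.vec (p⁻¹ • d')) (M.vec (p⁻¹ • b')) (p⁻¹ • b') :=
    ⟨p⁻¹ • d', by simpa using h1'.smul M p⁻¹, rfl, h2'.smul M _, rfl⟩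
  rw [show M.vec (p⁻¹ • b') = M.vec (p⁻¹ • b) by rw [vec_smul, vec_smul, e]] at l2
  refine smul_left_cancel p⁻¹ (M.unique_nondeg (hF := hF) hq (Or.inl ?_) l1 l2)
  rw [M.vec_smul p, vec_c0] at hn
  rw [← herm_bv_right hF (M.vec (p⁻¹ • b)), vec_smul, show (p⁻¹).1.1 = (p.1.1)⁻¹ from rfl,
    ← act_herm p.1.1, act_act_inv]
  exact hn

/-- Neighbours of the base vector over orthogonal vectors are adjacent and their lifts. -/
theorem lift_nbr {d d' : M.C} (h : M.Adj hF M.c0 d) (h' : M.Adj hF M.c0 d')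
    (ho : hermForm N F q (M.vec d) (M.vec d') = 0) : M.Lift hF (M.vec d) (M.vec d') d' :=
  ⟨d, h, rfl, M.triangle h h' ho, rfl⟩

theorem mid_of_orth {x : Fin N → F} {c : M.C} (hq : 4 ≤ q) {z : Fin N → F} (h : M.Lift hF z x c)
    (hx : hermForm N F q x M.x0 = 0) : M.Adj hF M.c0 c := by
  obtain ⟨d, hd, hdx⟩ := M.exists_nbr (hF := hF) M.c0 (h.unit M) (by rw [vec_c0]; exact hx)
  obtain ⟨w, hw1, hw0, hwx⟩ := M.exists_mid (hF := hF) (h.unit M)
  obtain ⟨e, he, hew⟩ := M.exists_nbr (hF := hF) M.c0 hw1 (by rw [vec_c0]; exact hw0)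
  have hl := M.lift_nbr (hF := hF) he hd (by rw [hdx, hew]; exact hwx)
  rw [hdx] at hl
  have hne : x (lst hN 0) * x (lst hN 0) ^ q ≠ 1 := by
    rw [← herm_bv_right hF x, hx, zero_mul]; exact zero_ne_one
  rw [M.unique_nondeg (hF := hF) (Or.inr hq) (Or.inl hne) h hl]
  exact hd

/-- Adjacency over nondegenerate orthogonal vectors. -/
theorem adj_nondeg (hq : 4 ≤ q) {x y z z' : Fin N → F} {c c' : M.C} (h : M.Lift hF z x c)
    (h' : M.Lift hF z' y c') (ho : hermForm N F q x y = 0)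
    (hx : x (lst hN 0) * x (lst hN 0) ^ q ≠ 1) (hy : y (lst hN 0) * y (lst hN 0) ^ q ≠ 1) :
    M.Adj hF c c' := by
  have hx1 := h.unit M
  have hy1 := h'.unit M
  set a : F := x (lst hN 0)
  set b : F := y (lst hN 0)
  have ha : hermForm N F q x M.x0 = a := herm_bv_right hF _ _
  have hb : hermForm N F q y M.x0 = b := herm_bv_right hF _ _
  have hxx : hermForm N F q M.x0 M.x0 = 1 := bv_unit hF _
  have common : ∀ w : Fin N → F, M.Mid w x → M.Mid w y → M.Adj hF c c' := by
    intro w hwx hwy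
    obtain ⟨d, hd⟩ := M.exists_lift (hF := hF) hwx hx1
    obtain ⟨d', hd'⟩ := M.exists_lift (hF := hF) hwy hy1
    rw [M.unique_nondeg (hF := hF) (Or.inr hq) (Or.inl hx) h hd,
      M.unique_nondeg (hF := hF) (Or.inr hq) (Or.inl hy) h' hd']
    exact hd.adj M hd' ho
  have e1 : hermForm N F q M.x0 x = a ^ q := by rw [← herm_conj x M.x0 hF, ha]
  have e2 : hermForm N F q M.x0 y = b ^ q := by rw [← herm_conj y M.x0 hF, hb]
  by_cases hab : a * a ^ q + b * b ^ q = 1
  swap
  · obtain ⟨w, h1, h2, h3, h4⟩ := exists_unit_perp_three hF hN hx1 hy1 hxx ho (by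
      rw [e1, e2, pow_q_q hF, pow_q_q hF]; intro e; exact hab (by linear_combination e))
    exact common w ⟨h1, h4, h2⟩ ⟨h1, h4, h3⟩
  set p : Fin N → F := M.x0 - a ^ q • x - b ^ q • y with hp
  have hpx : hermForm N F q p x = 0 := by
    simp [hp, herm_sub_left, herm_smul_left, e1, hx1, herm_eq_zero_symm hF ho]
  have hpy : hermForm N F q p y = 0 := by
    simp [hp, herm_sub_left, herm_smul_left, e2, hy1, ho]
  have hp0 : hermForm N F q p M.x0 = 0 := by
    simp only [hp, herm_sub_left, herm_smul_left, ha, hb, hxx]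
    linear_combination -hab
  have hpp : hermForm N F q p p = 0 := by
    nth_rw 2 [hp]
    simp only [herm_sub_right _ _ _ hF, herm_smul_right, hp0, hpx, hpy, mul_zero, sub_zero]
  by_cases hpz : p = 0
  · obtain ⟨g, hg, hgo, -⟩ := (gramInj_orthonormal (b := ![x, y]) fun i j => by
      fin_cases i <;> fin_cases j <;> simp [hx1, hy1, ho, herm_eq_zero_symm hF ho]).exists_complement hF
    let i : Fin (N - Fintype.card (Fin 2)) := ⟨0, by simp; omega⟩
    have g0 : hermForm N F q (g i) M.x0 = 0 := by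
      rw [show M.x0 = a ^ q • x + b ^ q • y by rw [← sub_eq_zero, ← hpz, hp]; abel]
      simp [herm_add_right _ _ _ hF, herm_smul_right,
        show hermForm N F q (g i) x = 0 from hgo i 0, show hermForm N F q (g i) y = 0 from hgo i 1]
    exact common (g i) ⟨by simpa using hg i i, g0, hgo i 0⟩ ⟨by simpa using hg i i, g0, hgo i 1⟩
  -- no common middle vector: go through a quadrangle
  have hli : LinearIndependent F ![p, M.x0, x] := by
    rw [Fintype.linearIndependent_iff]
    intro e he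
    simp only [Fin.sum_univ_three, Matrix.cons_val_zero, Matrix.cons_val_one, Matrix.cons_val_two,
      Matrix.head_cons, Matrix.tail_cons] at he
    have f1 := congrArg (fun v => hermForm N F q v M.x0) he
    have f2 := congrArg (fun v => hermForm N F q v x) he
    simp [herm_add_left, herm_smul_left, herm_zero_left, hp0, hpx, hxx, hx1, ha, e1] at f1 f2
    have g2 : e 2 = 0 := by
      have h : e 2 * (1 - a * a ^ q) = 0 := by linear_combination f2 - a ^ q * f1
      exact (mul_eq_zero.1 h).resolve_right (sub_ne_zero.2 (Ne.symm hx))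
    rw [g2, zero_mul, add_zero] at f1
    have g0 : e 0 = 0 := by simpa [f1, g2, hpz] using he
    intro i; fin_cases i <;> assumption
  obtain ⟨f, hf, hf'⟩ := exists_partner hF hli 0 (fun i => by
    fin_cases i
    · simpa using hpp
    · simpa using herm_eq_zero_symm hF hp0
    · simpa using herm_eq_zero_symm hF hpx)
  have hb0 : b ≠ 0 := fun e => by
    rw [e, zero_mul, add_zero] at hab; exact hx hab
  obtain ⟨ν, hν, hν0, hν1, hνa⟩ := exists_fixed_avoid hF hq 0 1 (a * a ^ q)
  obtain ⟨m, hm⟩ := norm_surj hF hν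
  obtain ⟨T, hT⟩ := trace_surj hF (y := (1 : F)) (one_pow q)
  set μ : F := -(m * b)
  have hμ : μ ≠ 0 := neg_ne_zero.2 (mul_ne_zero (fun e => hν0 (by rw [← hm, e, zero_mul])) hb0)
  set w1 : Fin N → F := μ • f + (T / μ) ^ q • p
  have hfp : hermForm N F q f p = 1 := hf.symm' hF
  have hpf : hermForm N F q p f = 1 := hf.2.2
  have hff : hermForm N F q f f = 0 := hf.2.1
  have hf0 : hermForm N F q f M.x0 = 0 := by simpa using hf' 1 (by simp)
  have hfx : hermForm N F q f x = 0 := by simpa using hf' 2 (by simp)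
  have hfy : hermForm N F q f y * b = -1 := by
    have h := hfp
    simp only [hp, herm_sub_right _ _ _ hF, herm_smul_right, hf0, hfx, pow_q_q hF, mul_zero, sub_zero,
      zero_sub] at h
    linear_combination -h
  have hw1 : hermForm N F q w1 w1 = 1 := by
    simp only [w1, herm_add_left, herm_add_right _ _ _ hF, herm_smul_left, herm_smul_right, hff, hfp,
      hpf, hpp, mul_zero, mul_one, zero_add, add_zero, pow_q_q hF]
    rw [← mul_pow, div_mul_cancel₀ T hμ, mul_div_cancel₀ T hμ]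
    linear_combination hT
  have hw0 : hermForm N F q w1 M.x0 = 0 := by simp [w1, herm_add_left, herm_smul_left, hf0, hp0]
  have hwx : hermForm N F q w1 x = 0 := by simp [w1, herm_add_left, herm_smul_left, hfx, hpx]
  have hwy : hermForm N F q w1 y = m := by
    simp only [w1, herm_add_left, herm_smul_left, hpy, mul_zero, add_zero, μ]
    linear_combination (-m) * hfy
  have hyw : hermForm N F q y w1 = m ^ q := by rw [← herm_conj w1 y hF, hwy]
  obtain ⟨w2, k1, k2, k3, k4⟩ := exists_unit_perp_three hF hN hxx hw1 hy1 (herm_eq_zero_symm hF hw0) (by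
    rw [hb, hyw, pow_q_q hF, mul_comm (m ^ q), hm]
    intro e
    exact hνa (by linear_combination e - hab))
  obtain ⟨d1, hd1, hd1v⟩ := M.exists_nbr (hF := hF) M.c0 hw1 (by rw [vec_c0]; exact hw0)
  obtain ⟨d2, hd2, hd2v⟩ := M.exists_nbr (hF := hF) M.c0 k1 (by rw [vec_c0]; exact k2)
  obtain ⟨cx, hcx, hcxv⟩ := M.exists_nbr (hF := hF) d1 hx1 (by rw [hd1v]; exact herm_eq_zero_symm hF hwx)
  obtain ⟨cy, hcy, hcyv⟩ := M.exists_nbr (hF := hF) d2 hy1 (by rw [hd2v]; exact herm_eq_zero_symm hF k4)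
  obtain rfl : c = cx :=
    M.unique_nondeg (hF := hF) (Or.inr hq) (Or.inl hx) h (z' := w1) ⟨d1, hd1, hd1v, hcx, hcxv⟩
  obtain rfl : c' = cy :=
    M.unique_nondeg (hF := hF) (Or.inr hq) (Or.inl hy) h' (z' := w2) ⟨d2, hd2, hd2v, hcy, hcyv⟩
  obtain ⟨B, hB, hBv⟩ := M.exists_nbr (hF := hF) c hy1 (by rw [hcxv]; exact herm_eq_zero_symm hF ho)
  have hd12 := M.triangle hd1 hd2 (by rw [hd1v, hd2v]; exact herm_eq_zero_symm hF k3)
  rw [M.quad (hF := hF) (Or.inr hq) hd12 hcy hcx hB (hcyv.trans hBv.symm) (by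
    rw [hcyv, hd1v, hyw, pow_q_q hF, mul_comm, hm]; exact hν1)]
  exact hB

end Amalg

namespace Amalg

variable {hN : 4 ≤ 4} {G : Type*} [Group G] (M : Amalg q F hN G) {hF : Fintype.card F = q ^ 2}
include hF

/-- Lifts through two middle vectors with the difference along the tangent direction. -/
theorem tangent_step (hq : 4 ≤ q) {x r f z : Fin 4 → F} (hx1 : hermForm 4 F q x x = 1)
    (hxr : x = x (lst hN 0) • M.x0 + r) (hc : x (lst hN 0) * x (lst hN 0) ^ q = 1) (hh : Hyp q r f)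
    (hr0 : hermForm 4 F q r M.x0 = 0) (hf0 : hermForm 4 F q f M.x0 = 0)
    (hz1 : hermForm 4 F q z z = 1) (hz0 : hermForm 4 F q z M.x0 = 0) (hzr : hermForm 4 F q z r = 0)
    (hzf : hermForm 4 F q z f = 0) {φ δ α β : F} (hφ : φ * φ ^ q = 1) (hα : α ^ q = α) (hβ : β ^ q = β)
    (ha0 : α ≠ 0) (ha1 : α ≠ 1) (hb0 : β ≠ 0) (hb1 : β ≠ 1) (hD : δ * δ ^ q = α + β) {d d' : M.C}
    (hd : M.Lift hF z x d) (hd' : M.Lift hF (φ • z + δ • r) x d') : d = d' := by
  set c : F := x (lst hN 0)
  obtain ⟨s, hs⟩ := norm_surj hF (y := α⁻¹) (by rw [inv_pow, hα])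
  obtain ⟨t, ht⟩ := norm_surj hF (y := β⁻¹) (by rw [inv_pow, hβ])
  obtain ⟨σ, hσ⟩ := trace_surj hF (y := 1 - α) (by rw [sub_pow_q hF, one_pow, hα])
  set σ' : F := 1 - σ ^ q with hσ'
  have hσq : σ' ^ q = 1 - σ := by rw [hσ', sub_pow_q hF, one_pow, pow_q_q hF]
  set y : Fin 4 → F := s • M.x0 + (s * σ * c ^ q) • r + (-(s * c ^ q)) • f with hy
  set y' : Fin 4 → F := t • M.x0 + (t * σ' * c ^ q) • r + (-(t * c ^ q)) • f +
    (t * c ^ q * δ ^ q * φ) • z with hy'
  have h0r := herm_eq_zero_symm hF hr0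
  have h0f := herm_eq_zero_symm hF hf0
  have h0z := herm_eq_zero_symm hF hz0
  have hrz := herm_eq_zero_symm hF hzr
  have hfz := herm_eq_zero_symm hF hzf
  have h00 : hermForm 4 F q M.x0 M.x0 = 1 := bv_unit hF _
  have hcq : (c ^ q) ^ q = c := pow_q_q hF c
  have hs' : s * s ^ q * α = 1 := by rw [hs, inv_mul_cancel₀ ha0]
  have ht' : t * t ^ q * β = 1 := by rw [ht, inv_mul_cancel₀ hb0]
  have hzz : φ * φ ^ q = 1 := hφ
  have hyy : hermForm 4 F q y y = 1 := by
    simp only [hy, herm_add_left, herm_add_right _ _ _ hF, herm_smul_left, herm_smul_right, h00, h0r,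
      h0f, hr0, hf0, hh.1, hh.2.1, hh.2.2, hh.symm' hF, neg_pow_q hF, mul_pow, hcq,
      mul_zero, mul_one, add_zero, zero_add]
    linear_combination hs' - s * s ^ q * hσ - s * s ^ q * (σ + σ ^ q) * hc
  have hyx : hermForm 4 F q y x = 0 := by
    rw [hxr]
    simp only [hy, herm_add_left, herm_add_right _ _ _ hF, herm_smul_left, herm_smul_right, h00, h0r,
      hr0, hf0, hh.1, hh.symm' hF, mul_zero, mul_one, add_zero, zero_add]
    ring
  have hyz : hermForm 4 F q y z = 0 := by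
    simp [hy, herm_add_left, herm_neg_left, herm_smul_left, h0z, hrz, hfz]
  have hy0 : y (lst hN 0) = s := by
    rw [← herm_bv_right hF y]
    simp [hy, herm_add_left, herm_neg_left, herm_smul_left, h00, hr0, hf0]
  have hyy' : hermForm 4 F q y' y' = 1 := by
    simp only [hy', herm_add_left, herm_add_right _ _ _ hF, herm_smul_left, herm_smul_right, h00, h0r,
      h0f, h0z, hr0, hf0, hz0, hzr, hzf, hrz, hfz, hz1, hh.1, hh.2.1, hh.2.2, hh.symm' hF,
      neg_pow_q hF, mul_pow, hcq, pow_q_q hF, mul_zero, mul_one, add_zero, zero_add]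
    rw [hσq, hσ']
    linear_combination ht' + t * t ^ q * hσ + t * t ^ q * hD +
      t * t ^ q * (σ + σ ^ q - 2 + δ * δ ^ q * (φ * φ ^ q)) * hc + t * t ^ q * δ * δ ^ q * hzz
  have hyx' : hermForm 4 F q y' x = 0 := by
    rw [hxr]
    simp only [hy', herm_add_left, herm_add_right _ _ _ hF, herm_smul_left, herm_smul_right, h00, h0r,
      hr0, hf0, hz0, hzr, hh.1, hh.symm' hF, mul_zero, mul_one, add_zero, zero_add]
    ring
  have hyz' : hermForm 4 F q y' (φ • z + δ • r) = 0 := by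
    simp only [hy', herm_add_left, herm_add_right _ _ _ hF, herm_smul_left, herm_smul_right, h0r, h0z,
      hzr, hrz, hfz, hz1, hh.1, hh.symm' hF, mul_zero, mul_one, add_zero, zero_add]
    linear_combination t * c ^ q * δ ^ q * hzz
  have hyy0 : y' (lst hN 0) = t := by
    rw [← herm_bv_right hF y']
    simp [hy', herm_add_left, herm_neg_left, herm_smul_left, h00, hr0, hf0, hz0]
  have hoy : hermForm 4 F q y y' = 0 := by
    simp only [hy, hy', herm_add_left, herm_add_right _ _ _ hF, herm_smul_left, herm_smul_right, h00,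
      h0r, h0f, h0z, hr0, hf0, hrz, hfz, hh.1, hh.2.1, hh.2.2, hh.symm' hF,
      neg_pow_q hF, mul_pow, hcq, mul_zero, mul_one, add_zero, zero_add]
    rw [hσq]
    linear_combination (-(s * t ^ q)) * hc
  obtain ⟨cy, hcy⟩ := M.exists_lift (hF := hF) (z := z) (x := y)
    ⟨hz1, hz0, herm_eq_zero_symm hF hyz⟩ hyy
  obtain ⟨cy', hcy'⟩ := M.exists_lift (hF := hF) (z := φ • z + δ • r) (x := y')
    ⟨(hd'.mid M).1, (hd'.mid M).2.1, herm_eq_zero_symm hF hyz'⟩ hyy'
  have h1 := hcy.adj M hd hyx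
  have h2 := M.adj_nondeg (hF := hF) hq hcy hcy' hoy
    (by rw [hy0, hs]; exact fun e => ha1 (inv_eq_one.1 e))
    (by rw [hyy0, ht]; exact fun e => hb1 (inv_eq_one.1 e))
  have h3 := hcy'.adj M hd' hyx'
  obtain ⟨_, -, -, -, hvy'⟩ := id hcy'
  obtain ⟨_, -, -, -, hvd⟩ := id hd
  obtain ⟨_, -, -, -, hvd'⟩ := id hd'
  have h4 := M.triangle h2 h1 (by rw [hvy', hvd]; exact hyx')
  exact M.nbr_unique h4 h3 (hvd.trans hvd'.symm)

/-- Uniqueness in dimension four. -/
theorem unique_four (hq : 4 ≤ q) {x z z' : Fin 4 → F} {d d' : M.C} (h : M.Lift hF z x d)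
    (h' : M.Lift hF z' x d') : d = d' := by
  classical
  by_cases hx : x (lst hN 0) * x (lst hN 0) ^ q ≠ 1 ∨ x = x (lst hN 0) • M.x0
  · exact M.unique_nondeg (hF := hF) (Or.inr hq) hx h h'
  push Not at hx
  obtain ⟨hc, hxne⟩ := hx
  set c : F := x (lst hN 0) with hcdef
  set r : Fin 4 → F := x - c • M.x0 with hr
  have hx1 := h.unit M
  have hr0 : r ≠ 0 := sub_ne_zero.2 hxne
  have hrr : hermForm 4 F q r r = 0 := by
    simp only [hr, herm_sub_left, herm_sub_right _ _ _ hF, herm_smul_left, herm_smul_right,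
      herm_bv_right hF, hx1, ← herm_conj x M.x0 hF, Pi.sub_apply, Pi.smul_apply, Pi.single_eq_same,
      smul_eq_mul, mul_one, sub_self, mul_zero, sub_zero, hcdef]
    linear_combination -hc
  have hrx0 : hermForm 4 F q r M.x0 = 0 := by simp [hr, herm_bv_right hF, hcdef]
  have h0r := herm_eq_zero_symm hF hrx0
  have hmr : ∀ {w : Fin 4 → F}, M.Mid w x → hermForm 4 F q w r = 0 := fun {w} hw => by
    rw [hr, herm_sub_right _ _ _ hF, herm_smul_right, hw.2.2, hw.2.1, mul_zero, sub_zero]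
  have hfr : ∀ {w : Fin 4 → F}, M.Mid w x → ∃ f, Hyp q r f ∧ hermForm 4 F q f M.x0 = 0 ∧
      hermForm 4 F q w f = 0 ∧
      ∀ {u : Fin 4 → F}, M.Mid u x → ∃ φ δ : F, φ * φ ^ q = 1 ∧ u = φ • w + δ • r := by
    intro w hw
    have hrw := herm_eq_zero_symm hF (hmr hw)
    obtain ⟨f, hf, hf'⟩ := exists_partner hF (b := ![r, M.x0, w]) (j := 0) (by
        rw [Fintype.linearIndependent_iff]
        intro e he
        simp only [Fin.sum_univ_three, Matrix.cons_val_zero, Matrix.cons_val_one, Matrix.cons_val_two,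
          Matrix.head_cons, Matrix.tail_cons] at he
        have e1 := congrArg (fun v => hermForm 4 F q v M.x0) he
        have e2 := congrArg (fun v => hermForm 4 F q v w) he
        simp [herm_add_left, herm_smul_left, herm_zero_left, hrx0, hrw, hw.1, hw.2.1, herm_bv hF,
          herm_eq_zero_symm hF hw.2.1] at e1 e2
        have e0 : e 0 = 0 := by
          simp [e1, e2] at he
          exact he.resolve_right hr0
        intro i; fin_cases i <;> assumption) (fun i => by
        fin_cases i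
        · simpa using hrr
        · simpa using h0r
        · simpa using hmr hw)
    have hf : Hyp q r f := by simpa using hf
    have hfx0 : hermForm 4 F q f M.x0 = 0 := by simpa using hf' 1 (by simp)
    have hfw : hermForm 4 F q f w = 0 := by simpa using hf' 2 (by simp)
    have hwf := herm_eq_zero_symm hF hfw
    refine ⟨f, hf, hfx0, hwf, fun {u} hu => ?_⟩
    set φ := hermForm 4 F q u w
    set δ := hermForm 4 F q u f
    have hu0 : u - φ • w - δ • r = 0 := by
      refine eq_zero_of_four (x₁ := r) (x₂ := f) (x₃ := w) (x₄ := M.x0) hF ?_ ?_ ?_ ?_ ?_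
      · rw [Fintype.linearIndependent_iff]
        intro e he
        simp only [Fin.sum_univ_four, Matrix.cons_val_zero, Matrix.cons_val_one, Matrix.cons_val_two,
          Matrix.cons_val_three, Matrix.head_cons, Matrix.tail_cons] at he
        have e1 := congrArg (fun v => hermForm 4 F q v M.x0) he
        have e2 := congrArg (fun v => hermForm 4 F q v w) he
        have e3 := congrArg (fun v => hermForm 4 F q v r) he
        have e4 := congrArg (fun v => hermForm 4 F q v f) he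
        simp [herm_add_left, herm_smul_left, herm_zero_left, hrx0, h0r, hrw, hw.1, hw.2.1, hfx0,
          hfw, hwf, hrr, hf.2.1, hf.2.2, hf.symm' hF, hmr hw, herm_bv hF,
          herm_eq_zero_symm hF hw.2.1, herm_eq_zero_symm hF hfx0] at e1 e2 e3 e4
        intro i; fin_cases i <;> assumption
      · simp [herm_sub_left, herm_smul_left, hmr hu, hmr hw, hrr, φ]
      · simp [herm_sub_left, herm_smul_left, hwf, hf.2.2, δ]
      · simp [herm_sub_left, herm_smul_left, hw.1, hrw, φ]
      · simp [herm_sub_left, herm_smul_left, hu.2.1, hw.2.1, hrx0]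
    have hu' : u = φ • w + δ • r := by rw [← sub_eq_zero, ← hu0]; abel
    refine ⟨φ, δ, ?_, hu'⟩
    have h1 := hu.1
    rw [hu'] at h1
    simp [herm_add_left, herm_add_right _ _ _ hF, herm_smul_left, herm_smul_right, hw.1, hmr hw, hrw,
      hrr] at h1
    linear_combination h1
  have step : ∀ {w u : Fin 4 → F} {e e' : M.C}, M.Lift hF w x e → M.Lift hF u x e' →
      ∀ φ δ α β : F, φ * φ ^ q = 1 → u = φ • w + δ • r → α ^ q = α → β ^ q = β → α ≠ 0 → α ≠ 1 →
        β ≠ 0 → β ≠ 1 → δ * δ ^ q = α + β → e = e' := by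
    intro w u e e' he he' φ δ α β hφ hu hα hβ h1 h2 h3 h4 hD
    obtain ⟨f, hf, hfx0, hwf, -⟩ := hfr (he.mid M)
    subst hu
    exact M.tangent_step (hF := hF) hq hx1 (by rw [hr, add_sub_cancel]) hc hf hrx0 hfx0 (he.mid M).1
      (he.mid M).2.1 (hmr (he.mid M)) hwf hφ hα hβ h1 h2 h3 h4 hD he he'
  obtain ⟨f, hf, -, -, hspan⟩ := hfr (h.mid M)
  obtain ⟨φ, δ, hφ, hz'⟩ := hspan (h'.mid M)
  have hfix : (δ * δ ^ q) ^ q = δ * δ ^ q := by rw [mul_pow, pow_q_q hF, mul_comm]
  by_cases hq5 : 5 ≤ q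
  · obtain ⟨α, β, hα, hβ, h1, h2, h3, h4, hD⟩ := exists_fixed_sum hF hq5 hfix
    exact step h h' φ δ α β hφ hz' hα hβ h1 h2 h3 h4 hD
  obtain rfl : q = 4 := by omega
  -- in characteristic two
  have h16 : ((2 : F)) = 0 := by
    have h := FiniteField.cast_card_eq_zero F
    rw [hF] at h
    have : (2 : F) ^ 4 = 0 := by push_cast at h; linear_combination h
    exact eq_zero_of_pow_eq_zero this
  obtain ⟨ω, hω, hω0, hω1, -⟩ := exists_fixed_avoid hF le_rfl 0 1 1
  have small : ∀ D : F, D ^ 4 = D → D ≠ 0 → D ≠ 1 → D * D + D + 1 = 0 := by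
    intro D hD h0 h1
    have h : D * (D - 1) * (D * D + D + 1) = 0 := by linear_combination hD
    exact (mul_eq_zero.1 h).resolve_left (mul_ne_zero h0 (sub_ne_zero.2 h1))
  have hω2 := small ω hω hω0 hω1
  -- norms zero and one are sums of two admissible values
  have good : ∀ {D : F}, D = 0 ∨ D = 1 → ∃ α β : F, α ^ 4 = α ∧ β ^ 4 = β ∧ α ≠ 0 ∧ α ≠ 1 ∧
      β ≠ 0 ∧ β ≠ 1 ∧ D = α + β := by
    rintro D (rfl | rfl)
    · exact ⟨ω, ω, hω, hω, hω0, hω1, hω0, hω1, by linear_combination (-ω) * h16⟩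
    · refine ⟨ω, ω + 1, hω, ?_, hω0, hω1, fun e => hω1 ?_, fun e => hω0 (by linear_combination e), ?_⟩
      · linear_combination hω + (2 * ω ^ 3 + 3 * ω ^ 2 + 2 * ω) * h16
      · linear_combination e - h16
      · linear_combination (-ω) * h16
  by_cases hD : δ * δ ^ 4 = 0 ∨ δ * δ ^ 4 = 1
  · obtain ⟨α, β, hα, hβ, h1, h2, h3, h4, he⟩ := good hD
    exact step h h' φ δ α β hφ hz' hα hβ h1 h2 h3 h4 he
  push Not at hD
  have hδ0 : δ ≠ 0 := fun e => hD.1 (by rw [e, zero_mul])
  set u : F := (δ * δ ^ 4)⁻¹ with hu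
  have hu4 : u ^ 4 = u := by rw [hu, inv_pow, hfix]
  have hu2 := small u hu4 (inv_ne_zero hD.1) (fun e => hD.2 (inv_eq_one.1 e))
  -- write `1` as a sum of two elements of norm `u`
  obtain ⟨w0, hw0⟩ := trace_surj hF (y := (1 : F)) (one_pow 4)
  set n := w0 * w0 ^ 4 with hn
  have hn4 : n ^ 4 = n := by rw [hn, mul_pow, pow_q_q hF, mul_comm]
  have hn0 : n ≠ 0 := fun e => by
    rcases mul_eq_zero.1 (hn.symm.trans e) with e | e
    · rw [e, zero_add, zero_pow (by norm_num)] at hw0; exact zero_ne_one hw0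
    · rw [eq_zero_of_pow_eq_zero e, zero_add, zero_pow (by norm_num)] at hw0; exact zero_ne_one hw0
  have hn1 : n ≠ 1 := fun e => by
    have e2 : w0 * w0 + w0 + 1 = 0 := by
      linear_combination w0 * hw0 - hn.symm.trans e + w0 * h16
    have e4 : w0 ^ 4 = w0 := by linear_combination (w0 * w0 - w0) * e2
    rw [e4] at hw0
    exact zero_ne_one (α := F) (by linear_combination hw0 - w0 * h16)
  have hn2 := small n hn4 hn0 hn1
  obtain ⟨w1, hw1, hw1'⟩ : ∃ w1 : F, w1 + w1 ^ 4 = 1 ∧ w1 * w1 ^ 4 = u := by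
    have h : (u - n) * (u - n - 1) = 0 := by linear_combination hu2 + hn2 - (u * n + u + 1) * h16
    rcases mul_eq_zero.1 h with h | h
    · exact ⟨w0, hw0, hn.symm.trans (by linear_combination -h)⟩
    · refine ⟨w0 + u, ?_, ?_⟩
      · rw [add_pow_q hF, hu4]; linear_combination hw0 + u * h16
      · rw [add_pow_q hF, hu4]
        linear_combination hn.symm + u * hw0 + hu2 - h - h16
  set w2 : F := 1 - w1 with hw2
  have hw2' : w2 * w2 ^ 4 = u := by
    rw [hw2, sub_pow_q hF, one_pow]; linear_combination hw1' - hw1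
  have hnorm : ∀ w : F, w * w ^ 4 = u → (δ * w) * (δ * w) ^ 4 = 1 := fun w hw => by
    rw [mul_pow, mul_mul_mul_comm, hw, hu, mul_inv_cancel₀ hD.1]
  have hrm : ∀ {e : F}, M.Mid (φ • z + e • r) x := fun {e} => by
    obtain ⟨a1, a2, a3⟩ := h.mid M
    have hrx : hermForm 4 F 4 r x = 0 := by
      have : x = c • M.x0 + r := by rw [hr, add_sub_cancel]
      rw [this, herm_add_right _ _ _ hF, herm_smul_right, hrx0, hrr, mul_zero, add_zero]
    refine ⟨?_, ?_, ?_⟩
    · simp [herm_add_left, herm_add_right _ _ _ hF, herm_smul_left, herm_smul_right, a1, hrr,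
        hmr (h.mid M), herm_eq_zero_symm hF (hmr (h.mid M))]
      linear_combination hφ
    · simp [herm_add_left, herm_smul_left, a2, hrx0]
    · simp [herm_add_left, herm_smul_left, a3, hrx]
  obtain ⟨e, he⟩ := M.exists_lift (hF := hF) (hrm (e := δ * w1)) hx1
  obtain ⟨α, β, hα, hβ, h1, h2, h3, h4, hs⟩ := good (Or.inr (hnorm w1 hw1'))
  rw [step h he φ (δ * w1) α β hφ rfl hα hβ h1 h2 h3 h4 hs]
  obtain ⟨α, β, hα, hβ, h1, h2, h3, h4, hs⟩ := good (Or.inr (hnorm w2 hw2'))
  refine step he h' 1 (δ * w2) α β (by rw [one_pow, one_mul]) ?_ hα hβ h1 h2 h3 h4 hs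
  rw [hz', hw2, one_smul, add_assoc, ← add_smul]
  congr 2
  ring

/-- The extension theorem in dimension four. -/
theorem exists_hom_four (hq : 4 ≤ q) :
    ∃ f : Cfsg.SU 4 F q →* G, (∀ g h, f g = M.φH ⟨g, h⟩) ∧ ∀ g h, f g = M.φK ⟨g, h⟩ := by
  refine M.exists_hom_of_lifts hF (Or.inr hq) (fun x hx => M.exists_mid (hF := hF) hx)
    (fun h h' => M.unique_four (hF := hF) hq h h') ?_
  have orth : ∀ {x y z z' : Fin 4 → F} {c c' : M.C}, M.Lift hF z x c → M.Lift hF z' y c' →
      hermForm 4 F q x y = 0 → hermForm 4 F q x M.x0 = 0 → M.Adj hF c c' := by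
    intro x y z z' c c' h h' ho hx
    have hd := M.mid_of_orth (hF := hF) hq h hx
    obtain ⟨_, -, -, -, hv⟩ := id h
    obtain ⟨d, hd'⟩ := M.exists_lift (hF := hF) (z := x) (x := y) ⟨h.unit M, hx, ho⟩ (h'.unit M)
    rw [M.unique_four (hF := hF) hq h' hd']
    obtain ⟨e, e1, e2, e3, -⟩ := hd'
    obtain rfl : c = e := M.nbr_unique hd e1 (hv.trans e2.symm)
    exact e3
  intro x y z z' c c' h h' ho
  by_cases hx : hermForm 4 F q x M.x0 = 0
  · exact orth h h' ho hx
  by_cases hy : hermForm 4 F q y M.x0 = 0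
  · exact (orth h' h (herm_eq_zero_symm hF ho) hy).symm M
  have ha : hermForm 4 F q M.x0 x = x (lst hN 0) ^ q := by
    rw [← herm_conj x M.x0 hF, herm_bv_right hF]
  have hb : hermForm 4 F q M.x0 y = y (lst hN 0) ^ q := by
    rw [← herm_conj y M.x0 hF, herm_bv_right hF]
  rw [herm_bv_right hF] at hx hy
  by_cases hab : x (lst hN 0) * x (lst hN 0) ^ q + y (lst hN 0) * y (lst hN 0) ^ q = 1
  · have hne : ∀ w : F, w ≠ 0 → w * w ^ q ≠ 0 := fun w hw => mul_ne_zero hw (pow_ne_zero _ hw)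
    exact M.adj_nondeg (hF := hF) hq h h' ho
      (fun e => hne _ hy (by linear_combination hab - e)) (fun e => hne _ hx (by linear_combination hab - e))
  obtain ⟨w, h1, h2, h3, h4⟩ := exists_unit_perp_three hF hN (h.unit M) (h'.unit M)
    (w := M.x0) (bv_unit hF _) ho (by
      rw [ha, hb, pow_q_q hF, pow_q_q hF]; intro e; exact hab (by linear_combination e))
  obtain ⟨d, hd⟩ := M.exists_lift (hF := hF) (z := w) (x := x) ⟨h1, h4, h2⟩ (h.unit M)
  obtain ⟨d', hd'⟩ := M.exists_lift (hF := hF) (z := w) (x := y) ⟨h1, h4, h3⟩ (h'.unit M)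
  rw [M.unique_four (hF := hF) hq h hd, M.unique_four (hF := hF) hq h' hd']
  exact hd.adj M hd' ho

end Amalg

end Cfsg.Agent.Lib.Phan
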