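import Cfsg.Agent.Lib.Phan.Cover

/-!
# Phan's theorem, part 5

Lifts do not depend on the middle vector, and exist.
-/

set_option autoImplicit false
set_option linter.unusedSectionVars false

namespace Cfsg.Agent.Lib.Phan

open Matrix Module Cfsg.Agent.Lib.Unitary

variable {F : Type*} [Field F] [Fintype F] {q N : ℕ}

theorem exists_unit_of_ne_zero (hF : Fintype.card F = q ^ 2) {u : Fin N → F}
    (hu : hermForm N F q u u ≠ 0) :
    ∃ a : F, a ≠ 0 ∧ hermForm N F q (a • u) (a • u) = 1 := by
  obtain ⟨a, ha⟩ := norm_surj hF (y := (hermForm N F q u u)⁻¹) (by rw [inv_pow, herm_self_fixed u hF])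
  refine ⟨a, fun h => hu ?_, ?_⟩
  · rw [h, zero_mul, eq_comm, inv_eq_zero] at ha; exact ha
  · rw [herm_smul_left, herm_smul_right, ← mul_assoc, ha, inv_mul_cancel₀ hu]

theorem top_two {hN : 4 ≤ N} {i : Fin N} (hi : i ∈ top N 2) : i = lst hN 0 ∨ i = lst hN 1 := by
  have h := mem_top.1 hi
  rcases (show (i : ℕ) = N - 1 ∨ (i : ℕ) = N - 2 by omega) with e | e
  · exact Or.inl (Fin.ext (by simp [lst, e]))
  · exact Or.inr (Fin.ext (by simp [lst, e]; omega))

theorem top_three {hN : 4 ≤ N} {i : Fin N} (hi : i ∈ top N 3) :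
    i = lst hN 0 ∨ i = lst hN 1 ∨ i = lst hN 2 := by
  have h := mem_top.1 hi
  rcases (show (i : ℕ) = N - 1 ∨ (i : ℕ) = N - 2 ∨ (i : ℕ) = N - 3 by omega) with e | e | e
  · exact Or.inl (Fin.ext (by simp [lst, e]))
  · exact Or.inr (Or.inl (Fin.ext (by simp [lst, e]; omega)))
  · exact Or.inr (Or.inr (Fin.ext (by simp [lst, e]; omega)))

theorem act_zero (g : Cfsg.SU N F q) : act g (0 : Fin N → F) = 0 := by simp [act]

/-- A norm one vector orthogonal to an orthonormal family and one more vector. -/
theorem exists_unit_perp (hF : Fintype.card F = q ^ 2) {k : ℕ} {v : Fin k → Fin N → F}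
    (hv : Orthonormal' q v) (x : Fin N → F) (hk : k + 3 ≤ N) :
    ∃ z, hermForm N F q z z = 1 ∧ hermForm N F q z x = 0 ∧ ∀ i, hermForm N F q z (v i) = 0 := by
  classical
  set W : Submodule F (Fin N → F) := Submodule.span F (Set.range (Fin.cons x v : Fin (k + 1) → Fin N → F))
  have hmem : ∀ z, z ∈ perp q W ↔ hermForm N F q z x = 0 ∧ ∀ i, hermForm N F q z (v i) = 0 := fun z => by
    rw [mem_perp_span_range hF, Fin.forall_fin_succ]; simp
  by_contra hcon
  push Not at hcon
  have hiso : ∀ z ∈ perp q W, hermForm N F q z z = 0 := by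
    intro z hz
    by_contra h0
    obtain ⟨a, -, h1⟩ := exists_unit_of_ne_zero hF h0
    obtain ⟨hzx, hzv⟩ := (hmem (a • z)).1 ((perp q W).smul_mem a hz)
    obtain ⟨i, hi⟩ := hcon _ h1 hzx
    exact hi (hzv i)
  have hle : perp q W ≤ W := by
    intro z hz
    rw [← perp_perp hF W]
    intro u hu
    refine eq_zero_of_trace_mul_eq_zero hF fun c => ?_
    have h := hiso (c • z + u) ((perp q W).add_mem ((perp q W).smul_mem c hz) hu)
    simp only [herm_add_left, herm_add_right _ _ _ hF, herm_smul_left, herm_smul_right,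
      hiso z hz, hiso u hu, mul_zero, add_zero, zero_add] at h
    rw [mul_pow, herm_conj z u hF]
    linear_combination h
  set p : Fin N → F := x - ∑ i, hermForm N F q x (v i) • v i
  have hle' : perp q W ≤ Submodule.span F {p} := by
    intro z hz
    obtain ⟨c, hc⟩ := (Submodule.mem_span_range_iff_exists_fun F).1 (hle hz)
    have hz' := ((hmem z).1 hz).2
    rw [Fin.sum_univ_succ] at hc
    simp only [Fin.cons_zero, Fin.cons_succ] at hc
    have hcj : ∀ j : Fin k, c j.succ = -(c 0 * hermForm N F q x (v j)) := fun j => by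
      have h := hz' j
      rw [← hc, herm_add_left, herm_smul_left, orthonormal_coeff hv (fun i => c i.succ) j] at h
      linear_combination h
    refine Submodule.mem_span_singleton.2 ⟨c 0, ?_⟩
    rw [← hc]
    simp only [hcj, p, sub_eq_add_neg, smul_add, smul_neg, Finset.smul_sum, smul_smul, neg_smul,
      Finset.sum_neg_distrib]
  have h1 := Submodule.finrank_mono hle'
  have h2 := finrank_span_le_card (R := F) ({p} : Set (Fin N → F))
  have h3 := finrank_perp hF W
  have h4 : finrank F W ≤ k + 1 := (finrank_range_le_card _).trans (by simp)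
  simp at h2
  omega

namespace Amalg

variable {hN : 4 ≤ N} {G : Type*} [Group G] (M : Amalg q F hN G) {hF : Fintype.card F = q ^ 2}
include hF

/-- Over a vector supported on the last coordinates, the lift through a vector on the first ones. -/
theorem lift_top {j : ℕ} (hj : 2 ≤ j) (hj' : j ≤ 3) (hjN : j + 2 ≤ N)
    (b : fix q F ({i0 hN} : Finset (Fin N))) (hb : b.1 ∈ fix q F (bot N j)) {z : Fin N → F}
    (hz : hermForm N F q z z = 1) (hoff : Off (top N j) z) :
    M.Lift hF z (act b.1 M.x0) (M.lK b • M.c0) := by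
  have hi0 : lst hN j ≠ i0 hN := lst_ne_i0 (by omega)
  have hil : lst hN j ≠ lst hN 0 := lst_ne (by omega) (by omega) (by omega)
  obtain ⟨k, ek, -⟩ := M.exists_kk (hF := hF) (i := lst hN j) (j := lst hN 0) hi0
    (lst_ne_i0 (by omega)) hil
  have h1 := M.adj_bv (hF := hF) hi0 hil k ek
  have h2 : M.lK b • M.lK k • M.c0 = M.lK k • M.c0 := by
    rw [← mul_smul, ← map_mul]
    refine M.K_eq _ _ ?_
    rw [Subgroup.coe_mul, act_mul, ek, mem_fix.1 hb _ (lst_mem_bot le_rfl (by omega))]
  have h3 : M.Lift hF (bv (lst hN j)) (act b.1 M.x0) (M.lK b • M.c0) := by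
    refine ⟨M.lK k • M.c0, h1, by rw [vec_lK_c0, ek], ?_, M.vec_lK_c0 b⟩
    have := (h1.smul M (M.lK b)).symm M
    rwa [h2] at this
  obtain ⟨a, ha, ea⟩ := exists_fix_unit hF (top N j) (by have := card_top N j; omega)
    (off_bv (i := lst hN j) (by rw [mem_top]; simp only [lst]; omega)) hoff (bv_unit hF _) hz
  have hx : act a (act b.1 M.x0) = act b.1 M.x0 := act_eq_self_of_off ha fun i hi =>
    (off_bv (i := lst hN 0) (by rw [mem_bot]; simp only [lst]; omega)).act hF hb i
      (by rw [mem_bot]; rw [mem_top] at hi; omega)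
  have h4 := h3.smul M ⟨a, fix_top_le (by omega) ha⟩
  rw [M.lH_lK_c0 hj hj' hF (a := ⟨a, fix_top_le (by omega) ha⟩) ha hb] at h4
  simpa [ea, hx] using h4

/-- Lifts through middle vectors supported on the first coordinates after a move agree. -/
theorem eq_of_off {j : ℕ} (hj : 2 ≤ j) (hj' : j ≤ 3) (hjN : j + 2 ≤ N)
    {h : fix q F ({lst hN 0} : Finset (Fin N))} {b : fix q F ({i0 hN} : Finset (Fin N))}
    (hb : b.1 ∈ fix q F (bot N j)) {z x : Fin N → F} {c : M.C} (hc : M.Lift hF z x c)
    (hx : x = act h.1 (act b.1 M.x0)) (hoff : Off (top N j) (act h.1⁻¹ z)) :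
    c = M.lH h • M.lK b • M.c0 := by
  have h0 := (M.lift_top (hF := hF) hj hj' hjN b hb (z := act h.1⁻¹ z)
    (by rw [act_herm]; exact (hc.mid M).1) hoff).smul M h
  rw [act_act_inv, ← hx] at h0
  exact hc.unique M h0

theorem exists_bot {j : ℕ} (hj : 2 ≤ j) (hjN : j + 2 ≤ N) {v : Fin N → F}
    (hv : Off (bot N j) v) (hv1 : hermForm N F q v v = 1) :
    ∃ b : fix q F ({i0 hN} : Finset (Fin N)), b.1 ∈ fix q F (bot N j) ∧ act b.1 M.x0 = v := by
  obtain ⟨g, hg, e⟩ := exists_fix_unit hF (bot N j) (by have := card_bot N j; omega)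
    (off_bv (i := lst hN 0) (by rw [mem_bot]; simp only [lst]; omega)) hv (bv_unit hF _) hv1
  exact ⟨⟨g, fix_bot_le (by omega) hg⟩, hg, e⟩

theorem mid_off0 {z x : Fin N → F} (h : M.Mid z x)
    (g : fix q F ({lst hN 0} : Finset (Fin N))) : Off ({lst hN 0} : Finset (Fin N)) (act g.1⁻¹ z) :=
  (M.off_of_orth (hF := hF) h.2.1).act hF (inv_mem g.2)

/-- Uniqueness over the nondegenerate vectors and the multiples of the base vector. -/
theorem unique_nondeg (hq : 5 ≤ N ∨ 4 ≤ q) {x : Fin N → F}
    (hx : x (lst hN 0) * x (lst hN 0) ^ q ≠ 1 ∨ x = x (lst hN 0) • M.x0)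
    {z z' : Fin N → F} {c c' : M.C} (h : M.Lift hF z x c) (h' : M.Lift hF z' x c') : c = c' := by
  have hx1 := h.unit M
  rcases hx with hx | hx
  · set a : F := x (lst hN 0)
    set u : Fin N → F := x - a • M.x0 with hu
    have huu : hermForm N F q u u = 1 - a * a ^ q := by
      simp only [hu, herm_sub_left, herm_sub_right _ _ _ hF, herm_smul_left, herm_smul_right,
        herm_bv_right hF, hx1, ← herm_conj x M.x0 hF, Pi.sub_apply, Pi.smul_apply, Pi.single_eq_same,
        smul_eq_mul, mul_one, sub_self, mul_zero, sub_zero, a]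
    have hu0 : hermForm N F q u u ≠ 0 := by rw [huu]; exact sub_ne_zero.2 (Ne.symm hx)
    obtain ⟨r, hr0, hr⟩ := exists_unit_of_ne_zero hF hu0
    have h10 : lst hN 1 ≠ lst hN 0 := lst_ne (by omega) (by omega) (by omega)
    obtain ⟨g, hg, eg⟩ := exists_fix_unit hF ({lst hN 0} : Finset (Fin N)) (by simp; omega)
      (off_bv (i := lst hN 1) (by simpa using h10))
      (off_smul r (off_single.2 (show u (lst hN 0) = 0 by simp [hu, a]))) (bv_unit hF _) hr
    set v : Fin N → F := a • M.x0 + r⁻¹ • M.x1 with hv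
    have hxv : x = act g v := by
      rw [hv, act_add, act_smul, act_smul, eg, mem_fix.1 hg _ (by simp), smul_smul,
        inv_mul_cancel₀ hr0, one_smul, hu, add_sub_cancel]
    have hvoff : Off (bot N 2) v := fun i hi => by
      have h1 : i ≠ lst hN 0 := fun e => by
        rw [e, mem_bot] at hi; simp only [lst] at hi; omega
      have h2 : i ≠ lst hN 1 := fun e => by
        rw [e, mem_bot] at hi; simp only [lst] at hi; omega
      simp [hv, h1, h2]
    obtain ⟨b, hb, eb⟩ := M.exists_bot (hF := hF) (j := 2) (by omega) (by omega) hvoff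
      (by rw [← act_herm g, ← hxv, hx1])
    have key : ∀ {w : Fin N → F} {d : M.C}, M.Lift hF w x d → d = M.lH ⟨g, hg⟩ • M.lK b • M.c0 := by
      intro w d hd
      refine M.eq_of_off (hF := hF) le_rfl (by omega) (by omega) hb hd (by rw [eb]; exact hxv) ?_
      intro i hi
      have h0 := M.mid_off0 (hF := hF) (hd.mid M) ⟨g, hg⟩ _ (Finset.mem_singleton_self _)
      rcases top_two (hN := hN) hi with rfl | rfl
      · exact h0
      · have h3 := (hd.mid M).2.2
        rw [hxv, ← act_herm g⁻¹, act_inv_act, hv, herm_add_right _ _ _ hF, herm_smul_right,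
          herm_smul_right, herm_bv_right hF, herm_bv_right hF, h0, mul_zero, zero_add] at h3
        exact (mul_eq_zero.1 h3).resolve_left (pow_ne_zero _ (inv_ne_zero hr0))
    rw [key h, key h']
  · have hvoff : Off (bot N 2) x := by
      rw [hx]
      exact off_smul _ (off_bv (i := lst hN 0) (by rw [mem_bot]; simp only [lst]; omega))
    obtain ⟨b, hb, eb⟩ := M.exists_bot (hF := hF) (j := 2) (by omega) (by omega) hvoff hx1
    let T : Subgroup (fix q F ({lst hN 0} : Finset (Fin N))) :=
      (MulAction.stabilizer M.P (M.lK b • M.c0)).comap M.lH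
    let S : Subgroup (Cfsg.SU N F q) := T.map (fix q F ({lst hN 0} : Finset (Fin N))).subtype
    have hS1 : fix q F (insert (lst hN 1) {lst hN 0}) ≤ S := fun g hg => by
      have hgH : g ∈ fix q F ({lst hN 0} : Finset (Fin N)) := fix_mono (by simp) hg
      refine ⟨⟨g, hgH⟩, ?_, rfl⟩
      show M.lH ⟨g, hgH⟩ • M.lK b • M.c0 = _
      exact M.lH_lK_c0 le_rfl (by omega) hF
        (fix_mono (fun i hi => by rcases top_two (hN := hN) hi with rfl | rfl <;> simp) hg) hb
    have hS0 : fix q F (insert (i0 hN) {lst hN 0}) ≤ S := fun g hg => by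
      have hgH : g ∈ fix q F ({lst hN 0} : Finset (Fin N)) := fix_mono (by simp) hg
      have hgK : g ∈ fix q F ({i0 hN} : Finset (Fin N)) := fix_mono (by simp) hg
      refine ⟨⟨g, hgH⟩, ?_, rfl⟩
      show M.lH ⟨g, hgH⟩ • M.lK b • M.c0 = _
      rw [M.lH_eq_lK hgH hgK, ← mul_smul, ← map_mul]
      refine M.K_eq _ _ ?_
      rw [Subgroup.coe_mul, act_mul, eb, hx, act_smul, mem_fix.1 hgH _ (by simp)]
    have key : ∀ {w : Fin N → F} {d : M.C}, M.Lift hF w x d → d = M.lK b • M.c0 := by
      intro w d hd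
      obtain ⟨g, hg, eg⟩ := reach hF (i := lst hN 1) (j := i0 hN) (s := {lst hN 0}) (lst_ne_i0 (by omega))
        (by simpa using lst_ne (hN := hN) (a := 1) (b := 0) (by omega) (by omega) (by omega))
        (by simpa using (lst_ne_i0 (hN := hN) (a := 0) (by omega)).symm)
        (by simp; omega) hS1 hS0 (M.off_of_orth (hF := hF) (hd.mid M).2.1) (hd.mid M).1
      obtain ⟨g, hgT, rfl⟩ := hg
      have h1 := hd.smul M g
      rw [show act g.1 w = bv (i0 hN) from eg,
        show act g.1 x = x by rw [hx, act_smul, mem_fix.1 g.2 _ (by simp)]] at h1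
      have h2 := M.lift_top (hF := hF) le_rfl (by omega) (by omega) b hb (z := bv (i0 hN)) (bv_unit hF _)
        (off_bv (by rw [mem_top]; simp only [i0]; omega))
      rw [eb] at h2
      exact smul_left_cancel (M.lH g) ((h1.unique M h2).trans
        (show M.lH g • M.lK b • M.c0 = _ from hgT).symm)
    rw [key h, key h']

theorem exists_r0 : ∃ r f : Fin N → F, Hyp q r f ∧ r ≠ 0 ∧ Off (insert (lst hN 0) (bot N 3)) r ∧
    Off (insert (lst hN 0) (bot N 3)) f := by
  have h12 : lst hN 1 ≠ lst hN 2 := lst_ne (by omega) (by omega) (by omega)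
  have hm : ∀ a, 1 ≤ a → a ≤ 2 → Off (insert (lst hN 0) (bot N 3)) (bv (lst hN a) : Fin N → F) :=
    fun a ha ha' => off_bv (by
      simp only [Finset.mem_insert, mem_bot, not_or]
      exact ⟨lst_ne (by omega) (by omega) (by omega), by simp only [lst]; omega⟩)
  obtain ⟨ζ, hζ⟩ := norm_surj hF (y := (-1 : F)) (by rw [neg_pow_q hF, one_pow])
  set r : Fin N → F := bv (lst hN 1) + ζ • bv (lst hN 2) with hr
  have hrr : hermForm N F q r r = 0 := by
    simp only [hr, herm_add_left, herm_add_right _ _ _ hF, herm_smul_left, herm_smul_right, herm_bv hF,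
      if_pos, if_neg h12, if_neg h12.symm]
    linear_combination hζ
  have hr0 : r ≠ 0 := fun e => by simpa [hr, h12] using congrFun e (lst hN 1)
  have hro : Off (insert (lst hN 0) (bot N 3)) r :=
    off_add (hm 1 le_rfl (by omega)) (off_smul _ (hm 2 (by omega) le_rfl))
  obtain ⟨f, hf, hh⟩ := exists_partner_off hF hro hr0 hrr
  exact ⟨r, f, hh, hr0, hro, hf⟩

/-- A move taking a tangent vector and a partner into the last three coordinates. -/
theorem exists_tangent_move (hN5 : 5 ≤ N) {x : Fin N → F} (hx1 : hermForm N F q x x = 1)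
    (hx : x (lst hN 0) * x (lst hN 0) ^ q = 1) {f : Fin N → F}
    (hh : Hyp q (x - x (lst hN 0) • M.x0) f) (hf : f (lst hN 0) = 0) :
    ∃ (h : fix q F ({lst hN 0} : Finset (Fin N))) (b : fix q F ({i0 hN} : Finset (Fin N))),
      b.1 ∈ fix q F (bot N 3) ∧ x = act h.1 (act b.1 M.x0) ∧
      ∀ w, hermForm N F q w M.x0 = 0 → hermForm N F q w (x - x (lst hN 0) • M.x0) = 0 →
        hermForm N F q w f = 0 → Off (top N 3) (act h.1⁻¹ w) := by
  set a : F := x (lst hN 0)
  set r : Fin N → F := x - a • M.x0 with hr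
  obtain ⟨r', f', hh', hr0', hro, hfo⟩ := exists_r0 (hN := hN) (hF := hF)
  obtain ⟨g, hg, eg⟩ := exists_fix_of_gram hF ({lst hN 0} : Finset (Fin N)) (b := ![r', f']) (c := ![r, f])
    (by simp; omega)
    (fun i => by
      fin_cases i
      · exact off_single.2 (by simpa using hro (lst hN 0) (by simp))
      · exact off_single.2 (by simpa using hfo (lst hN 0) (by simp)))
    (fun i => by fin_cases i <;> refine off_single.2 ?_ <;> simp [hr, a, hf])
    (hyp_gramInj hF hh')
    (fun i j => by
      fin_cases i <;> fin_cases j <;>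
        simp [hh.1, hh.2.1, hh.2.2, hh.symm' hF, hh'.1, hh'.2.1, hh'.2.2, hh'.symm' hF])
  have er : act g r' = r := eg 0
  have ef : act g f' = f := eg 1
  have hxv : x = act g (a • M.x0 + r') := by
    rw [act_add, act_smul, mem_fix.1 hg _ (by simp), er, hr, add_sub_cancel]
  obtain ⟨b, hb, eb⟩ := M.exists_bot (hF := hF) (j := 3) (by omega) (by omega) (v := a • M.x0 + r')
    (off_add (off_smul _ (off_bv (by rw [mem_bot]; simp only [lst]; omega)))
      (fun i hi => hro i (Finset.mem_insert_of_mem hi)))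
    (by rw [← act_herm g, ← hxv, hx1])
  refine ⟨⟨g, hg⟩, b, hb, by rw [eb]; exact hxv, fun w hw0 hwr hwf => ?_⟩
  set u := act g⁻¹ w
  have hu0 : u (lst hN 0) = 0 :=
    (M.off_of_orth (hF := hF) hw0).act hF (inv_mem hg) _ (Finset.mem_singleton_self _)
  have hur : hermForm N F q u r' = 0 := by rw [← act_herm g, act_act_inv, er, hwr]
  have huf : hermForm N F q u f' = 0 := by rw [← act_herm g, act_act_inv, ef, hwf]
  have h12 : lst hN 1 ≠ lst hN 2 := lst_ne (by omega) (by omega) (by omega)
  have hexp : ∀ v : Fin N → F, Off (insert (lst hN 0) (bot N 3)) v →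
      v = v (lst hN 1) • bv (lst hN 1) + v (lst hN 2) • bv (lst hN 2) := by
    intro v hv
    funext i
    by_cases hi : i ∈ insert (lst hN 0) (bot N 3)
    · rw [hv i hi]
      have h1 : i ≠ lst hN 1 := fun e => by
        rcases Finset.mem_insert.1 hi with h | h
        · exact lst_ne (hN := hN) (a := 1) (b := 0) (by omega) (by omega) (by omega) (e.symm.trans h)
        · rw [e, mem_bot] at h; simp only [lst] at h; omega
      have h2 : i ≠ lst hN 2 := fun e => by
        rcases Finset.mem_insert.1 hi with h | h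
        · exact lst_ne (hN := hN) (a := 2) (b := 0) (by omega) (by omega) (by omega) (e.symm.trans h)
        · rw [e, mem_bot] at h; simp only [lst] at h; omega
      simp [h1, h2]
    · simp only [Finset.mem_insert, mem_bot, not_or, not_lt] at hi
      rcases top_three (hN := hN) (mem_top.2 hi.2) with rfl | rfl | rfl
      · exact absurd rfl hi.1
      · simp [h12]
      · simp [h12.symm]
  rw [hexp r' hro, herm_add_right _ _ _ hF, herm_smul_right, herm_smul_right, herm_bv_right hF,
    herm_bv_right hF] at hur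
  rw [hexp f' hfo, herm_add_right _ _ _ hF, herm_smul_right, herm_smul_right, herm_bv_right hF,
    herm_bv_right hF] at huf
  have hdet : r' (lst hN 1) ^ q * f' (lst hN 2) ^ q - r' (lst hN 2) ^ q * f' (lst hN 1) ^ q ≠ 0 := by
    intro h
    rw [← mul_pow, ← mul_pow, ← sub_pow_q hF] at h
    have h' : r' (lst hN 1) * f' (lst hN 2) - r' (lst hN 2) * f' (lst hN 1) = 0 :=
      eq_zero_of_pow_eq_zero h
    have hli := hyp_gramInj hF hh'
    have hz1 : f' (lst hN 1) • r' + (-r' (lst hN 1)) • f' = 0 := by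
      rw [hexp r' hro, hexp f' hfo]
      funext i
      simp only [Pi.add_apply, Pi.smul_apply, smul_eq_mul, Pi.zero_apply]
      by_cases hi1 : i = lst hN 1
      · subst hi1; simp [h12]; ring
      by_cases hi2 : i = lst hN 2
      · subst hi2; simp [h12.symm]; linear_combination -h'
      simp [hi1, hi2]
    have hz2 : f' (lst hN 2) • r' + (-r' (lst hN 2)) • f' = 0 := by
      rw [hexp r' hro, hexp f' hfo]
      funext i
      simp only [Pi.add_apply, Pi.smul_apply, smul_eq_mul, Pi.zero_apply]
      by_cases hi1 : i = lst hN 1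
      · subst hi1; simp [h12]; linear_combination h'
      by_cases hi2 : i = lst hN 2
      · subst hi2; simp [h12.symm]; ring
      simp [hi1, hi2]
    have e1 := Fintype.linearIndependent_iff.1 hli.li ![f' (lst hN 1), -r' (lst hN 1)]
      (by simpa [Fin.sum_univ_two] using hz1) 1
    have e2 := Fintype.linearIndependent_iff.1 hli.li ![f' (lst hN 2), -r' (lst hN 2)]
      (by simpa [Fin.sum_univ_two] using hz2) 1
    exact hr0' (by rw [hexp r' hro]; simp at e1 e2; simp [e1, e2])
  have h1 : u (lst hN 1) = 0 := mul_left_cancel₀ hdet (by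
    linear_combination (f' (lst hN 2) ^ q) * hur - (r' (lst hN 2) ^ q) * huf)
  have h2 : u (lst hN 2) = 0 := mul_left_cancel₀ hdet (by
    linear_combination (r' (lst hN 1) ^ q) * huf - (f' (lst hN 1) ^ q) * hur)
  intro i hi
  rcases top_three (hN := hN) hi with rfl | rfl | rfl <;> assumption

/-- Uniqueness over the tangent vectors, in dimension at least five. -/
theorem unique_tangent (hN5 : 5 ≤ N) {x : Fin N → F} (hx : x (lst hN 0) * x (lst hN 0) ^ q = 1)
    (hxne : x ≠ x (lst hN 0) • M.x0) {z z' : Fin N → F} {c c' : M.C} (h : M.Lift hF z x c)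
    (h' : M.Lift hF z' x c') : c = c' := by
  classical
  set a : F := x (lst hN 0)
  set r : Fin N → F := x - a • M.x0 with hr
  have hx1 := h.unit M
  have hr0 : r ≠ 0 := sub_ne_zero.2 hxne
  have hrr : hermForm N F q r r = 0 := by
    simp only [hr, herm_sub_left, herm_sub_right _ _ _ hF, herm_smul_left, herm_smul_right,
      herm_bv_right hF, hx1, ← herm_conj x M.x0 hF, Pi.sub_apply, Pi.smul_apply, Pi.single_eq_same,
      smul_eq_mul, mul_one, sub_self, mul_zero, sub_zero, a]
    linear_combination -hx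
  have hrx0 : hermForm N F q r M.x0 = 0 := by simp [hr, herm_bv_right hF, a]
  have hmr : ∀ {w : Fin N → F}, M.Mid w x → hermForm N F q w r = 0 := fun {w} hw => by
    rw [hr, herm_sub_right _ _ _ hF, herm_smul_right, hw.2.2, hw.2.1, mul_zero, sub_zero]
  -- two middle vectors with a common partner
  have step : ∀ {w w' : Fin N → F} {d d' : M.C}, M.Lift hF w x d → M.Lift hF w' x d' →
      LinearIndependent F ![r, M.x0, w, w'] → d = d' := by
    intro w w' d d' hd hd' hli
    obtain ⟨f, hf, hf'⟩ := exists_partner hF hli 0 (fun i => by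
      fin_cases i
      · simpa using hrr
      · simpa using herm_eq_zero_symm hF hrx0
      · simpa using hmr (hd.mid M)
      · simpa using hmr (hd'.mid M))
    obtain ⟨g, b, hb, hxg, hoff⟩ := M.exists_tangent_move (hF := hF) hN5 hx1 hx (f := f) hf
      (by rw [← herm_bv_right hF f]; exact hf' 1 (by simp))
    rw [M.eq_of_off (hF := hF) (by omega) le_rfl (by omega) hb hd hxg
        (hoff w (hd.mid M).2.1 (hmr (hd.mid M)) (herm_eq_zero_symm hF (by simpa using hf' 2 (by simp)))),
      M.eq_of_off (hF := hF) (by omega) le_rfl (by omega) hb hd' hxg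
        (hoff w' (hd'.mid M).2.1 (hmr (hd'.mid M)) (herm_eq_zero_symm hF (by simpa using hf' 3 (by simp))))]
  -- orthogonal middle vectors are independent
  have horth : ∀ {w w' : Fin N → F}, M.Mid w x → M.Mid w' x → hermForm N F q w w' = 0 →
      LinearIndependent F ![r, M.x0, w, w'] := by
    intro w w' hw hw' ho
    rw [Fintype.linearIndependent_iff]
    intro e he
    simp only [Fin.sum_univ_four, Matrix.cons_val_zero, Matrix.cons_val_one, Matrix.cons_val_two,
      Matrix.cons_val_three, Matrix.head_cons, Matrix.tail_cons] at he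
    have e1 := congrArg (fun v => hermForm N F q v M.x0) he
    have e2 := congrArg (fun v => hermForm N F q v w) he
    have e3 := congrArg (fun v => hermForm N F q v w') he
    simp [herm_add_left, herm_smul_left, herm_zero_left, hrx0, hw.1, hw.2.1, hw'.1, hw'.2.1, herm_bv hF,
      herm_eq_zero_symm hF (hmr hw), herm_eq_zero_symm hF (hmr hw'), herm_eq_zero_symm hF hw.2.1,
      herm_eq_zero_symm hF hw'.2.1, ho, herm_eq_zero_symm hF ho] at e1 e2 e3
    have e0 : e 0 = 0 := by
      simp [e1, e2, e3] at he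
      exact he.resolve_right hr0
    intro i; fin_cases i <;> assumption
  by_cases hli : LinearIndependent F ![r, M.x0, z, z']
  · exact step h h' hli
  obtain ⟨hz1, hz0, -⟩ := h.mid M
  obtain ⟨f, hf, hf'⟩ := exists_partner hF (b := ![r, M.x0, z]) (j := 0) (by
      rw [Fintype.linearIndependent_iff]
      intro e he
      simp only [Fin.sum_univ_three, Matrix.cons_val_zero, Matrix.cons_val_one, Matrix.cons_val_two,
        Matrix.head_cons, Matrix.tail_cons] at he
      have e1 := congrArg (fun v => hermForm N F q v M.x0) he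
      have e2 := congrArg (fun v => hermForm N F q v z) he
      simp [herm_add_left, herm_smul_left, herm_zero_left, hrx0, hz1, hz0, herm_bv hF,
        herm_eq_zero_symm hF (hmr (h.mid M)), herm_eq_zero_symm hF hz0] at e1 e2
      have e0 : e 0 = 0 := by
        simp [e1, e2] at he
        exact he.resolve_right hr0
      intro i; fin_cases i <;> assumption) (fun i => by
      fin_cases i
      · simpa using hrr
      · simpa using herm_eq_zero_symm hF hrx0
      · simpa using hmr (h.mid M))
  obtain ⟨g, b, hb, hxg, hoff⟩ := M.exists_tangent_move (hF := hF) hN5 hx1 hx (f := f) hf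
    (by rw [← herm_bv_right hF f]; exact hf' 1 (by simp))
  have hzoff := hoff z hz0 (hmr (h.mid M)) (herm_eq_zero_symm hF (by simpa using hf' 2 (by simp)))
  have hc := M.eq_of_off (hF := hF) (by omega) le_rfl (by omega) hb h hxg hzoff
  -- a further vector orthogonal to `z`
  obtain ⟨a', ha', ea'⟩ := exists_fix_unit hF (top N 3) (by have := card_top N 3; omega)
    (off_bv (i := i0 hN) (by rw [mem_top]; simp only [i0]; omega)) hzoff (bv_unit hF _)
    (by rw [act_herm, hz1])
  set w0 : Fin N → F := act a' (bv (lst hN 3))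
  have hw0 : Off (top N 3) w0 :=
    (off_bv (i := lst hN 3) (by rw [mem_top]; simp only [lst]; omega)).act hF ha'
  have hwl := (M.lift_top (hF := hF) (by omega) le_rfl (by omega) b hb (z := w0)
    (by rw [act_herm]; exact bv_unit hF _) hw0).smul M g
  rw [← hxg, ← hc] at hwl
  have hwz : hermForm N F q z (act g.1 w0) = 0 := by
    rw [← act_herm g.1⁻¹, act_inv_act, ← ea', act_herm, herm_bv hF,
      if_neg (lst_ne_i0 (hN := hN) (a := 3) (by omega)).symm]
  refine step hwl h' (horth (hwl.mid M) (h'.mid M) ?_)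
  -- the dependence puts `z'` orthogonal to it
  obtain ⟨e, he, hne⟩ := Fintype.not_linearIndependent_iff.1 hli
  simp only [Fin.sum_univ_four, Matrix.cons_val_zero, Matrix.cons_val_one, Matrix.cons_val_two,
    Matrix.cons_val_three, Matrix.head_cons, Matrix.tail_cons] at he
  obtain ⟨hw1, hwx, -⟩ := hwl.mid M
  have e1 := congrArg (fun v => hermForm N F q v M.x0) he
  simp [herm_add_left, herm_smul_left, herm_zero_left, hrx0, hz0, (h'.mid M).2.1, herm_bv hF] at e1
  have e2 := congrArg (fun v => hermForm N F q v z) he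
  have e3 := congrArg (fun v => hermForm N F q v (act g.1 w0)) he
  simp [herm_add_left, herm_smul_left, herm_zero_left, e1, hz1,
    herm_eq_zero_symm hF (hmr (h.mid M)), herm_eq_zero_symm hF (hmr (hwl.mid M)), hwz] at e2 e3
  rcases e3 with e3 | e3
  · exfalso
    simp only [e3, zero_mul, add_zero] at e2
    simp [e1, e2, e3] at he
    obtain ⟨i, hi⟩ := hne
    fin_cases i <;> first | exact hi e1 | exact hi e2 | exact hi e3 | exact hi (he.resolve_right hr0)
  · exact herm_eq_zero_symm hF e3

/-- Every norm one vector has a lift. -/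
theorem exists_mid {x : Fin N → F} (hx : hermForm N F q x x = 1) : ∃ z, M.Mid z x := by
  obtain ⟨z, h1, h2, h3⟩ := exists_unit_perp hF (v := ![x]) (fun i j => by fin_cases i; fin_cases j; simpa)
    M.x0 (by omega)
  exact ⟨z, h1, h2, h3 0⟩

theorem unique_five (hN5 : 5 ≤ N) {x z z' : Fin N → F} {c c' : M.C} (h : M.Lift hF z x c)
    (h' : M.Lift hF z' x c') : c = c' := by
  by_cases hx : x (lst hN 0) * x (lst hN 0) ^ q ≠ 1 ∨ x = x (lst hN 0) • M.x0
  · exact M.unique_nondeg (hF := hF) (Or.inl hN5) hx h h'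
  · push Not at hx
    exact M.unique_tangent (hF := hF) hN5 hx.1 hx.2 h h'

/-- The extension theorem in dimension at least five. -/
theorem exists_hom_five (hN5 : 5 ≤ N) :
    ∃ f : Cfsg.SU N F q →* G, (∀ g h, f g = M.φH ⟨g, h⟩) ∧ ∀ g h, f g = M.φK ⟨g, h⟩ := by
  refine M.exists_hom_of_lifts hF (Or.inl hN5) (fun x hx => M.exists_mid (hF := hF) hx)
    (fun h h' => M.unique_five (hF := hF) hN5 h h') ?_
  intro x y z z' c c' h h' ho
  obtain ⟨w, h1, h2, h3⟩ := exists_unit_perp hF (v := ![x, y]) (fun i j => by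
    fin_cases i <;> fin_cases j <;> simp [h.unit M, h'.unit M, ho, herm_eq_zero_symm hF ho]) M.x0
    (by omega)
  obtain ⟨d, hd⟩ := M.exists_lift (hF := hF) (z := w) (x := x) ⟨h1, h2, h3 0⟩ (h.unit M)
  obtain ⟨d', hd'⟩ := M.exists_lift (hF := hF) (z := w) (x := y) ⟨h1, h2, h3 1⟩ (h'.unit M)
  rw [M.unique_five (hF := hF) hN5 h hd, M.unique_five (hF := hF) hN5 h' hd']
  exact hd.adj M hd' ho

end Amalg

end Cfsg.Agent.Lib.Phan
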