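import Cfsg.Agent.Lib.Phan.Gen
import Cfsg.Agent.Lib.Phan.Four

/-!
# Phan's theorem, part 8

Compatible windows of size three extend to the whole special unitary group.
-/

set_option autoImplicit false
set_option linter.unusedSectionVars false

namespace Cfsg.Agent.Lib.Phan

open Matrix Cfsg.Agent.Lib.Unitary

/-- Homomorphisms on the windows of size three, agreeing on overlaps, with commuting images of
disjoint blocks of size two. -/
structure Windows (q : ℕ) (F : Type*) [Field F] (N : ℕ) (G : Type*) [Group G] where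
  /-- The homomorphism on the window at `a, a + 1, a + 2`. -/
  ψ : ℕ → Cfsg.SU 3 F q →* G
  agree : ∀ a, a + 4 ≤ N → ∀ g : Cfsg.SU 2 F q, ψ a (win 3 2 1 g) = ψ (a + 1) (win 3 2 0 g)
  comm : ∀ a b i j, i ≤ 1 → j ≤ 1 → a + 3 ≤ N → b + 3 ≤ N → a + i + 2 ≤ b + j →
    ∀ g h : Cfsg.SU 2 F q, Commute (ψ a (win 3 2 i g)) (ψ b (win 3 2 j h))

namespace Windows

variable {F : Type*} [Field F] {q N : ℕ} {G : Type*} [Group G] (W : Windows q F N G)

/-- An extension of the windows. -/
def Extends (f : Cfsg.SU N F q →* G) : Prop := ∀ a, a + 3 ≤ N → ∀ g, f (win N 3 a g) = W.ψ a g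

/-- The windows of size four carry homomorphisms. -/
def Four : Prop := ∀ a, a + 4 ≤ N → ∃ f : Cfsg.SU 4 F q →* G,
  ∀ i, i ≤ 1 → ∀ g, f (win 4 3 i g) = W.ψ (a + i) g

/-- Disjoint blocks of size up to three have commuting images; only needed for `q = 2`. -/
def Comm3 : Prop :=
  (∀ a b i, i ≤ 1 → a + 3 ≤ N → a + i + 2 ≤ b → b + 3 ≤ N → ∀ g y,
      Commute (W.ψ a (win 3 2 i g)) (W.ψ b y)) ∧
    (∀ a b j, j ≤ 1 → a + 3 ≤ b + j → b + 3 ≤ N → ∀ x h,
      Commute (W.ψ a x) (W.ψ b (win 3 2 j h))) ∧
    ∀ a b, a + 3 ≤ b → b + 3 ≤ N → ∀ x y, Commute (W.ψ a x) (W.ψ b y)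

/-- The windows `a, …, a + k - 3` extend to the block of size `k` at `a`. -/
def Good (a k : ℕ) : Prop := ∃ f : Cfsg.SU k F q →* G,
  ∀ i, i + 3 ≤ k → ∀ g, f (win k 3 i g) = W.ψ (a + i) g

variable [Fintype F]

/-- Elements commuting with all generating windows commute with everything. -/
theorem commute_of_windows (hF : Fintype.card F = q ^ 2) {k : ℕ} (hk : 3 ≤ k)
    (f : Cfsg.SU k F q →* G) {y : G}
    (h : ∀ i, i + 3 ≤ k → ∀ g, Commute (f (win k 3 i g)) y) (x : Cfsg.SU k F q) :
    Commute (f x) y := by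
  have hx : x ∈ (Subgroup.centralizer ({y} : Set G)).comap f := by
    have : (⊤ : Subgroup (Cfsg.SU k F q)) ≤ (Subgroup.centralizer ({y} : Set G)).comap f := by
      rw [← gen_windows hF hk]
      refine iSup₂_le fun i hi => ?_
      rintro _ ⟨g, rfl⟩
      exact Subgroup.mem_centralizer_singleton_iff.2 (h i hi g).eq
    exact this trivial
  exact Subgroup.mem_centralizer_singleton_iff.1 hx

theorem commute_three (hF : Fintype.card F = q ^ 2) (hq : 3 ≤ q) (f : Cfsg.SU 3 F q →* G) {y : G}
    (h : ∀ i, i ≤ 1 → ∀ g, Commute (f (win 3 2 i g)) y) (x : Cfsg.SU 3 F q) : Commute (f x) y := by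
  have hx : x ∈ (Subgroup.centralizer ({y} : Set G)).comap f := by
    have : (⊤ : Subgroup (Cfsg.SU 3 F q)) ≤ (Subgroup.centralizer ({y} : Set G)).comap f := by
      rw [← gen_three hF hq]
      refine sup_le ?_ ?_ <;> rintro _ ⟨g, rfl⟩ <;>
        exact Subgroup.mem_centralizer_singleton_iff.2 (h _ (by omega) g).eq
    exact this trivial
  exact Subgroup.mem_centralizer_singleton_iff.1 hx

theorem comm3_of_three_le (hF : Fintype.card F = q ^ 2) (hq : 3 ≤ q) : W.Comm3 := by
  have h23 : ∀ a b i, i ≤ 1 → a + 3 ≤ N → a + i + 2 ≤ b → b + 3 ≤ N → ∀ g y,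
      Commute (W.ψ a (win 3 2 i g)) (W.ψ b y) := fun a b i hi ha hb hb' g y =>
    (commute_three hF hq (W.ψ b) (fun j hj h =>
      (W.comm a b i j hi hj ha hb' (by omega) g h).symm) y).symm
  refine ⟨h23, fun a b j hj hab hb x h => ?_, fun a b hab hb x y => ?_⟩
  · exact commute_three hF hq (W.ψ a) (fun i hi g => W.comm a b i j hi hj (by omega) hb (by omega) g h) x
  · exact commute_three hF hq (W.ψ a) (fun i hi g => h23 a b i hi (by omega) (by omega) hb g y) x

theorem eq_of_windows (hF : Fintype.card F = q ^ 2) {k : ℕ} (hk : 3 ≤ k)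
    {f f' : Cfsg.SU k F q →* G} (h : ∀ i, i + 3 ≤ k → ∀ g, f (win k 3 i g) = f' (win k 3 i g)) :
    f = f' := by
  refine MonoidHom.eq_of_eqOn_top ?_
  rw [← gen_windows hF hk]
  intro x hx
  have hle : (⨆ a, ⨆ _ : a + 3 ≤ k, (win k 3 a : Cfsg.SU 3 F q →* _).range) ≤ MonoidHom.eqLocus f f' := by
    refine iSup₂_le fun i hi => ?_
    rintro _ ⟨g, rfl⟩
    exact h i hi g
  exact hle hx

/-- One step of the induction. -/
theorem good_succ (hF : Fintype.card F = q ^ 2) (h3 : W.Comm3) {a k : ℕ} (hk : 3 ≤ k)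
    (ha : a + (k + 1) ≤ N) (h0 : W.Good a k) (h1 : W.Good (a + 1) k) (h4 : k = 3 → 4 ≤ q) :
    W.Good a (k + 1) := by
  obtain ⟨f0, hf0⟩ := h0
  obtain ⟨f1, hf1⟩ := h1
  have hN : 4 ≤ k + 1 := by omega
  have hs0 : ∀ i : Fin (k + 1), (i : ℕ) < 0 ∨ 0 + k ≤ (i : ℕ) →
      i ∈ ({lst hN 0} : Finset (Fin (k + 1))) := fun i hi => by
    rw [Finset.mem_singleton]; exact Fin.ext (by simp only [lst]; omega)
  have hs1 : ∀ i : Fin (k + 1), (i : ℕ) < 1 ∨ 1 + k ≤ (i : ℕ) →
      i ∈ ({i0 hN} : Finset (Fin (k + 1))) := fun i hi => by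
    rw [Finset.mem_singleton]; exact Fin.ext (by simp only [i0]; omega)
  set φH : fix q F ({lst hN 0} : Finset (Fin (k + 1))) →* G :=
    f0.comp (unwin hF (k := k) (a := 0) (by omega) hs0) with hφH
  set φK : fix q F ({i0 hN} : Finset (Fin (k + 1))) →* G :=
    f1.comp (unwin hF (k := k) (a := 1) (by omega) hs1) with hφK
  have evH : ∀ {g} (hg : g ∈ fix q F ({lst hN 0} : Finset (Fin (k + 1)))) {A : Cfsg.SU k F q},
      win (k + 1) k 0 A = g → φH ⟨g, hg⟩ = f0 A := fun {g} hg {A} e => by
    subst e; rw [hφH, MonoidHom.comp_apply, unwin_win]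
  have evK : ∀ {g} (hg : g ∈ fix q F ({i0 hN} : Finset (Fin (k + 1)))) {A : Cfsg.SU k F q},
      win (k + 1) k 1 A = g → φK ⟨g, hg⟩ = f1 A := fun {g} hg {A} e => by
    subst e; rw [hφK, MonoidHom.comp_apply, unwin_win]
  let M : Amalg q F hN G :=
    { φH := φH
      φK := φK
      agree := by
        intro g h h'
        have hg : g ∈ fix q F
            ({i : Fin (k + 1) | (i : ℕ) < 1 ∨ 1 + (k - 1) ≤ (i : ℕ)} : Finset (Fin (k + 1))) := by
          intro i hi
          simp only [Finset.mem_filter, Finset.mem_univ, true_and] at hi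
          rcases hi with hi | hi
          · exact h' i (hs1 i (Or.inl hi))
          · exact h i (hs0 i (Or.inr (by omega)))
        rw [← range_win hF (by omega)] at hg
        obtain ⟨y, rfl⟩ := hg
        rw [evH h (A := win k (k - 1) 1 y) (by rw [win_win (by omega) (by omega)]),
          evK h' (A := win k (k - 1) 0 y) (by rw [win_win (by omega) (by omega)])]
        rcases Nat.lt_or_ge k 4 with hk4 | hk4
        · obtain rfl : k = 3 := by omega
          have e0 := hf0 0 le_rfl (win 3 2 1 y)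
          have e1 := hf1 0 le_rfl (win 3 2 0 y)
          rw [win_self] at e0 e1
          rw [e0, e1, add_zero, add_zero]
          exact W.agree a ha y
        · exact DFunLike.congr_fun (eq_of_windows hF (k := k - 1) (by omega)
            (f := f0.comp (win k (k - 1) 1)) (f' := f1.comp (win k (k - 1) 0)) fun i hi g => by
              rw [MonoidHom.comp_apply, MonoidHom.comp_apply, win_win (by omega) hi,
                win_win (by omega) hi, hf0 _ (by omega), hf1 _ (by omega)]
              congr 2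
              omega) y
      comm := by
        intro j hj hj' g g' hgH hgK hg hg'
        have hg2 : g ∈ fix q F
            ({i : Fin (k + 1) | (i : ℕ) < 0 ∨ 0 + (k + 1 - j) ≤ (i : ℕ)} : Finset (Fin (k + 1))) :=
          fix_mono (fun i hi => by
            simp only [Finset.mem_filter, Finset.mem_univ, true_and] at hi
            rw [mem_top]; omega) hg
        rw [← range_win hF (by omega)] at hg2
        obtain ⟨x, rfl⟩ := hg2
        have hg3 : g' ∈ fix q F
            ({i : Fin (k + 1) | (i : ℕ) < k + 1 - j ∨ k + 1 - j + j ≤ (i : ℕ)} : Finset (Fin (k + 1))) :=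
          fix_mono (fun i hi => by
            simp only [Finset.mem_filter, Finset.mem_univ, true_and] at hi
            rw [mem_bot]; omega) hg'
        rw [← range_win hF (by omega)] at hg3
        obtain ⟨y, rfl⟩ := hg3
        rw [evH hgH (A := win k (k + 1 - j) 0 x) (by rw [win_win (by omega) (by omega)]),
          evK hgK (A := win k j (k - j) y) (by
            rw [win_win (by omega) (by omega), show 1 + (k - j) = k + 1 - j by omega])]
        -- the image of the upper block
        obtain ⟨b, hb, hY2, hY3⟩ : ∃ b, b + 3 ≤ N ∧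
            (j = 2 → ∃ y' : Cfsg.SU 2 F q, a + k + 1 - j = b + 1 ∧
              f1 (win k j (k - j) y) = W.ψ b (win 3 2 1 y')) ∧
            (j = 3 → ∃ y' : Cfsg.SU 3 F q, a + k + 1 - j = b ∧ f1 (win k j (k - j) y) = W.ψ b y') := by
          refine ⟨a + 1 + (k - 3), by omega, fun h2 => ?_, fun h3' => ?_⟩
          · subst h2
            refine ⟨y, by omega, ?_⟩
            have e := hf1 (k - 3) (by omega) (win 3 2 1 y)
            rwa [win_win (by omega) (by omega), show k - 3 + 1 = k - 2 by omega] at e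
          · subst h3'
            exact ⟨y, by omega, hf1 (k - 3) (by omega) y⟩
        -- the lower block
        rcases (show k + 1 - j = 1 ∨ k + 1 - j = 2 ∨ 3 ≤ k + 1 - j by omega) with hm | hm | hm
        · revert x
          rw [hm]
          intro x _ _
          rw [su_one_eq x]
          simp
        · have hx : ∃ x' : Cfsg.SU 2 F q, f0 (win k (k + 1 - j) 0 x) = W.ψ a (win 3 2 0 x') := by
            revert x
            rw [hm]
            intro x _ _
            have e := hf0 0 (by omega) (win 3 2 0 x)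
            rw [win_win (by omega) (by omega), add_zero, add_zero] at e
            exact ⟨x, e⟩
          obtain ⟨x', hx'⟩ := hx
          rw [hx']
          rcases (show j = 2 ∨ j = 3 by omega) with h2 | h2
          · obtain ⟨y', he, hy'⟩ := hY2 h2
            rw [hy']
            exact W.comm a b 0 1 (by omega) le_rfl (by omega) hb (by omega) x' y'
          · obtain ⟨y', he, hy'⟩ := hY3 h2
            rw [hy']
            exact h3.1 a b 0 (by omega) (by omega) (by omega) hb x' y'
        · refine commute_of_windows hF hm (f0.comp (win k (k + 1 - j) 0)) (fun i hi g => ?_) x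
          rw [MonoidHom.comp_apply, win_win (by omega) hi, hf0 _ (by omega), zero_add]
          rcases (show j = 2 ∨ j = 3 by omega) with h2 | h2
          · obtain ⟨y', he, hy'⟩ := hY2 h2
            rw [hy']
            exact h3.2.1 (a + i) b 1 le_rfl (by omega) hb g y'
          · obtain ⟨y', he, hy'⟩ := hY3 h2
            rw [hy']
            exact h3.2.2 (a + i) b (by omega) hb g y' }
  obtain ⟨f, hfH, hfK⟩ : ∃ f : Cfsg.SU (k + 1) F q →* G,
      (∀ g h, f g = M.φH ⟨g, h⟩) ∧ ∀ g h, f g = M.φK ⟨g, h⟩ := by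
    rcases Nat.lt_or_ge k 4 with hk4 | hk4
    · obtain rfl : k = 3 := by omega
      exact M.exists_hom_four (hF := hF) (h4 rfl)
    · exact M.exists_hom_five (hF := hF) (by omega)
  have hwin : ∀ i, i ≤ 1 → ∀ A : Cfsg.SU k F q, ∀ s : Finset (Fin (k + 1)),
      (∀ x ∈ s, (x : ℕ) < i ∨ i + k ≤ (x : ℕ)) → win (k + 1) k i A ∈ fix q F s := by
    intro i hi A s hs
    have : win (k + 1) k i A ∈ (win (k + 1) k i : Cfsg.SU k F q →* _).range := ⟨A, rfl⟩
    rw [range_win hF (by omega)] at this
    exact fix_mono (fun x hx => by simpa using hs x hx) this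
  refine ⟨f, fun i hi g => ?_⟩
  by_cases hik : i + 3 ≤ k
  · have e : win (k + 1) 3 i g = win (k + 1) k 0 (win k 3 i g) := by
      rw [win_win (by omega) hik, zero_add]
    have hm : win (k + 1) k 0 (win k 3 i g) ∈ fix q F ({lst hN 0} : Finset (Fin (k + 1))) :=
      hwin 0 (by omega) _ _ fun x hx => by
        rw [Finset.mem_singleton] at hx; subst hx; simp [lst]
    rw [e, hfH _ hm]
    exact (evH hm rfl).trans (hf0 i hik g)
  · have e : win (k + 1) 3 i g = win (k + 1) k 1 (win k 3 (i - 1) g) := by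
      rw [win_win (by omega) (by omega), show 1 + (i - 1) = i by omega]
    have hm : win (k + 1) k 1 (win k 3 (i - 1) g) ∈ fix q F ({i0 hN} : Finset (Fin (k + 1))) :=
      hwin 1 le_rfl _ _ fun x hx => by
        rw [Finset.mem_singleton] at hx; subst hx; simp [i0]
    rw [e, hfK _ hm]
    refine (evK hm rfl).trans ((hf1 (i - 1) (by omega) g).trans ?_)
    rw [show a + 1 + (i - 1) = a + i by omega]

theorem good_of_base (hF : Fintype.card F = q ^ 2) (h3 : W.Comm3)
    (h4 : ∀ a, a + 4 ≤ N → W.Good a 4) :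
    ∀ k, 3 ≤ k → ∀ a, a + k ≤ N → W.Good a k := by
  intro k hk
  induction k, hk using Nat.le_induction with
  | base =>
    intro a _
    refine ⟨W.ψ a, fun i hi g => ?_⟩
    obtain rfl : i = 0 := by omega
    rw [win_self, add_zero]
  | succ k hk ih =>
    intro a ha
    by_cases hk3 : k = 3
    · subst hk3; exact h4 a ha
    · exact W.good_succ hF h3 hk ha (ih a (by omega)) (ih (a + 1) (by omega)) (fun h => absurd h hk3)

theorem exists_hom_of_good (hN : 3 ≤ N) (h : ∀ a, a + N ≤ N → W.Good a N) : ∃ f, W.Extends f := by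
  obtain ⟨f, hf⟩ := h 0 (by omega)
  exact ⟨f, fun a ha g => by rw [hf a ha g, zero_add]⟩

/-- Phan's theorem for `q ≥ 4`. -/
theorem exists_hom (hF : Fintype.card F = q ^ 2) (hN : 3 ≤ N) (hq : 4 ≤ q) : ∃ f, W.Extends f := by
  have h3 := W.comm3_of_three_le hF (by omega)
  refine W.exists_hom_of_good hN (W.good_of_base hF h3 (fun a ha => ?_) N hN)
  have base : ∀ b, W.Good b 3 := fun b => ⟨W.ψ b, fun i hi g => by
    obtain rfl : i = 0 := by omega
    rw [win_self, add_zero]⟩
  exact W.good_succ hF h3 le_rfl ha (base a) (base (a + 1)) (fun _ => hq)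

/-- Phan's theorem from windows of size four. -/
theorem exists_hom_of_four (hF : Fintype.card F = q ^ 2) (hN : 3 ≤ N) (h4 : W.Four)
    (h3 : 3 ≤ q ∨ W.Comm3) : ∃ f, W.Extends f := by
  have h3' : W.Comm3 := h3.elim (W.comm3_of_three_le hF) id
  refine W.exists_hom_of_good hN (W.good_of_base hF h3' (fun a ha => ?_) N hN)
  obtain ⟨f, hf⟩ := h4 a ha
  exact ⟨f, fun i hi g => hf i (by omega) g⟩

variable {W}

omit [Fintype F] in
/-- An extension of generating windows is onto. -/
theorem Extends.surjective {f : Cfsg.SU N F q →* G} (hf : W.Extends f)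
    (h : (⨆ a, ⨆ _ : a + 3 ≤ N, (W.ψ a).range) = ⊤) : Function.Surjective f := by
  rw [← MonoidHom.range_eq_top, eq_top_iff, ← h]
  refine iSup₂_le fun a ha => ?_
  rintro _ ⟨g, rfl⟩
  exact ⟨win N 3 a g, hf a ha g⟩

end Windows

end Cfsg.Agent.Lib.Phan
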