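import Cfsg.Agent.Lib.Phan.Rigid

/-!
# Phan's theorem, part 15

Over the field with nine elements a copy of `SU 3` inside a central quotient of `SU 4` lifts.
-/

set_option autoImplicit false
set_option linter.unusedSectionVars false

namespace Cfsg.Agent.Lib.Phan

open Matrix Cfsg.Agent.Lib.Unitary

variable {F : Type*} [Field F] [Fintype F] {q : ℕ} {G : Type*} [Group G]

/-- The elements of the quaternion subgroup of `SU 2` over nine elements and a permuting one. -/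
theorem exists_quat (hF : Fintype.card F = 3 ^ 2) :
    ∃ ga gb gd : Cfsg.SU 2 F 3,
      ga.1.1 1 0 = 0 ∧ gb.1.1 0 0 = 0 ∧ gb * gb = ga * ga ∧ ga * gb = ga * ga * gb * ga ∧
      gd * ga = ga * gb * gd ∧ gd * gb = ga * gd ∧
      (ga * ga).1.1 = !![(-1 : F), 0; 0, -1] ∧ (2 : F) ≠ 0 ∧
      ga.1.1 0 0 * ga.1.1 0 0 = -1 ∧ ga.1.1 1 1 * ga.1.1 1 1 = -1 ∧ ga.1.1 0 0 * ga.1.1 1 1 = 1 ∧
      ga.1.1 0 1 = 0 ∧ gb.1.1 1 1 = 0 ∧ gb.1.1 0 1 = -1 ∧ gb.1.1 1 0 = 1 := by
  have h3 : (3 : F) = 0 := by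
    have h := FiniteField.cast_card_eq_zero F
    rw [hF] at h
    have : (3 : F) ^ 2 = 0 := by push_cast at h; linear_combination h
    exact eq_zero_of_pow_eq_zero this
  have h2 : (2 : F) ≠ 0 := fun h => one_ne_zero (α := F) (by linear_combination h3 - h)
  obtain ⟨i, hi'⟩ : IsSquare (-1 : F) := FiniteField.isSquare_neg_one_iff.2 (by rw [hF]; norm_num)
  have hi : i * i = -1 := hi'.symm
  have hi3 : i ^ 3 = -i := by linear_combination i * hi
  obtain ⟨ga, hga⟩ := exists_su2 hF (a := i) (b := (0 : F)) (by linear_combination i * hi3 - hi)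
  obtain ⟨gb, hgb⟩ := exists_su2 hF (a := (0 : F)) (b := (1 : F)) (by ring)
  obtain ⟨gd, hgd⟩ := exists_su2 hF (a := 1 - i) (b := -1 + i) (by
    have e : (1 - i) ^ 3 = 1 + i := by linear_combination (3 - i) * hi - (i + 1) * h3
    have e' : (-1 + i) ^ 3 = -1 - i := by linear_combination (i - 3) * hi + (i + 1) * h3
    rw [e, e']
    linear_combination (-2 : F) * hi + h3)
  have ma : ga.1.1 = !![i, 0; 0, -i] := by rw [hga, su2Matrix, hi3]; simp
  have mb : gb.1.1 = !![0, -1; 1, 0] := by rw [hgb, su2Matrix]; simp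
  have md : gd.1.1 = !![1 - i, 1 + i; -1 + i, 1 + i] := by
    have e : (1 - i) ^ 3 = 1 + i := by linear_combination (3 - i) * hi - (i + 1) * h3
    have e' : (-1 + i) ^ 3 = -1 - i := by linear_combination (i - 3) * hi + (i + 1) * h3
    rw [hgd, su2Matrix, e, e']
    ext a b; fin_cases a <;> fin_cases b <;> simp; ring
  refine ⟨ga, gb, gd, ?_, ?_, ?_, ?_, ?_, ?_, ?_, h2, ?_, ?_, ?_, ?_, ?_, ?_, ?_⟩
  any_goals (refine Subtype.ext (Subtype.ext ?_))
  any_goals (simp only [Subgroup.coe_mul, Matrix.SpecialLinearGroup.coe_mul, ma, mb, md])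
  any_goals
    (ext a b
     fin_cases a <;> fin_cases b <;> simp [Matrix.mul_apply, Fin.sum_univ_two, hi] <;>
       first
       | ring1
       | linear_combination hi
       | linear_combination -hi
       | linear_combination 2 * hi
       | linear_combination -2 * hi)
  all_goals simp [hi]

namespace Rigid

theorem lift_comm_of_sq (hF : Fintype.card F = q ^ 2) {g : Cfsg.SU 4 F q →* G}
    (hg : g.ker ≤ Subgroup.center (Cfsg.SU 4 F q)) {A Z : Cfsg.SU 4 F q} (h : g (A * A) = g Z) :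
    A * Z = Z * A := by
  obtain ⟨c, -, hc⟩ := eq_smul_of_ker hF hg h
  refine Subtype.ext (Subtype.ext ?_)
  show A.1.1 * Z.1.1 = Z.1.1 * A.1.1
  rw [hc, Matrix.mul_smul, Matrix.smul_mul]
  show c • (A.1.1 * (A.1.1 * A.1.1)) = c • (A.1.1 * A.1.1 * A.1.1)
  rw [Matrix.mul_assoc]

theorem quat_invol (hF : Fintype.card F = q ^ 2) {g : Cfsg.SU 4 F q →* G}
    (hg : g.ker ≤ Subgroup.center (Cfsg.SU 4 F q)) {A B Z : Cfsg.SU 4 F q}
    (hAA : g (A * A) = g Z) (hBB : g (B * B) = g Z) (hZ : A * B = Z * B * A) :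
    Z * Z = 1 ∧ A * Z = Z * A := by
  have hA := lift_comm_of_sq hF hg hAA
  have hB := lift_comm_of_sq hF hg hBB
  refine ⟨comm_sq_one hA ?_ hB hZ, hA⟩
  obtain ⟨c, -, hc⟩ := eq_smul_of_ker hF hg hBB.symm
  refine Subtype.ext (Subtype.ext ?_)
  show A.1.1 * (B * B).1.1 = (B * B).1.1 * A.1.1
  rw [hc, Matrix.mul_smul, Matrix.smul_mul]
  exact congrArg (c • ·) (congrArg (fun W : Cfsg.SU 4 F q => W.1.1) hA)

theorem comm_sq (hF : Fintype.card F = q ^ 2) {g : Cfsg.SU 4 F q →* G}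
    (hg : g.ker ≤ Subgroup.center (Cfsg.SU 4 F q)) {A Z W : Cfsg.SU 4 F q}
    (h : g A * g Z = g Z * g A) (hZ : Z * Z = 1) (hW : g (A * A) = g W) : Z * W = W * Z := by
  obtain ⟨l, -, hl⟩ := eq_smul_of_ker hF hg (show g (Z * A) = g (A * Z) by rw [map_mul, map_mul, h])
  change A.1.1 * Z.1.1 = l • (Z.1.1 * A.1.1) at hl
  have hZ' : Z.1.1 * Z.1.1 = 1 := congrArg (fun X : Cfsg.SU 4 F q => X.1.1) hZ
  have h2 : l * l = 1 := by
    refine smul_left_inj' (X := A) ?_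
    rw [one_smul]
    calc (l * l) • A.1.1 = l • l • (Z.1.1 * Z.1.1 * A.1.1) := by rw [hZ', Matrix.one_mul, smul_smul]
      _ = l • (Z.1.1 * A.1.1 * Z.1.1) := by rw [Matrix.mul_assoc Z.1.1 A.1.1, hl, Matrix.mul_smul, Matrix.mul_assoc]
      _ = A.1.1 * Z.1.1 * Z.1.1 := by rw [hl, Matrix.smul_mul]
      _ = A.1.1 := by rw [Matrix.mul_assoc, hZ', Matrix.mul_one]
  have hp := pow_twisted hl 2
  rw [pow_two l, h2, one_smul, pow_two] at hp
  obtain ⟨c, -, hc⟩ := eq_smul_of_ker hF hg hW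
  refine Subtype.ext (Subtype.ext ?_)
  show Z.1.1 * W.1.1 = W.1.1 * Z.1.1
  rw [hc, Matrix.mul_smul, Matrix.smul_mul, hp]

theorem not_scalar (hF : Fintype.card F = q ^ 2) {g : Cfsg.SU 4 F q →* G} {Z : Cfsg.SU 4 F q} {y : G}
    (hy : y ∈ g.range) (h : g Z * y ≠ y * g Z) (l : F) :
    Z.1.1 ≠ l • (1 : Matrix (Fin 4) (Fin 4) F) := by
  intro e
  obtain ⟨Y, rfl⟩ := hy
  refine h ?_
  rw [← map_mul, ← map_mul]
  congr 1
  refine Subtype.ext (Subtype.ext ?_)
  show Z.1.1 * Y.1.1 = Y.1.1 * Z.1.1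
  rw [e, Matrix.smul_mul, Matrix.mul_smul, Matrix.one_mul, Matrix.mul_one]

/-- The vectors fixed by both diagonal involutions are multiples of one. -/
theorem fixed_line4 (h2 : (2 : F) ≠ 0) {Z W h : Cfsg.SU 4 F q}
    (hZd : (h * Z * h⁻¹).1.1 = diagonal ![-1, -1, 1, 1])
    (hWd : (h * W * h⁻¹).1.1 = diagonal ![1, -1, -1, 1]) {w : Fin 4 → F} (hz : act Z w = w)
    (hw : act W w = w) : ∃ c : F, w = c • act h⁻¹ (bv 3) := by
  refine ⟨act h w 3, ?_⟩
  rw [← act_smul, ← act_eq_iff]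
  set u := act h w with hu
  have eZ : diagonal ![-1, -1, 1, 1] *ᵥ u = u := by
    rw [← hZd]
    show act (h * Z * h⁻¹) u = u
    rw [hu, act_mul, act_mul, act_inv_act, hz]
  have eW : diagonal ![1, -1, -1, 1] *ᵥ u = u := by
    rw [← hWd]
    show act (h * W * h⁻¹) u = u
    rw [hu, act_mul, act_mul, act_inv_act, hw]
  have kill : ∀ k : Fin 4, -u k = u k → u k = 0 := fun k e =>
    (mul_eq_zero.1 (show (2 : F) * u k = 0 by linear_combination -e)).resolve_left h2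
  have z0 := congrFun eZ 0
  have z1 := congrFun eZ 1
  have z2 := congrFun eW 2
  simp [Matrix.mulVec_diagonal] at z0 z1 z2
  funext k
  fin_cases k <;> simp [kill 0 z0, kill 1 z1, kill 2 z2]

/-- The stabiliser of the line of a vector. -/
def lineStab (q : ℕ) {n : ℕ} (e : Fin n → F) : Subgroup (Cfsg.SU n F q) where
  carrier := {X | ∃ c : F, c ≠ 0 ∧ act X e = c • e}
  one_mem' := ⟨1, one_ne_zero, by rw [act_one, one_smul]⟩
  mul_mem' {a b} := fun ⟨c, hc, hce⟩ ⟨d, hd, hde⟩ =>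
    ⟨d * c, mul_ne_zero hd hc, by rw [act_mul, hde, act_smul, hce, smul_smul]⟩
  inv_mem' {a} := fun ⟨c, hc, hce⟩ => ⟨c⁻¹, inv_ne_zero hc, by
    conv_lhs => rw [show e = c⁻¹ • act a e by rw [hce, smul_smul, inv_mul_cancel₀ hc, one_smul]]
    rw [act_smul, act_inv_act]⟩

theorem commutator_lineStab {n : ℕ} (e : Fin n → F) :
    ⁅lineStab q e, lineStab q e⁆ ≤ vstab q e := by
  rw [Subgroup.commutator_le]
  rintro a ⟨c, hc, hce⟩ b ⟨d, hd, hde⟩
  show act (a * b * a⁻¹ * b⁻¹) e = e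
  have ea : act a⁻¹ e = c⁻¹ • e := by
    conv_lhs => rw [show e = c⁻¹ • act a e by rw [hce, smul_smul, inv_mul_cancel₀ hc, one_smul]]
    rw [act_smul, act_inv_act]
  have eb : act b⁻¹ e = d⁻¹ • e := by
    conv_lhs => rw [show e = d⁻¹ • act b e by rw [hde, smul_smul, inv_mul_cancel₀ hd, one_smul]]
    rw [act_smul, act_inv_act]
  rw [act_mul, act_mul, act_mul, eb, act_smul, ea, smul_smul, act_smul, hde, smul_smul, act_smul, hce,
    smul_smul, show d⁻¹ * c⁻¹ * d * c = 1 by field_simp, one_smul]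

/-- Centre of `SU 3` over nine elements. -/
theorem center_three (hF : Fintype.card F = 3 ^ 2) : Subgroup.center (Cfsg.SU 3 F 3) = ⊥ := by
  refine (Subgroup.card_eq_one).1 ?_
  rw [card_center_SU hF (by norm_num)]
  decide

set_option maxHeartbeats 1000000 in
/-- The lifting theorem. -/
theorem exists_lift_three (hF : Fintype.card F = 3 ^ 2) {g : Cfsg.SU 4 F 3 →* G}
    (hg : g.ker ≤ Subgroup.center (Cfsg.SU 4 F 3)) {ψ : Cfsg.SU 3 F 3 →* G}
    (hψ : Function.Injective ψ) (hle : ψ.range ≤ g.range) :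
    ∃ (e : Fin 4 → F) (θ : Cfsg.SU 3 F 3 →* Cfsg.SU 4 F 3), hermForm 4 F 3 e e = 1 ∧
      Function.Injective θ ∧ θ.range = vstab 3 e ∧ ∀ x, g (θ x) = ψ x := by
  classical
  obtain ⟨ga, gb, gd, a10, b00, hbb, hab, hda, hdb, mz, h2, a00, a11, a0011, a01, b11, b01, b10⟩ :=
    exists_quat hF
  set gz := ga * ga with hgz
  have hlift : ∀ x, ∃ X, g X = ψ x := fun x => hle ⟨x, rfl⟩
  choose L hL using hlift
  set θ0 : Cfsg.SU 2 F 3 →* G := ψ.comp (win 3 2 0)
  set θ1 : Cfsg.SU 2 F 3 →* G := ψ.comp (win 3 2 1)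
  have hθ0 : θ0.range ≤ g.range := by rintro _ ⟨x, rfl⟩; exact hle ⟨_, rfl⟩
  have hθ1 : θ1.range ≤ g.range := by rintro _ ⟨x, rfl⟩; exact hle ⟨_, rfl⟩
  set A0 := L (win 3 2 0 ga)
  set B0 := L (win 3 2 0 gb)
  set A1 := L (win 3 2 1 ga)
  set B1 := L (win 3 2 1 gb)
  set Z := A0 * B0 * A0⁻¹ * B0⁻¹ with hZdef
  set W := A1 * B1 * A1⁻¹ * B1⁻¹ with hWdef
  have hAB0 : A0 * B0 = Z * B0 * A0 := by rw [hZdef]; group
  have hAB1 : A1 * B1 = W * B1 * A1 := by rw [hWdef]; group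
  have hcom : ga * gb * ga⁻¹ * gb⁻¹ = gz := by rw [hab]; group
  have gZ : g Z = ψ (win 3 2 0 gz) := by
    rw [hZdef, map_mul, map_mul, map_mul, map_inv, map_inv, hL, hL, ← map_inv, ← map_inv, ← map_mul,
      ← map_mul, ← map_mul, ← map_inv, ← map_inv, ← map_mul, ← map_mul, ← map_mul, hcom]
  have gW : g W = ψ (win 3 2 1 gz) := by
    rw [hWdef, map_mul, map_mul, map_mul, map_inv, map_inv, hL, hL, ← map_inv, ← map_inv, ← map_mul,
      ← map_mul, ← map_mul, ← map_inv, ← map_inv, ← map_mul, ← map_mul, ← map_mul, hcom]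
  have gAA0 : g (A0 * A0) = g Z := by rw [map_mul, hL, ← map_mul, ← map_mul, gZ]
  have gAA1 : g (A1 * A1) = g W := by rw [map_mul, hL, ← map_mul, ← map_mul, gW]
  have gBB0 : g (B0 * B0) = g Z := by rw [map_mul, hL, ← map_mul, ← map_mul, hbb, gZ]
  have gBB1 : g (B1 * B1) = g W := by rw [map_mul, hL, ← map_mul, ← map_mul, hbb, gW]
  obtain ⟨hZ2, -⟩ := quat_invol hF hg gAA0 gBB0 hAB0
  obtain ⟨hW2, -⟩ := quat_invol hF hg gAA1 gBB1 hAB1
  obtain ⟨hz, hga, hgb⟩ : gz.1.1 = !![(-1 : F), 0; 0, -1] ∧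
      (ga.1.1 1 0 = 0 ∧ ga.1.1 0 1 = 0) ∧ (gb.1.1 0 0 = 0 ∧ gb.1.1 1 1 = 0) :=
    ⟨mz, ⟨a10, a01⟩, b00, b11⟩
  -- identities in `SU 3`
  have mat : ∀ {x y : Cfsg.SU 3 F 3}, x.1.1 = y.1.1 → x = y := fun h => Subtype.ext (Subtype.ext h)
  have c10 : win 3 2 1 ga * win 3 2 0 gz = win 3 2 0 gz * win 3 2 1 ga := mat (by
    show (win 3 2 1 ga).1.1 * (win 3 2 0 gz).1.1 = (win 3 2 0 gz).1.1 * (win 3 2 1 ga).1.1
    rw [win_low_val, win_high_val, hz]
    ext i j
    fin_cases i <;> fin_cases j <;> simp [Matrix.mul_apply, Fin.sum_univ_three, hga.1, hga.2] <;> ring)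
  have hZW : Z * W = W * Z := by
    refine comm_sq hF hg ?_ hZ2 gAA1
    rw [hL, gZ, ← map_mul, ← map_mul, c10]
  have hne1 : (-1 : F) ≠ 1 := fun e => h2 (by linear_combination -e)
  have nc : ∀ {x y : Cfsg.SU 3 F 3} (i j : Fin 3), (x.1.1 * y.1.1) i j ≠ (y.1.1 * x.1.1) i j →
      ψ x * ψ y ≠ ψ y * ψ x := by
    intro x y i j h e
    rw [← map_mul, ← map_mul] at e
    exact h (congrArg (fun z : Cfsg.SU 3 F 3 => z.1.1 i j) (hψ e))
  have tZ := trace_zero hF h2 hZ2 (not_scalar hF (hle ⟨win 3 2 1 gb, rfl⟩) (by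
    rw [gZ]
    refine nc 1 2 ?_
    rw [win_low_val, win_high_val, hz]
    simp [Matrix.mul_apply, Fin.sum_univ_three, b01]
    exact hne1.symm))
  have tW := trace_zero hF h2 hW2 (not_scalar hF (hle ⟨win 3 2 0 gb, rfl⟩) (by
    rw [gW]
    refine nc 0 1 ?_
    rw [win_low_val, win_high_val, hz]
    simp [Matrix.mul_apply, Fin.sum_univ_three, b01]
    exact hne1))
  have hZW2 : (Z * W) * (Z * W) = 1 := by
    calc (Z * W) * (Z * W) = Z * (W * Z) * W := by group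
      _ = Z * Z * (W * W) := by rw [← hZW]; group
      _ = 1 := by rw [hZ2, hW2, one_mul]
  have tZW := trace_zero hF h2 hZW2 (not_scalar hF (hle ⟨win 3 2 1 gb, rfl⟩) (by
    rw [map_mul, gZ, gW, ← map_mul]
    refine nc 1 2 ?_
    show ((win 3 2 0 gz).1.1 * (win 3 2 1 gz).1.1 * (win 3 2 1 gb).1.1) 1 2 ≠
      ((win 3 2 1 gb).1.1 * ((win 3 2 0 gz).1.1 * (win 3 2 1 gz).1.1)) 1 2
    rw [win_low_val, win_high_val, win_high_val, hz]
    simp [Matrix.mul_apply, Fin.sum_univ_three, b01]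
    exact hne1))
  obtain ⟨h, hZd, hWd⟩ := exists_diag hF h2 hZ2 hW2 hZW tZ tW tZW
  obtain ⟨h', hWd', hZd'⟩ := exists_diag hF h2 hW2 hZ2 hZW.symm tW tZ (hZW ▸ tZW)
  set R0 := L ((win 3 2 0 ga)⁻¹ * win 3 2 1 gz)
  set R1 := L ((win 3 2 1 ga)⁻¹ * win 3 2 0 gz)
  obtain ⟨gi, hgi⟩ : ∃ gi : Cfsg.SU 2 F 3, gi.1.1 = !![ga.1.1 1 1, 0; 0, ga.1.1 0 0] ∧ ga⁻¹ = gi := by
    refine ⟨ga⁻¹, ?_, rfl⟩
    show ((ga.1)⁻¹ : Matrix.SpecialLinearGroup (Fin 2) F).1 = _
    rw [Matrix.SpecialLinearGroup.coe_inv, Matrix.adjugate_fin_two, hga.1, hga.2, neg_zero]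
  obtain ⟨mi, ei⟩ := hgi
  have r0c : ∀ x, win 3 2 0 x * ((win 3 2 0 ga)⁻¹ * win 3 2 1 gz) =
      (win 3 2 0 ga)⁻¹ * win 3 2 1 gz * win 3 2 0 x := fun x => mat (by
    rw [← map_inv, ei]
    show (win 3 2 0 x).1.1 * ((win 3 2 0 gi).1.1 * (win 3 2 1 gz).1.1) =
      (win 3 2 0 gi).1.1 * (win 3 2 1 gz).1.1 * (win 3 2 0 x).1.1
    rw [win_low_val, win_low_val, win_high_val, hz, mi]
    have h00 : ga.1.1 1 1 = -ga.1.1 0 0 := by linear_combination (-ga.1.1 0 0) * a0011 + ga.1.1 1 1 * a00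
    ext i j
    fin_cases i <;> fin_cases j <;> simp [Matrix.mul_apply, Fin.sum_univ_three, h00] <;> ring)
  have r1c : ∀ x, win 3 2 1 x * ((win 3 2 1 ga)⁻¹ * win 3 2 0 gz) =
      (win 3 2 1 ga)⁻¹ * win 3 2 0 gz * win 3 2 1 x := fun x => mat (by
    rw [← map_inv, ei]
    show (win 3 2 1 x).1.1 * ((win 3 2 1 gi).1.1 * (win 3 2 0 gz).1.1) =
      (win 3 2 1 gi).1.1 * (win 3 2 0 gz).1.1 * (win 3 2 1 x).1.1
    rw [win_low_val, win_high_val, win_high_val, hz, mi]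
    have h00 : ga.1.1 1 1 = -ga.1.1 0 0 := by linear_combination (-ga.1.1 0 0) * a0011 + ga.1.1 1 1 * a00
    ext i j
    fin_cases i <;> fin_cases j <;> simp [Matrix.mul_apply, Fin.sum_univ_three, h00] <;> ring)
  have r0s : ((win 3 2 0 ga)⁻¹ * win 3 2 1 gz) * ((win 3 2 0 ga)⁻¹ * win 3 2 1 gz) = win 3 2 0 gz :=
    mat (by
      rw [← map_inv, ei]
      show (win 3 2 0 gi).1.1 * (win 3 2 1 gz).1.1 * ((win 3 2 0 gi).1.1 * (win 3 2 1 gz).1.1) = _
      rw [win_low_val, win_low_val, win_high_val, hz, mi]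
      ext i j
      fin_cases i <;> fin_cases j <;> simp [Matrix.mul_apply, Fin.sum_univ_three] <;>
        first | ring1 | linear_combination a11 | linear_combination a00)
  have r1s : ((win 3 2 1 ga)⁻¹ * win 3 2 0 gz) * ((win 3 2 1 ga)⁻¹ * win 3 2 0 gz) = win 3 2 1 gz :=
    mat (by
      rw [← map_inv, ei]
      show (win 3 2 1 gi).1.1 * (win 3 2 0 gz).1.1 * ((win 3 2 1 gi).1.1 * (win 3 2 0 gz).1.1) = _
      rw [win_low_val, win_high_val, win_high_val, hz, mi]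
      ext i j
      fin_cases i <;> fin_cases j <;> simp [Matrix.mul_apply, Fin.sum_univ_three] <;>
        first | ring1 | linear_combination a11 | linear_combination a00)
  have zc : ∀ x : Cfsg.SU 2 F 3, x * gz = gz * x := fun x => Subtype.ext (Subtype.ext (by
    show x.1.1 * gz.1.1 = gz.1.1 * x.1.1
    rw [hz]
    ext i j
    fin_cases i <;> fin_cases j <;> simp [Matrix.mul_apply, Fin.sum_univ_two]))
  have cZ : ∀ x X, g X = θ0 x → X * Z = Z * X :=
    exists_comm_lift hF hg hθ0 (fun x => by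
      show ψ (win 3 2 0 x) * g Z = g Z * ψ (win 3 2 0 x)
      rw [gZ, ← map_mul, ← map_mul, ← map_mul, ← map_mul, zc]) (fun X _ => by rw [hZ2, mul_one, one_mul])
  have cW : ∀ x X, g X = θ1 x → X * W = W * X :=
    exists_comm_lift hF hg hθ1 (fun x => by
      show ψ (win 3 2 1 x) * g W = g W * ψ (win 3 2 1 x)
      rw [gW, ← map_mul, ← map_mul, ← map_mul, ← map_mul, zc]) (fun X _ => by rw [hW2, mul_one, one_mul])
  have line0 := block_line hF h2 hg (θ := θ0) (A := A0) (B := B0) (R := R0) hZd hWd hθ0 cZ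
    (ga := ga) (gb := gb) (gc := ga * gb) (gd := gd) (hL _) (hL _) hAB0
    (by show ψ (win 3 2 0 ga) * ψ (win 3 2 0 ga) = g Z; rw [← map_mul, ← map_mul, gZ])
    (by show ψ (win 3 2 0 gb) * ψ (win 3 2 0 gb) = g Z; rw [← map_mul, ← map_mul, hbb, gZ])
    rfl hda hdb
    (by rw [hL, hL, ← map_mul, mul_inv_cancel_left, gW])
    (by rw [map_mul, hL, ← map_mul, r0s, gZ])
    (fun x => by show ψ _ * g R0 = g R0 * ψ _; rw [hL, ← map_mul, ← map_mul, r0c])
  have line1 := block_line hF h2 hg (θ := θ1) (A := A1) (B := B1) (R := R1) hWd' hZd' hθ1 cW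
    (ga := ga) (gb := gb) (gc := ga * gb) (gd := gd) (hL _) (hL _) hAB1
    (by show ψ (win 3 2 1 ga) * ψ (win 3 2 1 ga) = g W; rw [← map_mul, ← map_mul, gW])
    (by show ψ (win 3 2 1 gb) * ψ (win 3 2 1 gb) = g W; rw [← map_mul, ← map_mul, hbb, gW])
    rfl hda hdb
    (by rw [hL, hL, ← map_mul, mul_inv_cancel_left, gZ])
    (by rw [map_mul, hL, ← map_mul, r1s, gW])
    (fun x => by show ψ _ * g R1 = g R1 * ψ _; rw [hL, ← map_mul, ← map_mul, r1c])
  set e : Fin 4 → F := act h⁻¹ (bv 3) with he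
  have he1 : hermForm 4 F 3 e e = 1 := by rw [he, act_herm, herm_bv hF, if_pos rfl]
  have fix3 : ∀ {X : Cfsg.SU 4 F 3} {d : Fin 4 → F}, (h * X * h⁻¹).1.1 = diagonal d → d 3 = 1 →
      act X e = e := by
    intro X d hd hd3
    have h1 : act (h * X * h⁻¹) (bv 3) = bv 3 := by
      show (h * X * h⁻¹).1.1 *ᵥ _ = _
      rw [hd]
      funext k
      rw [Matrix.mulVec_diagonal]
      by_cases hk : k = 3
      · subst hk; simp [hd3]
      · simp [hk]
    rw [act_mul, act_mul] at h1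
    exact act_eq_iff.1 h1
  have eZ : act Z e = e := fix3 hZd (by simp)
  have eW : act W e = e := fix3 hWd (by simp)
  have he0 : e ≠ 0 := fun h0 => by rw [h0, herm_zero_left] at he1; exact zero_ne_one he1
  have mem_line : ∀ X, act Z (act X e) = act X e → act W (act X e) = act X e → X ∈ lineStab 3 e := by
    intro X h1 h2'
    obtain ⟨c, hc⟩ := fixed_line4 h2 hZd hWd h1 h2'
    exact ⟨c, fun c0 => he0 (by rw [← act_inv_act X e, hc, c0, zero_smul]; exact act_zero _), hc⟩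
  have hψle : ψ.range ≤ (lineStab 3 e).map g := by
    have htop : ((lineStab 3 e).map g).comap ψ = ⊤ := by
      refine top_le_iff.1 ?_
      rw [← gen_three hF le_rfl]
      refine sup_le ?_ ?_
      · rintro _ ⟨x, rfl⟩
        obtain ⟨h1, h2'⟩ := line0 x (L _) (hL _) e eZ eW
        exact ⟨_, mem_line _ h1 h2', hL _⟩
      · rintro _ ⟨x, rfl⟩
        obtain ⟨h1, h2'⟩ := line1 x (L _) (hL _) e eW eZ
        exact ⟨_, mem_line _ h2' h1, hL _⟩
    rintro _ ⟨x, rfl⟩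
    exact htop.ge (Subgroup.mem_top x)
  have hψv : ψ.range ≤ (vstab 3 e).map g := by
    rw [MonoidHom.range_eq_map, ← commutator_SU (F := F) (n := 3) hF le_rfl (by norm_num), commutator_def,
      Subgroup.map_commutator, ← MonoidHom.range_eq_map]
    refine (Subgroup.commutator_mono hψle hψle).trans ?_
    rw [← Subgroup.map_commutator]
    exact Subgroup.map_mono (commutator_lineStab e)
  -- the stabiliser is a copy of `SU 3`
  have hcard : Nat.card (vstab 3 e : Subgroup (Cfsg.SU 4 F 3)) = Nat.card (Cfsg.SU 3 F 3) := by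
    have h1 : (vstab 3 e).map (MulAut.conj h).toMonoidHom = (win 4 3 0 : Cfsg.SU 3 F 3 →* _).range := by
      rw [map_conj_vstab, he, act_act_inv, range_win hF (show 0 + 3 ≤ 4 by omega)]
      ext X
      rw [mem_fix, mem_vstab]
      refine ⟨fun h i hi => ?_, fun h => h 3 (by simp)⟩
      simp only [Finset.mem_filter, Finset.mem_univ, true_and] at hi
      obtain rfl : i = 3 := Fin.ext (by have := i.isLt; simp; omega)
      exact h
    rw [Nat.card_congr (Subgroup.equivMapOfInjective (vstab 3 e) (MulAut.conj h).toMonoidHom (MulAut.conj h).injective).toEquiv, h1]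
    exact (Nat.card_congr (MonoidHom.ofInjective (win_injective (N := 4) (a := 0) (by omega))).toEquiv).symm
  set r := g.comp (vstab 3 e).subtype with hr
  have hrr : r.range = (vstab 3 e).map g := by rw [hr, MonoidHom.range_comp, Subgroup.range_subtype]
  have hle' : Nat.card r.range ≤ Nat.card ψ.range := by
    refine (Nat.card_le_card_of_surjective r.rangeRestrict r.rangeRestrict_surjective).trans (le_of_eq ?_)
    rw [hcard]
    exact Nat.card_congr (MonoidHom.ofInjective hψ).toEquiv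
  haveI : Finite r.range := Finite.of_surjective _ r.rangeRestrict_surjective
  have heq : ψ.range = r.range := Subgroup.eq_of_le_of_card_ge (hrr ▸ hψv) hle'
  have hinj : Function.Injective r.rangeRestrict :=
    ((Nat.bijective_iff_surjective_and_card r.rangeRestrict).2 ⟨r.rangeRestrict_surjective, by
      rw [hcard, ← heq]
      exact Nat.card_congr (MonoidHom.ofInjective hψ).toEquiv⟩).1
  let iso := MulEquiv.ofBijective r.rangeRestrict ⟨hinj, r.rangeRestrict_surjective⟩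
  let ψ' := ψ.codRestrict r.range (fun x => heq ▸ ⟨x, rfl⟩)
  refine ⟨e, (vstab 3 e).subtype.comp (iso.symm.toMonoidHom.comp ψ'), he1, ?_, ?_, fun x => ?_⟩
  · exact (Subgroup.subtype_injective _).comp (iso.symm.injective.comp fun a b hab =>
      hψ (congrArg Subtype.val hab))
  · have hs : Function.Surjective ψ' := fun ⟨y, hy⟩ => by
      obtain ⟨x, hx⟩ := heq.ge hy
      exact ⟨x, Subtype.ext hx⟩
    rw [MonoidHom.range_comp, MonoidHom.range_eq_top.2 (iso.symm.surjective.comp hs :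
      Function.Surjective (iso.symm.toMonoidHom.comp ψ')), ← MonoidHom.range_eq_map, Subgroup.range_subtype]
  · exact congrArg Subtype.val (iso.apply_symm_apply (ψ' x))

end Rigid

end Cfsg.Agent.Lib.Phan
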