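import Cfsg.Agent.Lib.Phan.Coherent

/-!
# Phan's theorem, part 12

From weak Phan systems indexed by `Fin n` to surjections from `SU (n + 1)`.
-/

set_option autoImplicit false
set_option linter.unusedSectionVars false

namespace Cfsg.Agent.Lib.Phan

variable {F : Type*} [Field F] [Fintype F] {q n : ℕ} {G : Type*} [Group G]

/-- Extend a family of subgroups by trivial ones. -/
def extend (U : Fin n → Subgroup G) (i : ℕ) : Subgroup G := if h : i < n then U ⟨i, h⟩ else ⊥

theorem extend_eq (U : Fin n → Subgroup G) {i : ℕ} (h : i < n) : extend U i = U ⟨i, h⟩ := dif_pos h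

/-- The subgroups `V i (i + 1)`. -/
def extend₂ (V : Fin n → Fin n → Subgroup G) (i : ℕ) : Subgroup G :=
  if h : i + 1 < n then V ⟨i, by omega⟩ ⟨i + 1, h⟩ else ⊥

theorem extend₂_eq (V : Fin n → Fin n → Subgroup G) {i : ℕ} (h : i + 1 < n) :
    extend₂ V i = V ⟨i, by omega⟩ ⟨i + 1, h⟩ := dif_pos h

/-- Compatible windows for a weak Phan system, with the images determined. -/
theorem exists_windows_fin (hF : Fintype.card F = q ^ 2) (U : Fin n → Subgroup G)
    (V : Fin n → Fin n → Subgroup G)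
    (h1 : ∀ i j : Fin n, (i : ℕ) + 2 ≤ j → ∀ x ∈ U i, ∀ y ∈ U j, x * y = y * x)
    (h2 : ∀ i j : Fin n, (i : ℕ) + 1 = j →
      ∃ π : Cfsg.SU 3 F q →* G, π.range = V i j ∧ IsPair π (U i) (U j)) :
    ∃ W : Windows q F (n + 1) G, ∀ a, ∀ h : a + 1 < n,
      IsPair (W.ψ a) (U ⟨a, by omega⟩) (U ⟨a + 1, h⟩) ∧
        (W.ψ a).range = V ⟨a, by omega⟩ ⟨a + 1, h⟩ := by
  obtain ⟨W, hW⟩ := exists_windows hF (n := n) (extend U) (extend₂ V)
    (fun i j hij hj x hx y hy => by
      rw [extend_eq U (by omega)] at hx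
      rw [extend_eq U hj] at hy
      exact h1 _ _ (by simpa using hij) x hx y hy)
    (fun i hi => by
      rw [extend_eq U (show i < n by omega), extend_eq U hi, extend₂_eq V hi]
      exact h2 _ _ rfl)
  refine ⟨W, fun a h => ?_⟩
  have := hW a h
  rwa [extend_eq U (show a < n by omega), extend_eq U h, extend₂_eq V h] at this

/-- The windows generate when the weak Phan system does. -/
theorem surjective_of_windows (hn : 2 ≤ n) (U : Fin n → Subgroup G)
    (V : Fin n → Fin n → Subgroup G) (W : Windows q F (n + 1) G)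
    (hW : ∀ a, ∀ h : a + 1 < n, IsPair (W.ψ a) (U ⟨a, by omega⟩) (U ⟨a + 1, h⟩) ∧
      (W.ψ a).range = V ⟨a, by omega⟩ ⟨a + 1, h⟩)
    (hgen : (⨆ i, U i) ⊔ (⨆ (i : Fin n) (j : Fin n) (_ : (i : ℕ) + 1 = j), V i j) = ⊤)
    {f : Cfsg.SU (n + 1) F q →* G} (hf : W.Extends f) : Function.Surjective f := by
  refine hf.surjective (top_le_iff.1 ?_)
  rw [← hgen]
  refine sup_le (iSup_le fun i => ?_) (iSup_le fun i => iSup_le fun j => iSup_le fun hij => ?_)
  · rcases Nat.lt_or_ge ((i : ℕ) + 1) n with h | h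
    · refine le_iSup₂_of_le (i : ℕ) (by omega) ?_
      rw [← (hW i h).1.low]
      rintro _ ⟨x, rfl⟩; exact ⟨_, rfl⟩
    · have hi : ((i : ℕ) - 1) + 1 < n := by have := i.isLt; omega
      refine le_iSup₂_of_le ((i : ℕ) - 1) (by omega) ?_
      have e := (hW ((i : ℕ) - 1) hi).1.high
      rw [show (⟨(i : ℕ) - 1 + 1, hi⟩ : Fin n) = i from Fin.ext (by simp; omega)] at e
      rw [← e]
      rintro _ ⟨x, rfl⟩; exact ⟨_, rfl⟩
  · have h : (i : ℕ) + 1 < n := by rw [hij]; exact j.isLt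
    refine le_iSup₂_of_le (i : ℕ) (by omega) ?_
    rw [(hW i h).2, show (⟨(i : ℕ) + 1, h⟩ : Fin n) = j from Fin.ext hij]

end Cfsg.Agent.Lib.Phan
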