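import Cfsg.Agent.Lib.Phan.Blocks

/-!
# Phan's theorem, part 14

A copy of `SU 3` in a central quotient of `SU 4` (three-element fixed field) comes from the
stabiliser of a norm one vector.
-/

set_option autoImplicit false
set_option linter.unusedSectionVars false

namespace Cfsg.Agent.Lib.Phan

open Matrix Module Cfsg.Agent.Lib.Unitary

namespace Rigid

variable {F : Type*} [Field F] [Fintype F] {q : ℕ} {G : Type*} [Group G]

theorem eq_smul_of_ker (hF : Fintype.card F = q ^ 2) {g : Cfsg.SU 4 F q →* G}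
    (hg : g.ker ≤ Subgroup.center (Cfsg.SU 4 F q)) {X Y : Cfsg.SU 4 F q} (h : g X = g Y) :
    ∃ l : F, l ≠ 0 ∧ Y.1.1 = l • X.1.1 := by
  have hz : X⁻¹ * Y ∈ Subgroup.center (Cfsg.SU 4 F q) :=
    hg (by rw [MonoidHom.mem_ker, map_mul, map_inv, h, inv_mul_cancel])
  obtain ⟨l, hl⟩ := (mem_center_SU_iff hF (by norm_num) _).1 hz
  have hM : (X⁻¹ * Y).1.1 = l • (1 : Matrix (Fin 4) (Fin 4) F) :=
    Matrix.toLin'.injective (LinearMap.ext fun x => by
      rw [Matrix.toLin'_apply, Matrix.toLin'_apply, hl, smul_mulVec, one_mulVec])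
  have e : Y.1.1 = l • X.1.1 := by
    have : Y = X * (X⁻¹ * Y) := (mul_inv_cancel_left _ _).symm
    rw [this]
    show X.1.1 * (X⁻¹ * Y).1.1 = _
    rw [hM, Matrix.mul_smul, Matrix.mul_one]
  refine ⟨l, fun h0 => ?_, e⟩
  have h1 : Y.1.1.det = 1 := Y.1.2
  rw [e, h0, zero_smul, Matrix.det_zero] at h1
  exact zero_ne_one h1

theorem ne_zero_mat {n : ℕ} [NeZero n] (X : Cfsg.SU n F q) : X.1.1 ≠ 0 := fun e => by
  have h1 : X.1.1.det = 1 := X.1.2
  rw [e, Matrix.det_zero] at h1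
  exact zero_ne_one h1

theorem smul_left_inj' {n : ℕ} [NeZero n] {X : Cfsg.SU n F q} {a b : F} (h : a • X.1.1 = b • X.1.1) :
    a = b := by
  by_contra hne
  refine ne_zero_mat X ((smul_eq_zero.1 (show (a - b) • X.1.1 = 0 by rw [sub_smul, h, sub_self])).resolve_left
    (sub_ne_zero.2 hne))

theorem pow_twisted {X Z : Cfsg.SU 4 F q} {l : F} (h : X.1.1 * Z.1.1 = l • (Z.1.1 * X.1.1)) (n : ℕ) :
    (X ^ n).1.1 * Z.1.1 = l ^ n • (Z.1.1 * (X ^ n).1.1) := by
  induction n with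
  | zero => simp
  | succ n ih =>
    rw [pow_succ]
    show ((X ^ n).1.1 * X.1.1) * Z.1.1 = _
    rw [Matrix.mul_assoc, h, Matrix.mul_smul, ← Matrix.mul_assoc, ih, Matrix.smul_mul, smul_smul,
      ← pow_succ', Matrix.mul_assoc, ← pow_succ]
    rfl

/-- Commutation of images lifts when the square of the second commutes and the first has order
dividing `q`. -/
theorem comm_of_pow (hF : Fintype.card F = q ^ 2) {g : Cfsg.SU 4 F q →* G}
    (hg : g.ker ≤ Subgroup.center (Cfsg.SU 4 F q)) {X Z : Cfsg.SU 4 F q}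
    (hXq : g X ^ q = 1) (h : g X * g Z = g Z * g X) (hZ2 : X * (Z * Z) = Z * Z * X) :
    X * Z = Z * X := by
  obtain ⟨l, -, hl⟩ := eq_smul_of_ker hF hg (show g (Z * X) = g (X * Z) by rw [map_mul, map_mul, h])
  change X.1.1 * Z.1.1 = l • (Z.1.1 * X.1.1) at hl
  have h2 : l * l = 1 := by
    refine smul_left_inj' (X := Z * Z * X) ?_
    rw [one_smul]
    conv_rhs => rw [← hZ2]
    show (l * l) • (Z.1.1 * Z.1.1 * X.1.1) = X.1.1 * (Z.1.1 * Z.1.1)
    rw [← Matrix.mul_assoc X.1.1, hl, Matrix.smul_mul, Matrix.mul_assoc Z.1.1 X.1.1 Z.1.1, hl,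
      Matrix.mul_smul, smul_smul, Matrix.mul_assoc]
  have hq : l ^ q = 1 := by
    obtain ⟨c, -, hc⟩ := eq_smul_of_ker hF hg (show g 1 = g (X ^ q) by rw [map_one, map_pow, hXq])
    have hp := pow_twisted hl q
    rw [hc] at hp
    refine smul_left_inj' (X := Z * X ^ q) ?_
    rw [one_smul]
    show l ^ q • (Z.1.1 * (X ^ q).1.1) = Z.1.1 * (X ^ q).1.1
    rw [hc, ← hp]
    simp
  have hl1 : l = 1 := pow_q_injective hF (by rw [hq, one_pow])
  refine Subtype.ext (Subtype.ext ?_)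
  show X.1.1 * Z.1.1 = Z.1.1 * X.1.1
  rw [hl, hl1, one_smul]

/-- `SU 2` is generated by the elements of order dividing `q`. -/
theorem gen_pow_q (hF : Fintype.card F = q ^ 2) {S : Subgroup (Cfsg.SU 2 F q)}
    (h : ∀ x, x ^ q = 1 → x ∈ S) : S = ⊤ := by
  classical
  let K : Subfield F := (conj hF).eqLocusField (RingHom.id F)
  haveI : Fintype K := Fintype.ofFinite K
  have hK : Fintype.card K = q := by
    rw [← Nat.card_eq_fintype_card]
    exact card_fixed hF
  obtain ⟨e⟩ := UnitarySmall.nonempty_SU2_equiv_SL2 hF hK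
  have htop : S.comap e.symm.toMonoidHom = ⊤ :=
    Cfsg.Agent.Lib.Linear.sl_eq_top_of_transvection_mem _ fun i j hij t => h _ (by
      have h1 := transvection_pow hij t
      rw [hK] at h1
      show (e.symm _) ^ q = 1
      rw [← map_pow, h1, map_one])
  refine eq_top_iff.2 fun x _ => ?_
  have := htop.ge (Subgroup.mem_top (e x))
  simpa using this

/-- Lifts of a block commute with a fixed element whose image commutes with the block. -/
theorem exists_comm_lift (hF : Fintype.card F = q ^ 2) {g : Cfsg.SU 4 F q →* G}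
    (hg : g.ker ≤ Subgroup.center (Cfsg.SU 4 F q)) {θ : Cfsg.SU 2 F q →* G} (hθ : θ.range ≤ g.range)
    {Z : Cfsg.SU 4 F q} (h : ∀ x, θ x * g Z = g Z * θ x)
    (hZ2 : ∀ X, g X ∈ θ.range → X * (Z * Z) = Z * Z * X) :
    ∀ x X, g X = θ x → X * Z = Z * X := by
  have key : ((Subgroup.centralizer ({Z} : Set (Cfsg.SU 4 F q))).map g).comap θ = ⊤ :=
    gen_pow_q hF fun x hx => by
      obtain ⟨X, hX⟩ := hθ ⟨x, rfl⟩
      refine ⟨X, Subgroup.mem_centralizer_singleton_iff.2 ?_, hX⟩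
      exact comm_of_pow hF hg (by rw [hX, ← map_pow, hx, map_one]) (by rw [hX]; exact h x)
        (hZ2 X ⟨x, hX.symm⟩)
  intro x X hX
  obtain ⟨Y, hY, hYx⟩ := key.ge (Subgroup.mem_top x)
  obtain ⟨l, -, hl⟩ := eq_smul_of_ker hF hg (hYx.trans hX.symm)
  have hYc := Subgroup.mem_centralizer_singleton_iff.1 hY
  refine Subtype.ext (Subtype.ext ?_)
  show X.1.1 * Z.1.1 = Z.1.1 * X.1.1
  rw [hl, Matrix.smul_mul, Matrix.mul_smul]
  exact congrArg (l • ·) (congrArg (fun W : Cfsg.SU 4 F q => W.1.1) hYc)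

/-- The commutator of quaternion lifts is an involution. -/
theorem comm_sq_one {A B Z : Cfsg.SU 4 F q} (hA : A * Z = Z * A) (hAB : A * (B * B) = B * B * A)
    (hB : B * Z = Z * B) (hZ : A * B = Z * B * A) : Z * Z = 1 := by
  have h : A * (B * B) = Z * Z * (B * B) * A := by
    calc A * (B * B) = Z * B * A * B := by rw [← mul_assoc, hZ]
      _ = Z * B * (A * B) := by simp only [mul_assoc]
      _ = Z * (B * Z) * B * A := by rw [hZ]; simp only [mul_assoc]
      _ = Z * Z * (B * B) * A := by rw [hB]; simp only [mul_assoc]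
  rw [hAB, mul_assoc (Z * Z)] at h
  have := mul_right_cancel (b := (B * B) * A) (a := (1 : Cfsg.SU 4 F q)) (c := Z * Z) (by rw [one_mul]; exact h)
  exact this.symm

/-! ### Two-by-two algebra -/

theorem sq_scalar {a : Matrix (Fin 2) (Fin 2) F} {μ : F} (h : a * a = μ • 1) :
    (∃ α : F, a = α • (1 : Matrix (Fin 2) (Fin 2) F)) ∨ a 0 0 + a 1 1 = 0 := by
  by_cases ht : a 0 0 + a 1 1 = 0
  · exact Or.inr ht
  left
  have e01 := congrFun (congrFun h 0) 1
  have e10 := congrFun (congrFun h 1) 0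
  have e00 := congrFun (congrFun h 0) 0
  have e11 := congrFun (congrFun h 1) 1
  simp [Matrix.mul_apply, Fin.sum_univ_two] at e01 e10 e00 e11
  have h01 : a 0 1 = 0 := (mul_eq_zero.1 (show (a 0 0 + a 1 1) * a 0 1 = 0 by
    linear_combination e01)).resolve_left ht
  have h10 : a 1 0 = 0 := (mul_eq_zero.1 (show (a 0 0 + a 1 1) * a 1 0 = 0 by
    linear_combination e10)).resolve_left ht
  have hd : a 0 0 = a 1 1 := sub_eq_zero.1 ((mul_eq_zero.1 (show (a 0 0 + a 1 1) * (a 0 0 - a 1 1) = 0 by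
    linear_combination e00 - e11)).resolve_left ht)
  exact ⟨a 0 0, by ext i j; fin_cases i <;> fin_cases j <;> simp [h01, h10, hd]⟩

theorem comm_trace_zero (h2 : (2 : F) ≠ 0) {a b : Matrix (Fin 2) (Fin 2) F}
    (ha : ¬ ∃ α : F, a = α • (1 : Matrix (Fin 2) (Fin 2) F))
    (hta : a 0 0 + a 1 1 = 0) (htb : b 0 0 + b 1 1 = 0) (h : a * b = b * a) :
    ∃ β : F, b = β • a := by
  have e00 := congrFun (congrFun h 0) 0
  have e01 := congrFun (congrFun h 0) 1
  have e10 := congrFun (congrFun h 1) 0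
  simp [Matrix.mul_apply, Fin.sum_univ_two] at e00 e01 e10
  have ha1 : a 1 1 = -a 0 0 := by linear_combination hta
  have hb1 : b 1 1 = -b 0 0 := by linear_combination htb
  rw [ha1, hb1] at e01 e10
  have c1 : a 0 0 * b 0 1 - a 0 1 * b 0 0 = 0 :=
    (mul_eq_zero.1 (show (2 : F) * (a 0 0 * b 0 1 - a 0 1 * b 0 0) = 0 by linear_combination e01)).resolve_left h2
  have c2 : a 1 0 * b 0 0 - a 0 0 * b 1 0 = 0 :=
    (mul_eq_zero.1 (show (2 : F) * (a 1 0 * b 0 0 - a 0 0 * b 1 0) = 0 by linear_combination e10)).resolve_left h2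
  by_cases h00 : a 0 0 = 0
  · by_cases h01 : a 0 1 = 0
    · by_cases h10 : a 1 0 = 0
      · exact absurd ⟨0, by ext i j; fin_cases i <;> fin_cases j <;> simp [h00, h01, h10, ha1]⟩ ha
      · refine ⟨b 1 0 / a 1 0, ?_⟩
        rw [h00] at c2
        rw [h01, h00] at e00
        simp at c2 e00
        ext i j
        fin_cases i <;> fin_cases j <;> simp [h00, h01, ha1, hb1] <;> (try field_simp)
        · exact c2.resolve_left h10
        · exact e00.resolve_right h10
        · exact c2.resolve_left h10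
    · refine ⟨b 0 1 / a 0 1, ?_⟩
      rw [h00] at c1
      simp at c1
      ext i j
      fin_cases i <;> fin_cases j <;> simp [h00, ha1, hb1] <;> (try field_simp)
      · exact c1.resolve_left h01
      · linear_combination e00
      · exact c1.resolve_left h01
  · refine ⟨b 0 0 / a 0 0, ?_⟩
    ext i j
    fin_cases i <;> fin_cases j <;> simp [ha1, hb1] <;> (try field_simp)
    · linear_combination c1
    · linear_combination -c2

/-- Commuting quaternion lifts permuted cyclically are scalar. -/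
theorem quaternion_scalar (h2 : (2 : F) ≠ 0) {a b c D : Matrix (Fin 2) (Fin 2) F} {μ μ' k k' k'' : F}
    (hab : a * b = b * a) (haa : a * a = μ • 1) (hbb : b * b = μ' • 1) (hc : a * b = k'' • c)
    (hk'' : k'' ≠ 0) (hD : IsUnit D) (hk' : k' ≠ 0)
    (h1 : D * a = k • (c * D)) (h2' : D * b = k' • (a * D)) :
    ∃ α : F, a = α • (1 : Matrix (Fin 2) (Fin 2) F) := by
  by_contra hna
  have hnb : ¬ ∃ β : F, b = β • (1 : Matrix (Fin 2) (Fin 2) F) := by
    rintro ⟨β, rfl⟩
    refine hna ⟨β / k', hD.mul_right_cancel ?_⟩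
    rw [Matrix.mul_smul, Matrix.mul_one] at h2'
    rw [Matrix.smul_mul, Matrix.one_mul, div_eq_inv_mul, ← smul_smul, h2', smul_smul, inv_mul_cancel₀ hk',
      one_smul]
  obtain ⟨β, rfl⟩ := comm_trace_zero h2 hna ((sq_scalar haa).resolve_left hna)
    ((sq_scalar hbb).resolve_left hnb) hab
  rw [Matrix.mul_smul, haa, smul_smul] at hc
  have hc' : c = (k''⁻¹ * (β * μ)) • (1 : Matrix (Fin 2) (Fin 2) F) := by
    rw [← smul_smul, hc, smul_smul, inv_mul_cancel₀ hk'', one_smul]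
  rw [hc', Matrix.smul_mul, Matrix.one_mul, smul_smul] at h1
  refine hna ⟨k * (k''⁻¹ * (β * μ)), hD.mul_left_cancel ?_⟩
  rw [h1, Matrix.mul_smul, Matrix.mul_one]

/-! ### Commuting involutions -/

theorem trace_zero (hF : Fintype.card F = q ^ 2) (h2 : (2 : F) ≠ 0) {Z : Cfsg.SU 4 F q} (hZ : Z * Z = 1)
    (hne : ∀ l : F, Z.1.1 ≠ l • (1 : Matrix (Fin 4) (Fin 4) F)) : Z.1.1.trace = 0 := by
  classical
  obtain ⟨Vp, hVp⟩ : ∃ W : Submodule F (Fin 4 → F), ∀ a, a ∈ W ↔ Z.1.1 *ᵥ a = a :=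
    ⟨LinearMap.ker (Matrix.toLin' Z.1.1 - LinearMap.id), fun a => by
      rw [LinearMap.mem_ker, LinearMap.sub_apply, sub_eq_zero, Matrix.toLin'_apply, LinearMap.id_apply]⟩
  obtain ⟨Vm, hVm⟩ : ∃ W : Submodule F (Fin 4 → F), ∀ a, a ∈ W ↔ Z.1.1 *ᵥ a = -a :=
    ⟨LinearMap.ker (Matrix.toLin' Z.1.1 + LinearMap.id), fun a => by
      rw [LinearMap.mem_ker, LinearMap.add_apply, add_eq_zero_iff_eq_neg, Matrix.toLin'_apply,
        LinearMap.id_apply]⟩
  have hzz : ∀ a : Fin 4 → F, Z.1.1 *ᵥ (Z.1.1 *ᵥ a) = a := fun a => by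
    rw [mulVec_mulVec, show Z.1.1 * Z.1.1 = 1 from congrArg (fun X : Cfsg.SU 4 F q => X.1.1) hZ, one_mulVec]
  have hc : IsCompl Vp Vm := by
    refine ⟨?_, codisjoint_iff.2 ?_⟩
    · rw [disjoint_iff, Submodule.eq_bot_iff]
      intro a ha
      have h := (hVp a).1 ha.1
      rw [(hVm a).1 ha.2] at h
      funext i
      have hi := congrFun h i
      simp only [Pi.neg_apply] at hi
      exact (mul_eq_zero.1 (show (2 : F) * a i = 0 by linear_combination -hi)).resolve_left h2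
    · rw [eq_top_iff]
      intro a _
      have e : a = (2 : F)⁻¹ • (a + Z.1.1 *ᵥ a) + (2 : F)⁻¹ • (a - Z.1.1 *ᵥ a) := by
        funext i
        simp only [Pi.add_apply, Pi.smul_apply, Pi.sub_apply, smul_eq_mul]
        field_simp
        ring
      rw [e]
      refine Submodule.add_mem_sup ((hVp _).2 ?_) ((hVm _).2 ?_)
      · rw [mulVec_smul, mulVec_add, hzz, add_comm]
      · rw [mulVec_smul, mulVec_sub, hzz, ← smul_neg, neg_sub]
  have hadd := Submodule.finrank_add_eq_of_isCompl hc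
  rw [finrank_fin_fun] at hadd
  let e := Submodule.prodEquivOfIsCompl Vp Vm hc
  have h4 : Matrix.toLin' Z.1.1 = (e : (Vp × Vm) →ₗ[F] Fin 4 → F) ∘ₗ
      LinearMap.prodMap (LinearMap.id : Vp →ₗ[F] Vp) (-(LinearMap.id : Vm →ₗ[F] Vm)) ∘ₗ
        (e.symm : (Fin 4 → F) →ₗ[F] Vp × Vm) := by
    refine LinearMap.ext fun x => ?_
    obtain ⟨⟨a, b⟩, rfl⟩ := e.surjective x
    simp [e, Matrix.mulVec_add, (hVp _).1 a.2, (hVm _).1 b.2]
  have htr : Z.1.1.trace = (finrank F Vp : F) - finrank F Vm := by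
    rw [← Matrix.trace_toLin'_eq, h4, ← LinearMap.comp_assoc, LinearMap.trace_comp_comm',
      ← LinearMap.comp_assoc]
    rw [show (e.symm : (Fin 4 → F) →ₗ[F] Vp × Vm) ∘ₗ (e : (Vp × Vm) →ₗ[F] Fin 4 → F) = LinearMap.id from
      LinearMap.ext fun x => e.symm_apply_apply x, LinearMap.id_comp, LinearMap.trace_prodMap',
      LinearMap.trace_id]
    rw [show -(LinearMap.id : Vm →ₗ[F] Vm) = (-1 : F) • (LinearMap.id : Vm →ₗ[F] Vm) by
      rw [neg_smul (1 : F) (LinearMap.id : Vm →ₗ[F] Vm), one_smul], map_smul, LinearMap.trace_id,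
      smul_eq_mul, neg_one_mul, sub_eq_add_neg]
  have hdet : (-1 : F) ^ finrank F Vm = 1 := by
    have h1 : Z.1.1.det = 1 := Z.1.2
    rw [← LinearMap.det_toLin', h4, LinearMap.det_conj, LinearMap.det_prodMap, LinearMap.det_id, one_mul,
      show -(LinearMap.id : Vm →ₗ[F] Vm) = (-1 : F) • (LinearMap.id : Vm →ₗ[F] Vm) by
        rw [neg_smul (1 : F) (LinearMap.id : Vm →ₗ[F] Vm), one_smul],
      LinearMap.det_smul, LinearMap.det_id, mul_one] at h1
    exact h1
  rcases (show finrank F Vm = 0 ∨ finrank F Vm = 1 ∨ finrank F Vm = 2 ∨ finrank F Vm = 3 ∨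
      finrank F Vm = 4 by omega) with h | h | h | h | h
  · refine absurd ?_ (hne 1)
    rw [one_smul]
    refine Matrix.toLin'.injective (LinearMap.ext fun a => ?_)
    rw [Matrix.toLin'_apply, Matrix.toLin'_apply, one_mulVec]
    have htop : Vp = ⊤ := Submodule.eq_top_of_finrank_eq (by rw [finrank_fin_fun]; omega)
    exact (hVp a).1 (htop ▸ Submodule.mem_top)
  · rw [h, pow_one] at hdet
    exact absurd (by linear_combination -hdet : (2 : F) = 0) h2
  · rw [htr, h, show finrank F Vp = 2 by omega, sub_self]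
  · rw [h] at hdet
    exact absurd (by linear_combination -hdet : (2 : F) = 0) h2
  · refine absurd ?_ (hne (-1))
    refine Matrix.toLin'.injective (LinearMap.ext fun a => ?_)
    rw [Matrix.toLin'_apply, Matrix.toLin'_apply, smul_mulVec, one_mulVec, neg_one_smul]
    have htop : Vm = ⊤ := Submodule.eq_top_of_finrank_eq (by rw [finrank_fin_fun]; omega)
    exact (hVm a).1 (htop ▸ Submodule.mem_top)

/-- Joint eigenvectors of two commuting involutions in general position. -/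
theorem exists_eigen (h2 : (2 : F) ≠ 0) {Z W : Cfsg.SU 4 F q} (hZ : Z * Z = 1) (hW : W * W = 1)
    (hc : Z * W = W * Z) (tZ : Z.1.1.trace = 0) (tW : W.1.1.trace = 0) (tZW : (Z * W).1.1.trace = 0)
    {ε δ : F} (hε : ε * ε = 1) (hδ : δ * δ = 1) :
    ∃ v : Fin 4 → F, v ≠ 0 ∧ act Z v = ε • v ∧ act W v = δ • v := by
  set M : Matrix (Fin 4) (Fin 4) F := 1 + ε • Z.1.1 + δ • W.1.1 + (ε * δ) • (Z.1.1 * W.1.1) with hM
  have hM0 : M ≠ 0 := fun h => by
    have t := congrArg Matrix.trace h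
    have tZW' : (Z.1.1 * W.1.1).trace = 0 := tZW
    simp [hM, Matrix.trace_add, Matrix.trace_smul, tZ, tW, tZW'] at t
    exact h2 (mul_self_eq_zero.1 (by linear_combination t))
  obtain ⟨x, hx⟩ : ∃ x, M *ᵥ x ≠ 0 := by
    by_contra hcon
    push Not at hcon
    exact hM0 (Matrix.toLin'.injective (LinearMap.ext fun x => by simp [hcon x]))
  have hZ' : Z.1.1 * Z.1.1 = 1 := congrArg (fun X : Cfsg.SU 4 F q => X.1.1) hZ
  have hW' : W.1.1 * W.1.1 = 1 := congrArg (fun X : Cfsg.SU 4 F q => X.1.1) hW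
  have hc' : Z.1.1 * W.1.1 = W.1.1 * Z.1.1 := congrArg (fun X : Cfsg.SU 4 F q => X.1.1) hc
  refine ⟨M *ᵥ x, hx, ?_, ?_⟩
  · show Z.1.1 *ᵥ (M *ᵥ x) = _
    rw [mulVec_mulVec, ← smul_mulVec]
    congr 1
    simp only [hM, Matrix.mul_add, Matrix.mul_one, Matrix.mul_smul, ← Matrix.mul_assoc, hZ',
      Matrix.one_mul, smul_add, smul_smul, hε, ← mul_assoc, one_mul, one_smul]
    module
  · show W.1.1 *ᵥ (M *ᵥ x) = _
    rw [mulVec_mulVec, ← smul_mulVec]
    congr 1
    have e : W.1.1 * (Z.1.1 * W.1.1) = Z.1.1 := by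
      rw [← Matrix.mul_assoc, ← hc', Matrix.mul_assoc, hW', Matrix.mul_one]
    simp only [hM, Matrix.mul_add, Matrix.mul_one, Matrix.mul_smul, hW', e, ← hc', smul_add, smul_smul,
      hδ, one_smul, show δ * (ε * δ) = ε by rw [mul_comm ε, ← mul_assoc, hδ, one_mul], mul_comm δ ε]
    module

/-- Two commuting involutions in general position are diagonal after a move. -/
theorem exists_diag (hF : Fintype.card F = q ^ 2) (h2 : (2 : F) ≠ 0) {Z W : Cfsg.SU 4 F q}
    (hZ : Z * Z = 1) (hW : W * W = 1) (hc : Z * W = W * Z) (tZ : Z.1.1.trace = 0)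
    (tW : W.1.1.trace = 0) (tZW : (Z * W).1.1.trace = 0) :
    ∃ h : Cfsg.SU 4 F q, (h * Z * h⁻¹).1.1 = diagonal ![-1, -1, 1, 1] ∧
      (h * W * h⁻¹).1.1 = diagonal ![1, -1, -1, 1] := by
  have hne1 : (-1 : F) ≠ 1 := fun e => h2 (by linear_combination -e)
  obtain ⟨u0, n0, z0, w0⟩ := exists_eigen h2 hZ hW hc tZ tW tZW (ε := -1) (δ := 1) (by ring) (by ring)
  obtain ⟨u1, n1, z1, w1⟩ := exists_eigen h2 hZ hW hc tZ tW tZW (ε := -1) (δ := -1) (by ring) (by ring)
  obtain ⟨u2, n2, z2, w2⟩ := exists_eigen h2 hZ hW hc tZ tW tZW (ε := 1) (δ := -1) (by ring) (by ring)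
  obtain ⟨u3, n3, z3, w3⟩ := exists_eigen h2 hZ hW hc tZ tW tZW (ε := 1) (δ := 1) (by ring) (by ring)
  have orth : ∀ (X : Cfsg.SU 4 F q) {u v : Fin 4 → F} {a b : F}, act X u = a • u → act X v = b • v →
      a * b ^ q ≠ 1 → hermForm 4 F q u v = 0 := by
    intro X u v a b hu hv hab
    have h := act_herm X u v
    rw [hu, hv, herm_smul_left, herm_smul_right] at h
    exact (mul_eq_zero.1 (show (a * b ^ q - 1) * hermForm 4 F q u v = 0 by linear_combination h)).resolve_left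
      (sub_ne_zero.2 hab)
  have hq1 : ((-1 : F)) ^ q = -1 := by rw [neg_pow_q hF, one_pow]
  have h12 : hermForm 4 F q u1 u2 = 0 := orth Z z1 z2 (by simpa using hne1)
  have h13 : hermForm 4 F q u1 u3 = 0 := orth Z z1 z3 (by simpa using hne1)
  have h23 : hermForm 4 F q u2 u3 = 0 := orth W w2 w3 (by simpa using hne1)
  have h01 : hermForm 4 F q u0 u1 = 0 := orth W w0 w1 (by simpa [hq1] using hne1)
  have h02 : hermForm 4 F q u0 u2 = 0 := orth Z z0 z2 (by simpa using hne1)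
  have h03 : hermForm 4 F q u0 u3 = 0 := orth Z z0 z3 (by simpa using hne1)
  have hnd : ∀ {a b c d : Fin 4 → F}, LinearIndependent F ![a, b, c, d] → a ≠ 0 →
      hermForm 4 F q a b = 0 → hermForm 4 F q a c = 0 → hermForm 4 F q a d = 0 →
        hermForm 4 F q a a ≠ 0 :=
    fun hli ha hb hc hd h0 => ha (eq_zero_of_four hF hli h0 hb hc hd)
  have hli : LinearIndependent F ![u0, u1, u2, u3] := by
    rw [Fintype.linearIndependent_iff]
    intro c hcu
    simp only [Fin.sum_univ_four, Matrix.cons_val_zero, Matrix.cons_val_one, Matrix.cons_val_two,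
      Matrix.cons_val_three, Matrix.head_cons, Matrix.tail_cons] at hcu
    have eZ := congrArg (act Z) hcu
    have eW := congrArg (act W) hcu
    have eZW := congrArg (fun v => act Z (act W v)) hcu
    simp only [act_add, act_smul, z0, z1, z2, z3, w0, w1, w2, w3, act_zero, smul_smul] at eZ eW eZW
    intro i
    have h4 : (2 : F) * 2 ≠ 0 := mul_ne_zero h2 h2
    have g0 : (2 * 2 * c 0) • u0 = 0 := by
      linear_combination (norm := module) hcu - eZ + eW - eZW
    have g1 : (2 * 2 * c 1) • u1 = 0 := by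
      linear_combination (norm := module) hcu - eZ - eW + eZW
    have g2 : (2 * 2 * c 2) • u2 = 0 := by
      linear_combination (norm := module) hcu + eZ - eW - eZW
    have g3 : (2 * 2 * c 3) • u3 = 0 := by
      linear_combination (norm := module) hcu + eZ + eW + eZW
    fin_cases i
    · exact (mul_eq_zero.1 ((smul_eq_zero.1 g0).resolve_right n0)).resolve_left h4
    · exact (mul_eq_zero.1 ((smul_eq_zero.1 g1).resolve_right n1)).resolve_left h4
    · exact (mul_eq_zero.1 ((smul_eq_zero.1 g2).resolve_right n2)).resolve_left h4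
    · exact (mul_eq_zero.1 ((smul_eq_zero.1 g3).resolve_right n3)).resolve_left h4
  have perm : ∀ p : Fin 4 ≃ Fin 4, LinearIndependent F (![u0, u1, u2, u3] ∘ p) :=
    fun p => hli.comp p p.injective
  have m1 : hermForm 4 F q u1 u1 ≠ 0 := by
    have h := perm (Equiv.swap 0 1)
    rw [show ![u0, u1, u2, u3] ∘ (Equiv.swap (0 : Fin 4) 1) = ![u1, u0, u2, u3] by
      funext i; fin_cases i <;> rfl] at h
    exact hnd h n1 (herm_eq_zero_symm hF h01) h12 h13
  have m2 : hermForm 4 F q u2 u2 ≠ 0 := by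
    have h := perm (Equiv.swap 0 2)
    rw [show ![u0, u1, u2, u3] ∘ (Equiv.swap (0 : Fin 4) 2) = ![u2, u1, u0, u3] by
      funext i; fin_cases i <;> rfl] at h
    exact hnd h n2 (herm_eq_zero_symm hF h12) (herm_eq_zero_symm hF h02) h23
  have m3 : hermForm 4 F q u3 u3 ≠ 0 := by
    have h := perm (Equiv.swap 0 3)
    rw [show ![u0, u1, u2, u3] ∘ (Equiv.swap (0 : Fin 4) 3) = ![u3, u1, u2, u0] by
      funext i; fin_cases i <;> rfl] at h
    exact hnd h n3 (herm_eq_zero_symm hF h13) (herm_eq_zero_symm hF h23) (herm_eq_zero_symm hF h03)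
  obtain ⟨a1, -, e1⟩ := exists_unit_of_ne_zero hF m1
  obtain ⟨a2, -, e2⟩ := exists_unit_of_ne_zero hF m2
  obtain ⟨a3, -, e3⟩ := exists_unit_of_ne_zero hF m3
  have p12 : hermForm 4 F q (a1 • u1) (a2 • u2) = 0 := by rw [herm_smul_left, herm_smul_right, h12]; ring
  have p13 : hermForm 4 F q (a1 • u1) (a3 • u3) = 0 := by rw [herm_smul_left, herm_smul_right, h13]; ring
  have p23 : hermForm 4 F q (a2 • u2) (a3 • u3) = 0 := by rw [herm_smul_left, herm_smul_right, h23]; ring
  obtain ⟨h, -, hh⟩ := exists_fix_of_gram hF (∅ : Finset (Fin 4))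
    (b := ![a1 • u1, a2 • u2, a3 • u3]) (c := ![bv 1, bv 2, bv 3]) (by simp)
    (fun _ => fun x hx => absurd hx (Finset.notMem_empty x))
    (fun _ => fun x hx => absurd hx (Finset.notMem_empty x))
    (gramInj_orthonormal fun i j => by
      fin_cases i <;> fin_cases j <;>
        simp [e1, e2, e3, p12, p13, p23, herm_eq_zero_symm hF p12, herm_eq_zero_symm hF p13,
          herm_eq_zero_symm hF p23])
    (fun i j => by
      fin_cases i <;> fin_cases j <;>
        simp [e1, e2, e3, p12, p13, p23, herm_eq_zero_symm hF p12, herm_eq_zero_symm hF p13,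
          herm_eq_zero_symm hF p23, herm_bv hF])
  have diag_of : ∀ (X : Cfsg.SU 4 F q) {b1 b2 b3 d0 : F}, act X u1 = b1 • u1 → act X u2 = b2 • u2 →
      act X u3 = b3 • u3 → d0 * (b1 * b2 * b3) = 1 → b1 * b1 = 1 → b2 * b2 = 1 → b3 * b3 = 1 →
      (h * X * h⁻¹).1.1 = diagonal ![d0, b1, b2, b3] := by
    intro X b1 b2 b3 d0 x1 x2 x3 hd s1 s2 s3
    set Y := h * X * h⁻¹ with hY
    have col : ∀ {u w : Fin 4 → F} {a b : F}, act h (a • u) = w → act X u = b • u → act Y w = b • w := by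
      intro u w a b hw hx
      rw [← hw, hY, act_mul, act_mul, act_inv_act, act_smul X, hx, smul_comm, act_smul h b]
    have c1 : act Y (bv 1) = b1 • bv 1 := col (hh 0) x1
    have c2 : act Y (bv 2) = b2 • bv 2 := col (hh 1) x2
    have c3 : act Y (bv 3) = b3 • bv 3 := col (hh 2) x3
    have z : ∀ {k : Fin 4} {b : F}, act Y (bv k) = b • bv k → b * b = 1 → k ≠ 0 → act Y (bv 0) k = 0 := by
      intro k b hk hb hk0
      have h' := act_herm Y (bv 0) (bv k)
      rw [hk, herm_smul_right, herm_bv_right hF, herm_bv hF, if_neg (Ne.symm hk0)] at h'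
      exact (mul_eq_zero.1 h').resolve_left (pow_ne_zero q (left_ne_zero_of_mul_eq_one hb))
    have c0 : act Y (bv 0) = act Y (bv 0) 0 • bv 0 := by
      funext k
      by_cases hk : k = 0
      · subst hk; simp
      · rw [show (act Y (bv 0) 0 • (bv 0 : Fin 4 → F)) k = 0 by simp [hk]]
        fin_cases k
        · exact absurd rfl hk
        · exact z c1 s1 hk
        · exact z c2 s2 hk
        · exact z c3 s3 hk
    set d := act Y (bv 0) 0
    have hYm : Y.1.1 = diagonal ![d, b1, b2, b3] := by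
      ext i j
      rw [← act_bv_apply]
      fin_cases j <;> simp only [Fin.mk_one, Fin.zero_eta, Fin.reduceFinMk] <;>
        [rw [c0]; rw [c1]; rw [c2]; rw [c3]] <;> fin_cases i <;> simp [Matrix.diagonal]
    have hdet : Y.1.1.det = 1 := Y.1.2
    rw [hYm, Matrix.det_diagonal] at hdet
    simp [Fin.prod_univ_four] at hdet
    rw [hYm, show d = d0 from mul_right_cancel₀ (left_ne_zero_of_mul_eq_one (by rw [mul_comm]; exact hd))
      (show d * (b1 * b2 * b3) = d0 * (b1 * b2 * b3) by linear_combination hdet - hd)]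
  exact ⟨h, diag_of Z z1 z2 z3 (by ring) (by ring) (by ring) (by ring),
    diag_of W w1 w2 w3 (by ring) (by ring) (by ring) (by ring)⟩

/-- One block keeps the common fixed line. -/
theorem block_line (hF : Fintype.card F = q ^ 2) (h2 : (2 : F) ≠ 0) {g : Cfsg.SU 4 F q →* G}
    (hg : g.ker ≤ Subgroup.center (Cfsg.SU 4 F q)) {θ : Cfsg.SU 2 F q →* G}
    {Z W h A B R : Cfsg.SU 4 F q} (hZd : (h * Z * h⁻¹).1.1 = diagonal ![-1, -1, 1, 1])
    (hWd : (h * W * h⁻¹).1.1 = diagonal ![1, -1, -1, 1])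
    (hθ : θ.range ≤ g.range) (hcomm : ∀ x X, g X = θ x → X * Z = Z * X)
    {ga gb gc gd : Cfsg.SU 2 F q} (hA : g A = θ ga) (hB : g B = θ gb) (hAB : A * B = Z * B * A)
    (haa : θ ga * θ ga = g Z) (hbb : θ gb * θ gb = g Z) (hc : gc = ga * gb)
    (hda : gd * ga = gc * gd) (hdb : gd * gb = ga * gd)
    (hR : g A * g R = g W) (hR2 : g (R * R) = g Z) (hRθ : ∀ x, θ x * g R = g R * θ x) :
    ∀ x X, g X = θ x → ∀ v, act Z v = v → act W v = v → act Z (act X v) = act X v ∧
      act W (act X v) = act X v := by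
  intro x X hX v hv hv'
  have hXZ := hcomm x X hX
  have hZv : act Z (act X v) = act X v := by rw [← act_mul, ← hXZ, act_mul, hv]
  refine ⟨hZv, ?_⟩
  obtain ⟨D, hD⟩ := hθ ⟨gd, rfl⟩
  obtain ⟨C, hC⟩ := hθ ⟨gc, rfl⟩
  set T : Cfsg.SU 4 F q → Matrix (Fin 4) (Fin 4) F := fun Y => (h * Y * h⁻¹).1.1 with hT
  have Tmul : ∀ Y Y', T (Y * Y') = T Y * T Y' := fun Y Y' => by
    show (h * (Y * Y') * h⁻¹).1.1 = (h * Y * h⁻¹).1.1 * (h * Y' * h⁻¹).1.1
    rw [show h * (Y * Y') * h⁻¹ = (h * Y * h⁻¹) * (h * Y' * h⁻¹) by group]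
    rfl
  have T1 : T 1 = 1 := by
    show (h * 1 * h⁻¹).1.1 = 1
    rw [mul_one, mul_inv_cancel]
    rfl
  set β : Cfsg.SU 4 F q → Matrix (Fin 2) (Fin 2) F :=
    fun Y => !![T Y 2 2, T Y 2 3; T Y 3 2, T Y 3 3] with hβ
  have off : ∀ Y, Y * Z = Z * Y → ∀ i j : Fin 4,
      (![-1, -1, 1, 1] : Fin 4 → F) i ≠ (![-1, -1, 1, 1] : Fin 4 → F) j → T Y i j = 0 := by
    intro Y hY i j hij
    have e := congrArg T hY
    rw [Tmul, Tmul, show T Z = diagonal ![-1, -1, 1, 1] from hZd] at e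
    have e' := congrFun (congrFun e i) j
    rw [Matrix.mul_diagonal, Matrix.diagonal_mul] at e'
    exact (mul_eq_zero.1 (show ((![-1, -1, 1, 1] : Fin 4 → F) j - (![-1, -1, 1, 1] : Fin 4 → F) i) * T Y i j = 0 by
      linear_combination e')).resolve_left (sub_ne_zero.2 (Ne.symm hij))
  have hne1 : (-1 : F) ≠ 1 := fun e => h2 (by linear_combination -e)
  have βmul : ∀ Y Y', Y * Z = Z * Y → β (Y * Y') = β Y * β Y' := by
    intro Y Y' hY
    have o20 := off Y hY 2 0 (by simpa using hne1.symm)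
    have o21 := off Y hY 2 1 (by simpa using hne1.symm)
    have o30 := off Y hY 3 0 (by simpa using hne1.symm)
    have o31 := off Y hY 3 1 (by simpa using hne1.symm)
    ext i j
    simp only [hβ, Tmul]
    fin_cases i <;> fin_cases j <;>
      simp [Matrix.mul_apply, Fin.sum_univ_four, Fin.sum_univ_two, o20, o21, o30, o31]
  have βsmul : ∀ {Y Y' : Cfsg.SU 4 F q} {l : F}, Y'.1.1 = l • Y.1.1 → β Y' = l • β Y := by
    intro Y Y' l e
    have : T Y' = l • T Y := by
      show h.1.1 * Y'.1.1 * (h⁻¹).1.1 = l • (h.1.1 * Y.1.1 * (h⁻¹).1.1)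
      rw [e, Matrix.mul_smul, Matrix.smul_mul]
    ext i j
    fin_cases i <;> fin_cases j <;> simp [hβ, this]
  have βg : ∀ {Y Y'}, g Y = g Y' → ∃ l : F, l ≠ 0 ∧ β Y' = l • β Y := fun h => by
    obtain ⟨l, hl, e⟩ := eq_smul_of_ker hF hg h
    exact ⟨l, hl, βsmul e⟩
  have βZ : β Z = 1 := by
    ext i j
    fin_cases i <;> fin_cases j <;> simp [hβ, show T Z = diagonal ![-1, -1, 1, 1] from hZd]
  have βW : β W = !![-1, 0; 0, 1] := by
    ext i j
    fin_cases i <;> fin_cases j <;> simp [hβ, show T W = diagonal ![1, -1, -1, 1] from hWd]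
  have cA := hcomm _ _ hA
  have cB := hcomm _ _ hB
  have cC := hcomm _ _ hC
  have cD := hcomm _ _ hD
  have hab : β A * β B = β B * β A := by
    rw [← βmul A B cA, hAB, mul_assoc, βmul Z _ rfl, βZ, Matrix.one_mul, βmul B A cB]
  obtain ⟨μ, -, haa'⟩ := βg (show g Z = g (A * A) by rw [map_mul, hA, haa])
  obtain ⟨μ', -, hbb'⟩ := βg (show g Z = g (B * B) by rw [map_mul, hB, hbb])
  obtain ⟨k'', hk'', hc'⟩ := βg (show g C = g (A * B) by rw [map_mul, hA, hB, hC, hc, map_mul])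
  obtain ⟨k, -, h1'⟩ := βg (show g (C * D) = g (D * A) by
    rw [map_mul, map_mul, hA, hC, hD, ← map_mul, ← map_mul, hda])
  obtain ⟨k', hk', h2'⟩ := βg (show g (A * D) = g (D * B) by
    rw [map_mul, map_mul, hA, hB, hD, ← map_mul, ← map_mul, hdb])
  rw [βmul A A cA, βZ] at haa'
  rw [βmul B B cB, βZ] at hbb'
  rw [βmul A B cA] at hc'
  rw [βmul C D cC, βmul D A cD] at h1'
  rw [βmul A D cA, βmul D B cD] at h2'
  have hDu : IsUnit (β D) := by
    have hD1 : D⁻¹ * Z = Z * D⁻¹ := by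
      calc D⁻¹ * Z = D⁻¹ * (Z * D) * D⁻¹ := by group
        _ = Z * D⁻¹ := by rw [← cD]; group
    have e1 : β D * β D⁻¹ = 1 := by
      rw [← βmul D D⁻¹ cD, mul_inv_cancel]
      ext i j
      fin_cases i <;> fin_cases j <;> simp [hβ, T1]
    have e2 : β D⁻¹ * β D = 1 := by
      rw [← βmul D⁻¹ D hD1, inv_mul_cancel]
      ext i j
      fin_cases i <;> fin_cases j <;> simp [hβ, T1]
    exact ⟨⟨β D, β D⁻¹, e1, e2⟩, rfl⟩
  obtain ⟨α, hα⟩ := quaternion_scalar h2 hab haa' hbb' hc' hk'' hDu hk' h1' h2'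
  -- so `R` acts on the block as `W` does
  obtain ⟨l, hl, hW'⟩ := βg (show g (A * R) = g W by rw [map_mul, hR])
  rw [βmul A R cA, hα, Matrix.smul_mul, Matrix.one_mul, smul_smul] at hW'
  have hR2' : ∀ Y, g Y ∈ θ.range → Y * (R * R) = R * R * Y := by
    intro Y ⟨y, hy⟩
    obtain ⟨c, -, hcR⟩ := eq_smul_of_ker hF hg hR2.symm
    refine Subtype.ext (Subtype.ext ?_)
    show Y.1.1 * (R * R).1.1 = (R * R).1.1 * Y.1.1
    rw [hcR, Matrix.mul_smul, Matrix.smul_mul]
    exact congrArg (c • ·) (congrArg (fun W : Cfsg.SU 4 F q => W.1.1) (hcomm y Y hy.symm))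
  have hXR := exists_comm_lift hF hg hθ hRθ hR2' x X hX
  have hRZ : R * Z = Z * R := by
    obtain ⟨c, hc0, hcR⟩ := eq_smul_of_ker hF hg hR2.symm
    change R.1.1 * R.1.1 = c • Z.1.1 at hcR
    refine Subtype.ext (Subtype.ext ?_)
    show R.1.1 * Z.1.1 = Z.1.1 * R.1.1
    refine smul_right_injective (Matrix (Fin 4) (Fin 4) F) hc0 ?_
    show c • (R.1.1 * Z.1.1) = c • (Z.1.1 * R.1.1)
    rw [← Matrix.mul_smul, ← hcR, ← Matrix.smul_mul, ← hcR, Matrix.mul_assoc]
  have hXW : β X * β W = β W * β X := by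
    rw [hW', Matrix.mul_smul, Matrix.smul_mul, ← βmul X R hXZ, hXR, βmul R X hRZ]
  rw [βW] at hXW
  have x01 := congrFun (congrFun hXW 0) 1
  simp [hβ, Matrix.mul_apply, Fin.sum_univ_two] at x01
  have o23 : T X 2 3 = 0 := (mul_eq_zero.1 (show (2 : F) * T X 2 3 = 0 by linear_combination x01)).resolve_left h2
  have o03 := off X hXZ 0 3 (by simpa using hne1)
  have o13 := off X hXZ 1 3 (by simpa using hne1)
  -- the fixed line is the last coordinate
  have line : ∀ {w : Fin 4 → F}, act Z w = w → act W w = w →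
      act h w = act h w 3 • bv 3 := by
    intro w hz hw
    set u := act h w with hu
    have eZ : diagonal ![-1, -1, 1, 1] *ᵥ u = u := by
      rw [← hZd]
      show act (h * Z * h⁻¹) u = u
      rw [hu, act_mul, act_mul, act_inv_act, hz]
    have eW : diagonal ![1, -1, -1, 1] *ᵥ u = u := by
      rw [← hWd]
      show act (h * W * h⁻¹) u = u
      rw [hu, act_mul, act_mul, act_inv_act, hw]
    have kill : ∀ k : Fin 4, -u k = u k → u k = 0 := fun k e =>
      (mul_eq_zero.1 (show (2 : F) * u k = 0 by linear_combination -e)).resolve_left h2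
    have z0 := congrFun eZ 0
    have z1 := congrFun eZ 1
    have z2 := congrFun eW 2
    simp [Matrix.mulVec_diagonal] at z0 z1 z2
    funext k
    fin_cases k <;> simp [kill 0 z0, kill 1 z1, kill 2 z2]
  have hu := line hv hv'
  have hXu : act h (act X v) = act h v 3 • act (h * X * h⁻¹) (bv 3) := by
    rw [← act_smul, ← hu, act_mul, act_mul, act_inv_act]
  have hcol : act (h * X * h⁻¹) (bv 3) = T X 3 3 • bv 3 := by
    funext k
    rw [act_bv_apply]
    show T X k 3 = _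
    fin_cases k <;> simp [o03, o13, o23]
  rw [hcol, smul_smul] at hXu
  have hXv : act X v = (act h v 3 * T X 3 3) • act h⁻¹ (bv 3) := by
    rw [← act_smul, ← hXu, act_inv_act]
  have hW3 : act W (act h⁻¹ (bv 3)) = act h⁻¹ (bv 3) := by
    have : act (h * W * h⁻¹) (bv 3) = bv 3 := by
      show (h * W * h⁻¹).1.1 *ᵥ _ = _
      rw [hWd]
      funext k; fin_cases k <;> simp [Matrix.mulVec_diagonal]
    rw [act_mul, act_mul] at this
    exact act_eq_iff.1 this
  rw [hXv, act_smul, hW3]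

end Rigid

end Cfsg.Agent.Lib.Phan
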