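import Cfsg.Agent.Lib.Phan.AutTwo
import Cfsg.Agent.Lib.Phan.Induct
import Cfsg.Prelude.Def_PhanSystems

/-!
# Phan's theorem, part 10

Standard pairs, the matching of their tori, and coherent choices of isomorphisms.
-/

set_option autoImplicit false
set_option linter.unusedSectionVars false

namespace Cfsg.Agent.Lib.Phan

open Matrix Cfsg.Agent.Lib.Unitary

variable {F : Type*} [Field F] [Fintype F] {q N : ℕ} {G : Type*} [Group G]

theorem act_bv_apply (g : Cfsg.SU N F q) (i j : Fin N) : act g (bv j) i = g.1.1 i j := by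
  simp [act, Matrix.mulVec_single]

/-- The block subgroup is the stabiliser of the outer basis vectors. -/
theorem suBlock_eq_fix (hF : Fintype.card F = q ^ 2) (s : Finset (Fin N)) :
    Cfsg.suBlock N F q (s : Set (Fin N)) = fix q F sᶜ := by
  refine le_antisymm ((Subgroup.closure_le _).2 fun g hg i hi => ?_) fun g hg => Subgroup.subset_closure ?_
  · show act g (bv i) = bv i
    obtain ⟨hd, ho⟩ := hg i (by simpa using hi)
    funext x
    rw [act_bv_apply]
    by_cases hx : x = i
    · subst hx; simpa using hd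
    · simpa [hx] using (ho x hx).2
  · intro k hk
    have hk' : k ∈ sᶜ := by simpa using hk
    refine ⟨?_, fun l hl => ⟨?_, ?_⟩⟩
    · rw [← act_bv_apply g k k, mem_fix.1 hg k hk']; simp
    · rw [← act_bv_apply g k l, act_apply_of_fix hF hg _ hk']; simp [hl.symm]
    · rw [← act_bv_apply g l k, mem_fix.1 hg k hk']; simp [hl]

theorem suBlock_low (hF : Fintype.card F = q ^ 2) :
    Cfsg.suBlock 3 F q {0, 1} = (win 3 2 0 : Cfsg.SU 2 F q →* _).range := by
  rw [range_win hF (show 0 + 2 ≤ 3 by omega),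
    show ({0, 1} : Set (Fin 3)) = (({0, 1} : Finset (Fin 3)) : Set (Fin 3)) by simp, suBlock_eq_fix hF]
  congr 1

theorem suBlock_high (hF : Fintype.card F = q ^ 2) :
    Cfsg.suBlock 3 F q {1, 2} = (win 3 2 1 : Cfsg.SU 2 F q →* _).range := by
  rw [range_win hF (show 1 + 2 ≤ 3 by omega),
    show ({1, 2} : Set (Fin 3)) = (({1, 2} : Finset (Fin 3)) : Set (Fin 3)) by simp, suBlock_eq_fix hF]
  congr 1

/-- A central element fixing a basis vector is trivial. -/
theorem central_fix_eq_one (hF : Fintype.card F = q ^ 2) (hN : 1 < N) {z : Cfsg.SU N F q}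
    (hz : z ∈ Subgroup.center (Cfsg.SU N F q)) {i : Fin N} (h : act z (bv i) = bv i) : z = 1 := by
  have hall : ∀ j : Fin N, z ∈ fix q F ({j} : Finset (Fin N)) := fun j k hk => by
    rw [Finset.mem_singleton] at hk
    rw [hk]
    show act z (bv j) = bv j
    obtain ⟨g, -, e⟩ := exists_fix_unit hF (∅ : Finset (Fin N)) (by simpa using hN)
      (u := bv i) (v := bv j) (fun x hx => absurd hx (Finset.notMem_empty x))
      (fun x hx => absurd hx (Finset.notMem_empty x)) (by simp [herm_bv hF]) (by simp [herm_bv hF])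
    rw [← e, ← act_mul, ← Subgroup.mem_center_iff.1 hz g, act_mul, h]
  refine su_ext fun v => ?_
  rw [act_one]
  exact act_eq_self_of_off (s := Finset.univ) (fun j _ => hall j j (by simp))
    fun j hj => absurd (Finset.mem_univ j) hj

theorem exists_norm_one_ne_conj (hF : Fintype.card F = q ^ 2) :
    ∃ l : F, l * l ^ q = 1 ∧ l ≠ l ^ q := by
  classical
  have hq := one_lt_q hF
  by_contra hcon
  push Not at hcon
  have hsub : ({x : F | x * x ^ q = 1} : Finset F) ⊆ ({1, -1} : Finset F) := fun x hx => by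
    simp only [Finset.mem_filter, Finset.mem_univ, true_and] at hx
    have e := hcon x hx
    rw [← e] at hx
    rcases mul_self_eq_one_iff.1 hx with rfl | rfl <;> simp
  have h := Finset.card_le_card hsub
  have h2 := Finset.card_le_two (a := (1 : F)) (b := -1)
  have h3 : ({x : F | x * x ^ q = 1} : Finset F).card = q + 1 := by
    rw [← Fintype.card_subtype, ← Nat.card_eq_fintype_card]; simp_rw [← pow_succ']; exact card_norm_one hF
  omega

/-- A central element maps every basis vector to a multiple of itself. -/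
theorem central_line (hF : Fintype.card F = q ^ 2) (hN : 2 < N) {z : Cfsg.SU N F q}
    (hz : z ∈ Subgroup.center (Cfsg.SU N F q)) (i : Fin N) :
    act z (bv i) = act z (bv i) i • bv i := by
  obtain ⟨c, hc, hc2⟩ := exists_norm_one_ne_conj hF
  have hc1 : c ≠ 1 := fun e => hc2 (by rw [e, one_pow])
  funext l
  by_cases hl : l = i
  · subst hl; simp
  rw [show (act z (bv i) i • (bv i : Fin N → F)) l = 0 by simp [hl]]
  have ho : Off ({i} : Finset (Fin N)) (bv l : Fin N → F) := off_bv (by simpa using hl)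
  obtain ⟨g, hg, eg⟩ := exists_fix_unit hF ({i} : Finset (Fin N)) (by simp; omega) ho (off_smul c ho)
    (by simp [herm_bv hF]) (by rw [herm_smul_left, herm_smul_right, herm_bv hF, if_pos rfl, mul_one, hc])
  set v := act z (bv i) with hv
  have hgv : act g v = v := by
    rw [hv, ← act_mul, Subgroup.mem_center_iff.1 hz g, act_mul, mem_fix.1 hg i (by simp)]
  have h := act_herm g v (bv l)
  rw [hgv, eg, herm_smul_right, herm_bv_right hF] at h
  have h' : (c ^ q - 1) * v l = 0 := by linear_combination h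
  refine (mul_eq_zero.1 h').resolve_left (sub_ne_zero.2 fun e => hc1 ?_)
  exact pow_q_injective hF (by rw [e, one_pow])

theorem win_low_val (x : Cfsg.SU 2 F q) :
    (win 3 2 0 x).1.1 = !![x.1.1 0 0, x.1.1 0 1, 0; x.1.1 1 0, x.1.1 1 1, 0; 0, 0, 1] := by
  rw [win_eq (show 0 + 2 ≤ 3 by omega), emb_val]
  have hs : ∀ k : Fin 2, shift 3 2 0 (by omega) k = (![0, 1] : Fin 2 → Fin 3) k := by decide
  ext i j
  fin_cases i <;> fin_cases j <;>
    simp [embMatrix, incl, hs, Matrix.mul_apply, Fin.sum_univ_two, Matrix.one_apply]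

theorem win_high_val (x : Cfsg.SU 2 F q) :
    (win 3 2 1 x).1.1 = !![1, 0, 0; 0, x.1.1 0 0, x.1.1 0 1; 0, x.1.1 1 0, x.1.1 1 1] := by
  rw [win_eq (show 1 + 2 ≤ 3 by omega), emb_val]
  have hs : ∀ k : Fin 2, shift 3 2 1 (by omega) k = (![1, 2] : Fin 2 → Fin 3) k := by decide
  ext i j
  fin_cases i <;> fin_cases j <;>
    simp [embMatrix, incl, hs, Matrix.mul_apply, Fin.sum_univ_two, Matrix.one_apply]

/-- A homomorphism from `SU 3` carrying the two block subgroups onto `A` and `B`. -/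
structure IsPair (π : Cfsg.SU 3 F q →* G) (A B : Subgroup G) : Prop where
  low : (π.comp (win 3 2 0)).range = A
  high : (π.comp (win 3 2 1)).range = B
  ker : π.ker ≤ Subgroup.center (Cfsg.SU 3 F q)

theorem IsPair.injective (hF : Fintype.card F = q ^ 2) {π : Cfsg.SU 3 F q →* G} {A B : Subgroup G}
    (h : IsPair π A B) {i : ℕ} (hi : i ≤ 1) : Function.Injective (π.comp (win 3 2 i)) := by
  rw [injective_iff_map_eq_one]
  intro g hg
  refine win_injective (N := 3) (a := i) (by omega) ?_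
  rw [map_one]
  obtain ⟨j, hj⟩ : ∃ j : Fin 3, (j : ℕ) < i ∨ i + 2 ≤ (j : ℕ) := by
    rcases Nat.le_one_iff_eq_zero_or_eq_one.1 hi with rfl | rfl
    · exact ⟨2, by simp⟩
    · exact ⟨0, by simp⟩
  refine central_fix_eq_one hF (by norm_num) (h.ker (MonoidHom.mem_ker.2 hg)) (i := j) ?_
  have hm : win 3 2 i g ∈ (win 3 2 i : Cfsg.SU 2 F q →* _).range := ⟨g, rfl⟩
  rw [range_win hF (by omega)] at hm
  exact hm j (by simpa using hj)

/-- A standard pair gives such a homomorphism, onto the ambient subgroup. -/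
theorem exists_isPair (hF : Fintype.card F = q ^ 2) {V A B : Subgroup G}
    (h : Cfsg.IsStandardUnitaryPair V A B F q) :
    ∃ π : Cfsg.SU 3 F q →* G, π.range = V ∧ IsPair π A B := by
  rcases h with ⟨ψ, hA, hB⟩ | ⟨ψ, hA, hB⟩
  · refine ⟨V.subtype.comp ψ.toMonoidHom, ?_, ?_, ?_, ?_⟩
    · rw [MonoidHom.range_comp, MonoidHom.range_eq_top.2 ψ.surjective, ← MonoidHom.range_eq_map,
        Subgroup.range_subtype]
    · rw [MonoidHom.range_comp, ← suBlock_low hF]; exact hA
    · rw [MonoidHom.range_comp, ← suBlock_high hF]; exact hB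
    · intro z hz
      have : ψ z = 1 := Subtype.ext hz
      rw [(ψ.map_eq_one_iff).1 this]
      exact one_mem _
  · refine ⟨V.subtype.comp (ψ.toMonoidHom.comp (QuotientGroup.mk' _)), ?_, ?_, ?_, ?_⟩
    · rw [MonoidHom.range_comp, MonoidHom.range_eq_top.2
        (ψ.surjective.comp (QuotientGroup.mk'_surjective _) :
          Function.Surjective (ψ.toMonoidHom.comp (QuotientGroup.mk' _))), ← MonoidHom.range_eq_map,
        Subgroup.range_subtype]
    · rw [MonoidHom.range_comp, ← suBlock_low hF]; exact hA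
    · rw [MonoidHom.range_comp, ← suBlock_high hF]; exact hB
    · intro z hz
      have h1 : ψ (QuotientGroup.mk' _ z) = 1 := Subtype.ext hz
      exact (QuotientGroup.eq_one_iff z).1 ((ψ.map_eq_one_iff).1 h1)

/-- A diagonal element of `SU 2` conjugates the other block into itself, and only those. -/
theorem low_normalises_iff (hF : Fintype.card F = q ^ 2) {π : Cfsg.SU 3 F q →* G} {A B : Subgroup G}
    (h : IsPair π A B) (g : Cfsg.SU 2 F q) :
    g.1.1 1 0 = 0 ↔ ∀ y ∈ B, π (win 3 2 0 g) * y * (π (win 3 2 0 g))⁻¹ ∈ B := by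
  have hs : ∀ k : Fin 2, shift 3 2 0 (by omega) k = (⟨k, by omega⟩ : Fin 3) := fun k => Fin.ext (by simp)
  have hcoord : ∀ (x : Cfsg.SU 2 F q) (v : Fin 3 → F), act (win 3 2 0 x) v =
      ![x.1.1 0 0 * v 0 + x.1.1 0 1 * v 1, x.1.1 1 0 * v 0 + x.1.1 1 1 * v 1, v 2] := by
    intro x v
    rw [win_eq (show 0 + 2 ≤ 3 by omega)]
    funext i
    fin_cases i
    · have := act_emb_apply (shift 3 2 0 (by omega)) x v 0
      simp only [hs] at this
      refine this.trans ?_
      simp [act, Matrix.mulVec, dotProduct, Fin.sum_univ_two]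
    · have := act_emb_apply (shift 3 2 0 (by omega)) x v 1
      simp only [hs] at this
      refine this.trans ?_
      simp [act, Matrix.mulVec, dotProduct, Fin.sum_univ_two]
    · refine act_emb_off (shift 3 2 0 (by omega)) x v fun j e => ?_
      rw [hs] at e
      have := congrArg Fin.val e
      simp at this
      omega
  have hr := range_win hF (F := F) (N := 3) (k := 2) (a := 1) (by omega)
  have hinv : act (win 3 2 0 g)⁻¹ (bv 0) = ![g.1.1 0 0 ^ q, -g.1.1 1 0, 0] := by
    rw [← map_inv, hcoord]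
    obtain ⟨hg, hn⟩ := su2_shape hF g
    obtain ⟨e, he⟩ := exists_su2 hF (a := g.1.1 0 0 ^ q) (b := -g.1.1 1 0) (by
      rw [pow_q_q hF, neg_pow_q hF]; linear_combination hn)
    have : g⁻¹ = e := by
      refine inv_eq_of_mul_eq_one_right (Subtype.ext (Subtype.ext ?_))
      show g.1.1 * e.1.1 = 1
      rw [hg, he]
      ext i j
      fin_cases i <;> fin_cases j <;>
        simp [su2Matrix, Matrix.mul_apply, Fin.sum_univ_two, pow_q_q hF, neg_pow_q hF]
      · linear_combination hn
      · ring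
      · ring
      · linear_combination hn
    rw [this, he]
    simp [su2Matrix]
  constructor
  · intro h0 y hy
    rw [← h.high] at hy ⊢
    obtain ⟨x, rfl⟩ := hy
    have hmem : win 3 2 0 g * win 3 2 1 x * (win 3 2 0 g)⁻¹ ∈ (win 3 2 1 : Cfsg.SU 2 F q →* _).range := by
      rw [hr]
      intro i hi
      simp only [Finset.mem_filter, Finset.mem_univ, true_and] at hi
      obtain rfl : i = 0 := Fin.ext (by have := i.isLt; simp; omega)
      show act (win 3 2 0 g * win 3 2 1 x * (win 3 2 0 g)⁻¹) (bv 0) = bv 0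
      have hx : act (win 3 2 1 x) (bv 0) = bv 0 := by
        have hm : win 3 2 1 x ∈ (win 3 2 1 : Cfsg.SU 2 F q →* _).range := ⟨x, rfl⟩
        rw [hr] at hm
        exact hm 0 (by simp)
      rw [act_mul, act_mul, hinv, h0,
        show (![g.1.1 0 0 ^ q, -0, 0] : Fin 3 → F) = g.1.1 0 0 ^ q • bv 0 by
          funext k; fin_cases k <;> simp,
        act_smul, hx]
      conv_rhs => rw [← act_act_inv (win 3 2 0 g) (bv 0), hinv, h0]
      congr 1
      funext k; fin_cases k <;> simp
    obtain ⟨x', hx'⟩ := hmem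
    exact ⟨x', by simp [hx']⟩
  · intro hn
    obtain ⟨w, hw⟩ := exists_su2 hF (a := (0 : F)) (b := 1) (by simp [zero_pow_q hF])
    have hy : π (win 3 2 1 w) ∈ B := by rw [← h.high]; exact ⟨w, rfl⟩
    have h1 := hn _ hy
    rw [← h.high] at h1
    obtain ⟨x', hx'⟩ := h1
    set M := win 3 2 0 g * win 3 2 1 w * (win 3 2 0 g)⁻¹ with hM
    have hz : (win 3 2 1 x')⁻¹ * M ∈ Subgroup.center (Cfsg.SU 3 F q) := by
      refine h.ker ?_
      rw [MonoidHom.mem_ker, map_mul, map_inv, hM, map_mul, map_mul, map_inv]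
      simp only [MonoidHom.comp_apply] at hx'
      rw [hx', inv_mul_cancel]
    set z := (win 3 2 1 x')⁻¹ * M with hzdef
    have hx'0 : act (win 3 2 1 x') (bv 0) = bv 0 := by
      have hm : win 3 2 1 x' ∈ (win 3 2 1 : Cfsg.SU 2 F q →* _).range := ⟨x', rfl⟩
      rw [hr] at hm
      exact hm 0 (by simp)
    -- the conjugate keeps the first line
    have e1 : act M (bv 0) = act z (bv 0) 0 • bv 0 := by
      rw [show M = win 3 2 1 x' * z from (mul_inv_cancel_left _ _).symm, act_mul,
        central_line hF (by norm_num) hz 0, act_smul, hx'0]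
      simp
    set u : Fin 3 → F := ![g.1.1 0 0 ^ q, -g.1.1 1 0, 0] with hu
    have e2 : act (win 3 2 1 w) u = act z (bv 0) 0 • u := by
      have := congrArg (act (win 3 2 0 g)⁻¹) e1
      rwa [hM, act_mul, act_mul, act_inv_act, act_smul, hinv] at this
    have hs1 : ∀ k : Fin 2, shift 3 2 1 le_rfl k = (⟨1 + k, by omega⟩ : Fin 3) := fun k => Fin.ext (by simp)
    have a2 := act_emb_apply (shift 3 2 1 le_rfl) w u 1
    rw [← win_eq (show 1 + 2 ≤ 3 by omega), e2] at a2
    simp [hs1, act, hw, su2Matrix, Matrix.mulVec, dotProduct, Fin.sum_univ_two, hu] at a2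
    exact a2

/-- Two pairs with a common group: the tori agree. -/
theorem torus_match (hF : Fintype.card F = q ^ 2) {πa πb : Cfsg.SU 3 F q →* G} {A B C : Subgroup G}
    (ha : IsPair πa A B) (hb : IsPair πb B C) (hAC : ∀ x ∈ A, ∀ y ∈ C, x * y = y * x)
    {g h : Cfsg.SU 2 F q} (e : πa (win 3 2 1 g) = πb (win 3 2 0 h)) (h0 : h.1.1 1 0 = 0) :
    g.1.1 1 0 = 0 := by
  obtain ⟨l, hl, hl2⟩ := exists_norm_one_ne_conj hF
  obtain ⟨t, ht⟩ := exists_su2 hF (a := l) (b := 0) (by rw [zero_mul, add_zero]; exact hl)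
  obtain ⟨g', hg'⟩ := exists_su2 hF (a := g.1.1 0 0) (b := l * g.1.1 1 0) (by
    obtain ⟨-, hn⟩ := su2_shape hF g
    rw [mul_pow]
    linear_combination hn + (g.1.1 1 0 * g.1.1 1 0 ^ q) * hl)
  set δ := πa (win 3 2 0 t)
  -- conjugation inside the first pair
  have hconj : win 3 2 0 t * win 3 2 1 g = win 3 2 1 g' * win 3 2 0 t := by
    refine Subtype.ext (Subtype.ext ?_)
    show (win 3 2 0 t).1.1 * (win 3 2 1 g).1.1 = (win 3 2 1 g').1.1 * (win 3 2 0 t).1.1
    obtain ⟨hg, -⟩ := su2_shape hF g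
    rw [win_low_val, win_high_val, win_high_val, ht, hg', hg, su2Matrix, su2Matrix, su2Matrix]
    ext i j
    fin_cases i <;> fin_cases j <;>
      simp [Matrix.mul_apply, Fin.sum_univ_three, mul_pow, zero_pow_q hF] <;>
      first
      | ring1
      | linear_combination (g.1.1 1 0) ^ q * hl
      | linear_combination (-(g.1.1 1 0) ^ q) * hl
      | linear_combination (g.1.1 1 0) * hl
      | linear_combination (-(g.1.1 1 0)) * hl
  have hg'B : πa (win 3 2 1 g') ∈ B := by rw [← ha.high]; exact ⟨g', rfl⟩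
  rw [← hb.low] at hg'B
  obtain ⟨h', hh'⟩ := hg'B
  have hX : πb (win 3 2 0 h') = δ * πb (win 3 2 0 h) * δ⁻¹ := by
    rw [show πb (win 3 2 0 h') = πa (win 3 2 1 g') from hh', ← e]
    refine eq_mul_inv_of_mul_eq ?_
    rw [← map_mul, ← map_mul, hconj]
  have hδ : δ ∈ A := by rw [← ha.low]; exact ⟨t, rfl⟩
  have h'0 : h'.1.1 1 0 = 0 := by
    refine (low_normalises_iff hF hb h').2 fun y hy => ?_
    have hcy : ∀ z ∈ C, δ * z * δ⁻¹ = z := fun z hz => by rw [hAC δ hδ z hz, mul_inv_cancel_right]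
    have hy' : δ⁻¹ * y * δ = y := by
      conv_lhs => rw [← hcy y hy]
      group
    have h1 := (low_normalises_iff hF hb h).1 h0 y hy
    rw [hX]
    have e3 : δ * πb (win 3 2 0 h) * δ⁻¹ * y * (δ * πb (win 3 2 0 h) * δ⁻¹)⁻¹ =
        δ * (πb (win 3 2 0 h) * (δ⁻¹ * y * δ) * (πb (win 3 2 0 h))⁻¹) * δ⁻¹ := by group
    rw [e3, hy', hcy _ h1]
    exact h1
  have hc : h * h' = h' * h := by
    obtain ⟨s1, -⟩ := su2_shape hF h
    obtain ⟨s2, -⟩ := su2_shape hF h'
    refine Subtype.ext (Subtype.ext ?_)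
    show h.1.1 * h'.1.1 = h'.1.1 * h.1.1
    rw [s1, s2, h0, h'0]
    ext i j
    fin_cases i <;> fin_cases j <;> simp [su2Matrix, Matrix.mul_apply, Fin.sum_univ_two, zero_pow_q hF] <;> ring
  have hgg : g * g' = g' * g := ha.injective hF le_rfl (by
    show πa (win 3 2 1 (g * g')) = πa (win 3 2 1 (g' * g))
    rw [map_mul, map_mul, map_mul, map_mul, e, show πa (win 3 2 1 g') = πb (win 3 2 0 h') from hh'.symm,
      ← map_mul, ← map_mul, ← map_mul, ← map_mul, hc])
  obtain ⟨sg, -⟩ := su2_shape hF g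
  have h00 := congrArg (fun x : Cfsg.SU 2 F q => x.1.1 0 0) hgg
  change (g.1.1 * g'.1.1) 0 0 = (g'.1.1 * g.1.1) 0 0 at h00
  rw [hg', sg] at h00
  simp [su2Matrix, Matrix.mul_apply, Fin.sum_univ_two, mul_pow] at h00
  have h3 : (g.1.1 1 0 * g.1.1 1 0 ^ q) * (l - l ^ q) = 0 := by linear_combination h00
  rcases mul_eq_zero.1 ((mul_eq_zero.1 h3).resolve_right (sub_ne_zero.2 hl2)) with h4 | h4
  · exact h4
  · exact eq_zero_of_pow_eq_zero h4

end Cfsg.Agent.Lib.Phan
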