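import Cfsg.Agent.Lib.Phan.Lift
import Cfsg.Agent.Lib.Phan.Recog
import Cfsg.Agent.Lib.Phan.Blocks
import Cfsg.Agent.Lib.Unitary.Simple

/-!
# Phan's theorem, part 16

Over the field with nine elements two windows inside a central quotient of `SU 4` extend to `SU 4`.
-/

set_option autoImplicit false
set_option linter.unusedSectionVars false

namespace Cfsg.Agent.Lib.Phan

open Matrix Cfsg.Agent.Lib.Unitary

variable {F : Type*} [Field F] [Fintype F] {q N k : ℕ} {G : Type*} [Group G]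

theorem emb_apply_in (ι : Fin k ↪ Fin N) (A : Cfsg.SU k F q) (i j : Fin k) :
    (emb ι A).1.1 (ι i) (ι j) = A.1.1 i j := by
  rw [← act_bv_apply, act_emb_apply,
    show (fun m => (bv (ι j) : Fin N → F) (ι m)) = bv j from funext fun m => by simp [Pi.single_apply],
    act_bv_apply]

theorem emb_apply_out_left (ι : Fin k ↪ Fin N) (A : Cfsg.SU k F q) {x : Fin N} (hx : ∀ j, ι j ≠ x)
    (y : Fin N) : (emb ι A).1.1 x y = if x = y then 1 else 0 := by
  rw [← act_bv_apply, act_emb_off ι A _ hx]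
  simp [Pi.single_apply]

theorem emb_apply_out_right (ι : Fin k ↪ Fin N) (A : Cfsg.SU k F q) (i : Fin k) {y : Fin N}
    (hy : ∀ j, ι j ≠ y) : (emb ι A).1.1 (ι i) y = 0 := by
  rw [← act_bv_apply, act_emb_apply,
    show (fun m => (bv y : Fin N → F) (ι m)) = 0 from funext fun m => by simp [hy m]]
  simp [act]

/-- Semilinear diagonal maps restrict to windows. -/
theorem semi_win (hF : Fintype.card F = q ^ 2) (σ : F ≃+* F) (D : Fin N → F)
    (hD : ∀ i, D i * D i ^ q = 1) (d : Fin k → F) (hd : ∀ i, d i * d i ^ q = 1) {a : ℕ} (h : a + k ≤ N)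
    (hdD : ∀ j, D (shift N k a h j) = d j) (x : Cfsg.SU k F q) :
    semi hF σ D hD (win N k a x) = win N k a (semi hF σ d hd x) := by
  rw [win_eq h]
  set ι := shift N k a h
  refine Subtype.ext (Subtype.ext (Matrix.ext fun i j => ?_))
  rw [semi_val]
  by_cases hi : ∃ i', ι i' = i
  · obtain ⟨i', rfl⟩ := hi
    by_cases hj : ∃ j', ι j' = j
    · obtain ⟨j', rfl⟩ := hj
      rw [emb_apply_in, emb_apply_in, semi_val, hdD, hdD]
    · push Not at hj
      rw [emb_apply_out_right ι x i' hj, emb_apply_out_right ι _ i' hj, map_zero, mul_zero, zero_mul]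
  · push Not at hi
    rw [emb_apply_out_left ι x hi, emb_apply_out_left ι _ hi]
    split_ifs with e
    · subst e; rw [map_one, mul_one, hD]
    · rw [map_zero, mul_zero, zero_mul]

namespace Rigid

theorem eq_of_pow (hF : Fintype.card F = q ^ 2) {g : Cfsg.SU 4 F q →* G}
    (hg : g.ker ≤ Subgroup.center (Cfsg.SU 4 F q)) {X Y : Cfsg.SU 4 F q} (h : g X = g Y)
    (hX : X ^ q = 1) (hY : Y ^ q = 1) : X = Y := by
  obtain ⟨l, -, hl⟩ := eq_smul_of_ker hF hg h
  have e : (Y ^ q).1.1 = l ^ q • (X ^ q).1.1 := by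
    show Y.1.1 ^ q = l ^ q • X.1.1 ^ q
    rw [hl, smul_pow]
  rw [hX, hY] at e
  have hq : l ^ q = 1 := smul_left_inj' (X := (1 : Cfsg.SU 4 F q)) (by rw [one_smul, ← e])
  have h1 : l = 1 := pow_q_injective hF (by rw [hq, one_pow])
  exact Subtype.ext (Subtype.ext (by rw [hl, h1, one_smul]))

theorem hom_eq_of_comp (hF : Fintype.card F = q ^ 2) {g : Cfsg.SU 4 F q →* G}
    (hg : g.ker ≤ Subgroup.center (Cfsg.SU 4 F q)) {θ θ' : Cfsg.SU 2 F q →* Cfsg.SU 4 F q}
    (h : ∀ x, g (θ x) = g (θ' x)) (x : Cfsg.SU 2 F q) : θ x = θ' x := by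
  have : MonoidHom.eqLocus θ θ' = ⊤ := gen_pow_q hF fun y hy =>
    eq_of_pow hF hg (h y) (by rw [← map_pow, hy, map_one]) (by rw [← map_pow, hy, map_one])
  exact this.ge (Subgroup.mem_top x)

theorem commute_lifts (hF : Fintype.card F = q ^ 2) {g : Cfsg.SU 4 F q →* G}
    (hg : g.ker ≤ Subgroup.center (Cfsg.SU 4 F q)) {θ : Cfsg.SU 2 F q →* Cfsg.SU 4 F q}
    {Z : Cfsg.SU 4 F q} (h : ∀ x, g (θ x) * g Z = g Z * g (θ x)) (x : Cfsg.SU 2 F q) :
    θ x * Z = Z * θ x := by
  have : (Subgroup.centralizer ({Z} : Set (Cfsg.SU 4 F q))).comap θ = ⊤ := gen_pow_q hF fun y hy => by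
    refine Subgroup.mem_centralizer_singleton_iff.2 ?_
    obtain ⟨l, -, hl⟩ := eq_smul_of_ker hF hg
      (show g (Z * θ y) = g (θ y * Z) by rw [map_mul, map_mul, h])
    change (θ y).1.1 * Z.1.1 = l • (Z.1.1 * (θ y).1.1) at hl
    have hp := pow_twisted hl q
    rw [← map_pow, hy, map_one] at hp
    have hq : l ^ q = 1 := smul_left_inj' (X := Z) (by simpa [eq_comm] using hp)
    have h1 : l = 1 := pow_q_injective hF (by rw [hq, one_pow])
    rw [h1, one_smul] at hl
    exact Subtype.ext (Subtype.ext hl)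
  exact Subgroup.mem_centralizer_singleton_iff.1 (this.ge (Subgroup.mem_top x))

theorem exists_torus (hF : Fintype.card F = q ^ 2) :
    ∃ (l : F) (t : Cfsg.SU 2 F q), l * l ^ q = 1 ∧ l ≠ l ^ q ∧ l ≠ 1 ∧ l ^ q ≠ 1 ∧
      t.1.1 = su2Matrix q l 0 ∧ t ^ (q + 1) = 1 ∧ t ≠ 1 := by
  obtain ⟨l, hl, hl2⟩ := exists_norm_one_ne_conj hF
  have h1 : l ≠ 1 := fun e => hl2 (by rw [e, one_pow])
  have h2 : l ^ q ≠ 1 := fun e => h1 (pow_q_injective hF (by rw [e, one_pow]))
  obtain ⟨t, ht⟩ := exists_su2 hF (a := l) (b := 0) (by rw [zero_mul, add_zero]; exact hl)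
  refine ⟨l, t, hl, hl2, h1, h2, ht, ?_, fun e => h1 ?_⟩
  · refine Subtype.ext (Subtype.ext ?_)
    show t.1.1 ^ (q + 1) = 1
    rw [ht, show su2Matrix q l 0 = diagonal ![l, l ^ q] by
      ext i j; fin_cases i <;> fin_cases j <;> simp [su2Matrix, zero_pow_q hF], Matrix.diagonal_pow,
      ← diagonal_one]
    congr 1
    funext i
    fin_cases i <;> simp [← pow_mul, pow_succ']
    · exact hl
    · rw [pow_mul, pow_q_q hF, mul_comm]; exact hl
  · have := congrArg (fun x : Cfsg.SU 2 F q => x.1.1 0 0) e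
    simpa [ht, su2Matrix] using this

theorem isPair_id (hF : Fintype.card F = q ^ 2) :
    IsPair (MonoidHom.id (Cfsg.SU 3 F q)) (win 3 2 0 : Cfsg.SU 2 F q →* _).range
      (win 3 2 1 : Cfsg.SU 2 F q →* _).range :=
  ⟨by rw [MonoidHom.id_comp], by rw [MonoidHom.id_comp],
    fun z hz => by rw [show z = 1 from hz]; exact one_mem _⟩

/-- A field automorphism of nine elements fixing the elements of norm one is trivial. -/
theorem ringEquiv_eq (hF : Fintype.card F = 3 ^ 2) (σ : F ≃+* F)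
    (h : ∀ l : F, l * l ^ 3 = 1 → σ l = l) (x : F) : σ x = x := by
  have h2 : (2 : F) ≠ 0 := by
    obtain ⟨-, -, -, -, -, -, -, -, -, -, h2, -⟩ := exists_quat hF
    exact h2
  have key : ∀ y : F, σ y = y ∨ σ y = -y := fun y => by
    by_cases hy : y = 0
    · left; rw [hy, map_zero]
    have h8 : y ^ 8 = 1 := by
      have := FiniteField.pow_card_sub_one_eq_one y hy
      rwa [hF] at this
    have := h (y * y) (by linear_combination h8)
    rw [map_mul] at this
    exact mul_self_eq_mul_self_iff.1 this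
  rcases key x with e | e
  · exact e
  rcases key (x + 1) with e' | e'
  · rw [map_add, map_one] at e'; exact add_right_cancel e'
  · rw [map_add, map_one, e] at e'
    exact absurd (show (2 : F) = 0 by linear_combination e') h2

/-- Two blocks of size two differ. -/
theorem blocks_ne (hF : Fintype.card F = q ^ 2) :
    (win 3 2 0 : Cfsg.SU 2 F q →* _).range ≠ (win 3 2 1 : Cfsg.SU 2 F q →* _).range := by
  intro e
  obtain ⟨l, t, -, -, hl1, -, ht, -, -⟩ := exists_torus hF
  obtain ⟨y, hy⟩ := e.le ⟨t, rfl⟩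
  have := congrArg (fun x : Cfsg.SU 3 F q => x.1.1 0 0) hy
  simp only [win_low_val, win_high_val, ht] at this
  simp [su2Matrix] at this
  exact hl1 this.symm

/-- What is used about the field and `SU 3` over it. -/
structure Ok (q : ℕ) (F : Type*) [Field F] [Fintype F] (G : Type*) [Group G] : Prop where
  field : ∀ σ : F ≃+* F, (∀ l : F, l * l ^ q = 1 → σ l = l) → ∀ x, σ x = x
  eq_of_blocks : ∀ {α β : Cfsg.SU 3 F q →* Cfsg.SU 3 F q}, Function.Injective α → Function.Injective β →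
    (∀ y, α (win 3 2 0 y) = β (win 3 2 0 y)) → (∀ y, α (win 3 2 1 y) = β (win 3 2 1 y)) → ∀ x, α x = β x
  lift : ∀ (g : Cfsg.SU 4 F q →* G), g.ker ≤ Subgroup.center (Cfsg.SU 4 F q) →
    ∀ {ψ : Cfsg.SU 3 F q →* G}, Function.Injective ψ → ψ.range ≤ g.range →
      ∃ (e : Fin 4 → F) (θ : Cfsg.SU 3 F q →* Cfsg.SU 4 F q), hermForm 4 F q e e = 1 ∧
        Function.Injective θ ∧ θ.range = vstab q e ∧ ∀ x, g (θ x) = ψ x
  line : ∀ (θ : Cfsg.SU 3 F q →* Cfsg.SU 4 F q), Function.Injective θ →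
    (∀ y, θ (win 3 2 0 y) = win 4 2 1 y) →
    (∀ y, θ (win 3 2 1 y) ∈ fix q F ({0, 1} : Finset (Fin 4))) →
    ∀ x, θ x ∈ fix q F ({0} : Finset (Fin 4))

/-- An endomorphism fixing the first block and preserving the second is diagonal. -/
theorem eq_semi_of_fixed (hF : Fintype.card F = q ^ 2) (hK : Ok q F G) {α : Cfsg.SU 3 F q →* Cfsg.SU 3 F q}
    (hα : Function.Injective α) (h0 : ∀ x, α (win 3 2 0 x) = win 3 2 0 x)
    (h1 : ∀ x, α (win 3 2 1 x) ∈ (win 3 2 1 : Cfsg.SU 2 F q →* _).range) :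
    ∃ (ν : F) (hd : ∀ i, (![1, 1, ν] : Fin 3 → F) i * (![1, 1, ν] : Fin 3 → F) i ^ q = 1),
      ∀ x, α x = semi hF (RingEquiv.refl F) ![1, 1, ν] hd x := by
  choose τ hτ using h1
  have hmul : ∀ x y, τ (x * y) = τ x * τ y := fun x y => win_injective (N := 3) (a := 1) le_rfl (by
    rw [map_mul, hτ, hτ, hτ, map_mul, map_mul])
  have hinj : Function.Injective τ := fun x y e =>
    win_injective (N := 3) (a := 1) le_rfl (hα (by rw [← hτ, ← hτ, e]))
  let T : MulAut (Cfsg.SU 2 F q) := MulEquiv.ofBijective (MonoidHom.mk' τ hmul)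
    (Finite.injective_iff_bijective.1 hinj)
  obtain ⟨l, t, hl, -, -, hlq, ht, -, -⟩ := exists_torus hF
  obtain ⟨σ, ν, hν, hσ⟩ := aut_SU2_torus hF (one_lt_q hF) T fun y hy => by
    have hc : win 3 2 0 t * win 3 2 1 y = win 3 2 1 y * win 3 2 0 t := by
      obtain ⟨hs, -⟩ := su2_shape hF y
      rw [hy] at hs
      refine Subtype.ext (Subtype.ext ?_)
      show (win 3 2 0 t).1.1 * (win 3 2 1 y).1.1 = (win 3 2 1 y).1.1 * (win 3 2 0 t).1.1
      rw [win_low_val, win_high_val, ht, hs]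
      ext i j
      fin_cases i <;> fin_cases j <;>
        simp [su2Matrix, Matrix.mul_apply, Fin.sum_univ_three, zero_pow_q hF] <;> ring
    have hc' := congrArg α hc
    rw [map_mul, map_mul, h0, ← hτ] at hc'
    have e := congrArg (fun z : Cfsg.SU 3 F q => z.1.1 2 1) hc'
    change ((win 3 2 0 t).1.1 * (win 3 2 1 (τ y)).1.1) 2 1 =
      ((win 3 2 1 (τ y)).1.1 * (win 3 2 0 t).1.1) 2 1 at e
    rw [win_low_val, win_high_val, ht] at e
    simp [su2Matrix, Matrix.mul_apply, Fin.sum_univ_three, zero_pow_q hF] at e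
    show (τ y).1.1 1 0 = 0
    exact (mul_eq_zero.1 (show (l ^ q - 1) * (τ y).1.1 1 0 = 0 by linear_combination -e)).resolve_left
      (sub_ne_zero.2 hlq)
  have hfix : ∀ x, σ x = x := hK.field σ fun m hm => by
    obtain ⟨tm, htm⟩ := exists_su2 hF (a := m) (b := 0) (by rw [zero_mul, add_zero]; exact hm)
    obtain ⟨w, hw⟩ := exists_su2 hF (a := (0 : F)) (b := 1) (by simp [zero_pow_q hF])
    obtain ⟨w', hw'⟩ := exists_su2 hF (a := (0 : F)) (b := m) (by rw [zero_mul, zero_add]; exact hm)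
    have hc : win 3 2 0 tm * win 3 2 1 w = win 3 2 1 w' * win 3 2 0 tm := by
      refine Subtype.ext (Subtype.ext ?_)
      show (win 3 2 0 tm).1.1 * (win 3 2 1 w).1.1 = (win 3 2 1 w').1.1 * (win 3 2 0 tm).1.1
      rw [win_low_val, win_high_val, win_high_val, htm, hw, hw']
      ext i j
      fin_cases i <;> fin_cases j <;> simp [su2Matrix, Matrix.mul_apply, Fin.sum_univ_three, zero_pow_q hF] <;>
        first
        | ring1
        | linear_combination hm
        | linear_combination -hm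
    have hc' := congrArg α hc
    rw [map_mul, map_mul, h0, ← hτ, ← hτ] at hc'
    have e := congrArg (fun z : Cfsg.SU 3 F q => z.1.1 2 1) hc'
    change ((win 3 2 0 tm).1.1 * (win 3 2 1 (τ w)).1.1) 2 1 =
      ((win 3 2 1 (τ w')).1.1 * (win 3 2 0 tm).1.1) 2 1 at e
    rw [win_low_val, win_high_val, win_high_val, htm, show (τ w).1.1 = (T w).1.1 from rfl,
      show (τ w').1.1 = (T w').1.1 from rfl, hσ, hσ, hw, hw'] at e
    simp [su2Matrix, Matrix.mul_apply, Fin.sum_univ_three, zero_pow_q hF] at e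
    have hν0 : ν ≠ 0 := fun e0 => by rw [e0, zero_mul] at hν; exact zero_ne_one hν
    have e1 : ν * (σ m * m ^ q) = ν := by linear_combination -e
    calc σ m = σ m * (m * m ^ q) := by rw [hm, mul_one]
      _ = m * (σ m * m ^ q) := by ring
      _ = m := by rw [mul_left_cancel₀ hν0 (e1.trans (mul_one ν).symm), mul_one]
  have hd : ∀ i, (![1, 1, ν] : Fin 3 → F) i * (![1, 1, ν] : Fin 3 → F) i ^ q = 1 := fun i => by
    fin_cases i <;> simp [hν]
  refine ⟨ν, hd, fun x => ?_⟩
  refine hK.eq_of_blocks hα (semi_injective hF _ _ hd) (fun y => ?_) (fun y => ?_) x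
  · rw [h0]
    refine Subtype.ext (Subtype.ext (Matrix.ext fun i j => ?_))
    rw [semi_val, win_low_val]
    fin_cases i <;> fin_cases j <;> simp [hν, zero_pow_q hF]
  · rw [← hτ]
    refine Subtype.ext (Subtype.ext (Matrix.ext fun i j => ?_))
    obtain ⟨hy, -⟩ := su2_shape hF y
    rw [semi_val, win_high_val, win_high_val, show (τ y).1.1 = (T y).1.1 from rfl, hσ, hy]
    fin_cases i <;> fin_cases j <;> simp [su2Matrix, hfix, mul_pow, zero_pow_q hF] <;>
      first
      | ring1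
      | linear_combination (-(y.1.1 0 0) ^ q) * hν
      | linear_combination ((y.1.1 0 0) ^ q) * hν
      | linear_combination hν
/-- An endomorphism preserving both blocks is semilinear diagonal. -/
theorem eq_semi_of_blocks (hF : Fintype.card F = q ^ 2) (hK : Ok q F G) {α : Cfsg.SU 3 F q →* Cfsg.SU 3 F q}
    (hα : Function.Injective α)
    (h0 : ∀ x, α (win 3 2 0 x) ∈ (win 3 2 0 : Cfsg.SU 2 F q →* _).range)
    (h1 : ∀ x, α (win 3 2 1 x) ∈ (win 3 2 1 : Cfsg.SU 2 F q →* _).range) :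
    ∃ (σ : F ≃+* F) (d : Fin 3 → F) (hd : ∀ i, d i * d i ^ q = 1), ∀ x, α x = semi hF σ d hd x := by
  choose τ hτ using h0
  have hmul : ∀ x y, τ (x * y) = τ x * τ y := fun x y => win_injective (N := 3) (a := 0) (by omega) (by
    rw [map_mul, hτ, hτ, hτ, map_mul, map_mul])
  have hinj : Function.Injective τ := fun x y e =>
    win_injective (N := 3) (a := 0) (by omega) (hα (by rw [← hτ, ← hτ, e]))
  let T : MulAut (Cfsg.SU 2 F q) := MulEquiv.ofBijective (MonoidHom.mk' τ hmul)
    (Finite.injective_iff_bijective.1 hinj)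
  obtain ⟨σ, ν, hν, hσ⟩ := aut_SU2_torus hF (one_lt_q hF) T fun y hy => by
    refine (low_normalises_iff hF (isPair_id hF) (τ y)).2 fun z hz => ?_
    set R := (win 3 2 1 : Cfsg.SU 2 F q →* _).range
    have hR : R.map α = R := Subgroup.eq_of_le_of_card_ge
      (by rintro _ ⟨_, ⟨x, rfl⟩, rfl⟩; exact h1 x)
      (le_of_eq (Nat.card_congr (R.equivMapOfInjective α hα).toEquiv))
    rw [← hR] at hz
    obtain ⟨z0, hz0, rfl⟩ := hz
    rw [MonoidHom.id_apply, hτ, ← map_mul, ← map_inv, ← map_mul]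
    obtain ⟨x, hx⟩ := (low_normalises_iff hF (isPair_id hF) y).1 hy z0 hz0
    rw [MonoidHom.id_apply] at hx
    rw [← hx]
    exact h1 x
  have hd : ∀ i, (![1, ν, ν] : Fin 3 → F) i * (![1, ν, ν] : Fin 3 → F) i ^ q = 1 := fun i => by
    fin_cases i <;> simp [hν]
  let β : MulAut (Cfsg.SU 3 F q) := MulEquiv.ofBijective (semi hF σ ![1, ν, ν] hd)
    (Finite.injective_iff_bijective.1 (semi_injective hF σ _ hd))
  have hβ0 : ∀ y, β (win 3 2 0 y) = α (win 3 2 0 y) := fun y => by
    rw [← hτ]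
    refine Subtype.ext (Subtype.ext (Matrix.ext fun i j => ?_))
    show (semi hF σ ![1, ν, ν] hd (win 3 2 0 y)).1.1 i j = _
    obtain ⟨hy, -⟩ := su2_shape hF y
    rw [semi_val, win_low_val, win_low_val, show (τ y).1.1 = (T y).1.1 from rfl, hσ, hy]
    fin_cases i <;> fin_cases j <;>
      simp [su2Matrix, mul_pow, map_pow, map_neg, zero_pow_q hF] <;>
      first
      | ring1
      | linear_combination σ (y.1.1 0 0) ^ q * hν
      | linear_combination hν
  obtain ⟨ν', hd', hα'⟩ := eq_semi_of_fixed hF hK (α := β.symm.toMonoidHom.comp α)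
    (β.symm.injective.comp hα)
    (fun y => by show β.symm (α _) = _; rw [← hβ0, MulEquiv.symm_apply_apply]) fun y => by
      set R := (win 3 2 1 : Cfsg.SU 2 F q →* _).range with hR
      have hmap : R.map β.toMonoidHom = R := by
        refine Subgroup.eq_of_le_of_card_ge ?_ (le_of_eq ?_)
        · rw [hR, range_win hF (show 1 + 2 ≤ 3 by omega)]
          rintro _ ⟨x, hx, rfl⟩
          exact semi_mem_fix hF σ _ hd hx
        · exact (Nat.card_congr (R.equivMapOfInjective β.toMonoidHom β.injective).toEquiv)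
      obtain ⟨z, hz, e⟩ := hmap.ge (h1 y)
      show β.symm (α _) ∈ R
      rw [← e]
      simpa using hz
  set d : Fin 3 → F := ![1, ν, ν * σ ν']
  have hd2 : ∀ i, d i * d i ^ q = 1 := fun i => by
    have hν' : σ ν' * σ ν' ^ q = 1 := by
      rw [← map_pow, ← map_mul, show ν' * ν' ^ q = 1 by simpa using hd' 2, map_one]
    fin_cases i <;> simp [d, hν]
    rw [mul_pow]
    linear_combination (σ ν' * σ ν' ^ q) * hν + hν'
  refine ⟨σ, d, hd2, fun x => ?_⟩
  have e : α x = β (β.symm.toMonoidHom.comp α x) := (β.apply_symm_apply _).symm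
  rw [e, hα']
  refine Subtype.ext (Subtype.ext (Matrix.ext fun i j => ?_))
  show (semi hF σ ![1, ν, ν] hd (semi hF (RingEquiv.refl F) ![1, 1, ν'] hd' x)).1.1 i j = _
  rw [semi_val, semi_val, semi_val]
  fin_cases i <;> fin_cases j <;>
    simp [d, map_mul, map_pow, mul_pow, -mul_eq_mul_left_iff, -mul_eq_mul_right_iff] <;> ring

theorem range_win_top (hF : Fintype.card F = q ^ 2) :
    (win 4 3 0 : Cfsg.SU 3 F q →* _).range = vstab q (bv 3 : Fin 4 → F) := by
  rw [range_win hF (show 0 + 3 ≤ 4 by omega)]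
  ext X
  rw [mem_fix, mem_vstab]
  refine ⟨fun h => h 3 (by simp), fun h i hi => ?_⟩
  simp only [Finset.mem_filter, Finset.mem_univ, true_and] at hi
  obtain rfl : i = 3 := Fin.ext (by have := i.isLt; simp; omega)
  exact h

/-- A lift is carried to the first window of size three. -/
theorem exists_standard_lift (hF : Fintype.card F = q ^ 2) (hK : Ok q F G) {θ : Cfsg.SU 3 F q →* Cfsg.SU 4 F q}
    (hθ : Function.Injective θ) {e : Fin 4 → F} (he : hermForm 4 F q e e = 1)
    (hr : θ.range = vstab q e) :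
    ∃ Φ : MulAut (Cfsg.SU 4 F q), ∀ x, θ x = Φ (win 4 3 0 x) := by
  obtain ⟨h, -, hh⟩ := exists_fix_unit hF (∅ : Finset (Fin 4)) (by simp) (v := bv 3)
    (fun x hx => absurd hx (Finset.notMem_empty x)) (fun x hx => absurd hx (Finset.notMem_empty x)) he
    (by simp [herm_bv hF])
  have hmem : ∀ x, h * θ x * h⁻¹ ∈ (win 4 3 0 : Cfsg.SU 3 F q →* _).range := fun x => by
    rw [range_win_top hF, ← hh, ← map_conj_vstab]
    exact ⟨θ x, by rw [← hr]; exact ⟨x, rfl⟩, rfl⟩
  choose a ha using hmem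
  have hmul : ∀ x y, a (x * y) = a x * a y := fun x y => win_injective (N := 4) (a := 0) (by omega) (by
    rw [map_mul, ha, ha, ha, map_mul]; group)
  have hinj : Function.Injective a := fun x y e => hθ (by
    have e' := congrArg (win 4 3 0 : Cfsg.SU 3 F q →* Cfsg.SU 4 F q) e
    rwa [ha, ha, mul_left_inj, mul_right_inj] at e')
  let A : MulAut (Cfsg.SU 3 F q) := MulEquiv.ofBijective (MonoidHom.mk' a hmul)
    (Finite.injective_iff_bijective.1 hinj)
  obtain ⟨l, t, hl, -, -, -, ht, htp, ht1⟩ := exists_torus hF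
  let S : ℕ → Subgroup (Cfsg.SU 3 F q) := fun i =>
    (win 3 2 i : Cfsg.SU 2 F q →* _).range.map A.toMonoidHom
  have eS : ∀ i, i + 2 ≤ 3 → Nonempty (Cfsg.SU 2 F q ≃* S i) := fun i hi =>
    ⟨(MonoidHom.ofInjective (win_injective (N := 3) (a := i) hi)).trans
      (Subgroup.equivMapOfInjective _ A.toMonoidHom A.injective)⟩
  obtain ⟨e0⟩ := eS 0 (by omega)
  obtain ⟨e1⟩ := eS 1 (by omega)
  obtain ⟨h3, hA, hB⟩ := exists_move_blocks_ne hF e0 e1
    (fun e' => blocks_ne hF (Subgroup.map_injective (f := A.toMonoidHom) A.injective e'))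
    (t := A (win 3 2 0 t)) (s := A (win 3 2 1 t)) ⟨_, ⟨t, rfl⟩, rfl⟩ ⟨_, ⟨t, rfl⟩, rfl⟩
    (by rw [← map_pow, ← map_pow, htp, map_one, map_one])
    (by rw [← map_pow, ← map_pow, htp, map_one, map_one])
    (fun e' => ht1 (win_injective (N := 3) (a := 0) (by omega) (by simpa using e')))
    (fun e' => ht1 (win_injective (N := 3) (a := 1) le_rfl (by simpa using e')))
    (by
      rw [← map_mul, ← map_mul]
      congr 1
      refine Subtype.ext (Subtype.ext ?_)
      show (win 3 2 0 t).1.1 * (win 3 2 1 t).1.1 = (win 3 2 1 t).1.1 * (win 3 2 0 t).1.1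
      rw [win_low_val, win_high_val, ht]
      ext i j
      fin_cases i <;> fin_cases j <;> simp [su2Matrix, Matrix.mul_apply, Fin.sum_univ_three, zero_pow_q hF] <;> ring)
  obtain ⟨σ, d, hd, hα⟩ := eq_semi_of_blocks hF hK
    (α := ((MulAut.conj h3).toMonoidHom.comp A.toMonoidHom))
    ((MulAut.conj h3).injective.comp A.injective)
    (fun x => by rw [← hA]; exact ⟨_, ⟨_, ⟨x, rfl⟩, rfl⟩, rfl⟩)
    (fun x => by rw [← hB]; exact ⟨_, ⟨_, ⟨x, rfl⟩, rfl⟩, rfl⟩)
  set D : Fin 4 → F := ![d 0, d 1, d 2, 1]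
  have hD : ∀ i, D i * D i ^ q = 1 := fun i => by fin_cases i <;> simp [D, hd]
  let β : MulAut (Cfsg.SU 4 F q) := MulEquiv.ofBijective (semi hF σ D hD)
    (Finite.injective_iff_bijective.1 (semi_injective hF σ _ hD))
  refine ⟨β.trans (MulAut.conj (win 4 3 0 h3 * h)).symm, fun x => ?_⟩
  show θ x = (MulAut.conj (win 4 3 0 h3 * h)).symm (semi hF σ D hD (win 4 3 0 x))
  rw [semi_win hF σ D hD d hd (by omega) (fun j => by fin_cases j <;> rfl), ← hα,
    MulAut.conj_symm_apply]
  show θ x = _ * win 4 3 0 (h3 * a x * h3⁻¹) * _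
  rw [map_mul, map_mul, map_inv, ha]
  group

/-- What commutes with the first block of size two is diagonal on it. -/
theorem centraliser_block (hF : Fintype.card F = q ^ 2) {X : Cfsg.SU 4 F q}
    (h : ∀ x : Cfsg.SU 2 F q, win 4 2 0 x * X = X * win 4 2 0 x) :
    ∃ c : F, act X (bv 0) = c • bv 0 ∧ act X (bv 1) = c • bv 1 := by
  obtain ⟨l, t, hl, hl2, hl1, hlq, ht, -, -⟩ := exists_torus hF
  obtain ⟨w, hw⟩ := exists_su2 hF (a := (0 : F)) (b := 1) (by simp [zero_pow_q hF])
  have hs : ∀ k : Fin 2, shift 4 2 0 (by omega) k = (![0, 1] : Fin 2 → Fin 4) k := fun k => by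
    fin_cases k <;> rfl
  have val : ∀ x : Cfsg.SU 2 F q, (win 4 2 0 x).1.1 =
      !![x.1.1 0 0, x.1.1 0 1, 0, 0; x.1.1 1 0, x.1.1 1 1, 0, 0; 0, 0, 1, 0; 0, 0, 0, 1] := fun x => by
    rw [win_eq (show 0 + 2 ≤ 4 by omega), emb_val]
    ext i j
    fin_cases i <;> fin_cases j <;>
      simp [embMatrix, incl, hs, Matrix.mul_apply, Fin.sum_univ_two, Matrix.one_apply]
  have et : (win 4 2 0 t).1.1 * X.1.1 = X.1.1 * (win 4 2 0 t).1.1 :=
    congrArg (fun Z : Cfsg.SU 4 F q => Z.1.1) (h t)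
  have ew : (win 4 2 0 w).1.1 * X.1.1 = X.1.1 * (win 4 2 0 w).1.1 :=
    congrArg (fun Z : Cfsg.SU 4 F q => Z.1.1) (h w)
  rw [val, ht] at et
  rw [val, hw] at ew
  have f10 := congrFun (congrFun et 1) 0
  have f20 := congrFun (congrFun et 2) 0
  have f30 := congrFun (congrFun et 3) 0
  have f01 := congrFun (congrFun et 0) 1
  have f21 := congrFun (congrFun et 2) 1
  have f31 := congrFun (congrFun et 3) 1
  have g10 := congrFun (congrFun ew 1) 0
  simp [su2Matrix, Matrix.mul_apply, Fin.sum_univ_four, zero_pow_q hF] at f10 f20 f30 f01 f21 f31 g10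
  have kill : ∀ {a b z : F}, a ≠ b → a * z = b * z → z = 0 := fun hab e =>
    (mul_eq_zero.1 (show (_ - _) * _ = (0 : F) by rw [sub_mul, e, sub_self])).resolve_left
      (sub_ne_zero.2 hab)
  have z10 : X.1.1 1 0 = 0 := kill hl2.symm (by linear_combination f10)
  have z20 : X.1.1 2 0 = 0 := kill (Ne.symm hl1) (by linear_combination f20)
  have z30 : X.1.1 3 0 = 0 := kill (Ne.symm hl1) (by linear_combination f30)
  have z01 : X.1.1 0 1 = 0 := kill hl2 (by linear_combination f01)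
  have z21 : X.1.1 2 1 = 0 := kill (Ne.symm hlq) (by linear_combination f21)
  have z31 : X.1.1 3 1 = 0 := kill (Ne.symm hlq) (by linear_combination f31)
  refine ⟨X.1.1 0 0, funext fun i => ?_, funext fun i => ?_⟩
  · rw [act_bv_apply]; fin_cases i <;> simp [z10, z20, z30]
  · rw [act_bv_apply]; fin_cases i <;> simp [z01, z21, z31]; linear_combination -g10

/-- Two windows inside a central quotient of `SU 4` extend to it. -/
theorem exists_four_of (hF : Fintype.card F = q ^ 2) (hK : Ok q F G) {ψa ψb : Cfsg.SU 3 F q →* G}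
    (hagree : ∀ x, ψa (win 3 2 1 x) = ψb (win 3 2 0 x))
    (hcomm : ∀ x y, Commute (ψa (win 3 2 0 x)) (ψb (win 3 2 1 y)))
    (ha : Function.Injective ψa) (hb : Function.Injective ψb) (g : Cfsg.SU 4 F q →* G)
    (hga : ψa.range ≤ g.range) (hgb : ψb.range ≤ g.range) :
    ∃ f : Cfsg.SU 4 F q →* G, (∀ x, f (win 4 3 0 x) = ψa x) ∧ ∀ x, f (win 4 3 1 x) = ψb x := by
  obtain ⟨l, t, hl, -, -, -, ht, -, ht1⟩ := exists_torus hF
  have hg : g.ker ≤ Subgroup.center (Cfsg.SU 4 F q) := by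
    by_contra hcon
    have htop := SU_normal_eq_top hF (by norm_num) (by norm_num) g.normal_ker hcon
    refine ht1 (win_injective (N := 3) (a := 0) (by omega) (ha ?_))
    obtain ⟨X, hX⟩ := hga ⟨win 3 2 0 t, rfl⟩
    rw [map_one, map_one, ← hX]
    exact htop.ge (Subgroup.mem_top X)
  obtain ⟨ea, θa, hea, hθa, hra, hga'⟩ := hK.lift g hg ha hga
  obtain ⟨eb, θb, -, hθb, -, hgb'⟩ := hK.lift g hg hb hgb
  obtain ⟨Φ, hΦ⟩ := exists_standard_lift hF hK hθa hea hra
  set θ := Φ.symm.toMonoidHom.comp θb with hθ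
  have hagree' : ∀ x, θ (win 3 2 0 x) = win 4 2 1 x := fun x => by
    have e := hom_eq_of_comp hF hg (θ := θa.comp (win 3 2 1)) (θ' := θb.comp (win 3 2 0))
      (fun y => by show g (θa _) = g (θb _); rw [hga', hgb', hagree]) x
    show Φ.symm (θb _) = _
    rw [← show θa (win 3 2 1 x) = θb (win 3 2 0 x) from e, hΦ, Φ.symm_apply_apply,
      win_win (show 0 + 3 ≤ 4 by omega) (show 1 + 2 ≤ 3 by omega)]
  have hcomm' : ∀ x y, win 4 2 0 x * θ (win 3 2 1 y) = θ (win 3 2 1 y) * win 4 2 0 x := fun x y => by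
    have e := commute_lifts hF hg (θ := θa.comp (win 3 2 0)) (Z := θb (win 3 2 1 y))
      (fun z => by show g (θa _) * _ = _ * g (θa _); rw [hga', hgb', (hcomm z y).eq]) x
    have e' := congrArg Φ.symm (show θa (win 3 2 0 x) * _ = _ * θa (win 3 2 0 x) from e)
    rw [map_mul, map_mul, hΦ, Φ.symm_apply_apply, win_win (show 0 + 3 ≤ 4 by omega) (show 0 + 2 ≤ 3 by omega)] at e'
    exact e'
  have hfix2 : ∀ y, θ (win 3 2 1 y) ∈ fix q F ({0, 1} : Finset (Fin 4)) := fun y => by
    have : (fix q F ({0, 1} : Finset (Fin 4))).comap (θ.comp (win 3 2 1)) = ⊤ :=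
      gen_pow_q hF fun z hz => by
        obtain ⟨c, c0, c1⟩ := centraliser_block hF fun x => hcomm' x z
        have hiter : ∀ n : ℕ, act (θ (win 3 2 1 z) ^ n) (bv 0) = c ^ n • bv 0 := by
          intro n
          induction n with
          | zero => rw [pow_zero, act_one, pow_zero, one_smul]
          | succ n ih => rw [pow_succ, act_mul, c0, act_smul, ih, smul_smul, pow_succ, mul_comm]
        have h3 := congrFun (hiter q) 0
        rw [← map_pow, ← map_pow, hz, map_one, map_one, act_one] at h3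
        have hc : c = 1 := eq_one_of_pow_q hF (by simpa using h3.symm)
        intro i hi
        show act (θ (win 3 2 1 z)) (bv i) = bv i
        rw [Finset.mem_insert, Finset.mem_singleton] at hi
        rcases hi with rfl | rfl
        · rw [c0, hc, one_smul]
        · rw [c1, hc, one_smul]
    exact this.ge (Subgroup.mem_top y)
  have hin : ∀ x, θ x ∈ (win 4 3 1 : Cfsg.SU 3 F q →* _).range := fun x => by
    rw [range_win hF (show 1 + 3 ≤ 4 by omega)]
    refine fix_mono (fun i hi => ?_) (hK.line θ (Φ.symm.injective.comp hθb) hagree' hfix2 x)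
    simp only [Finset.mem_filter, Finset.mem_univ, true_and] at hi
    obtain rfl : i = 0 := Fin.ext (by have := i.isLt; simp; omega)
    simp
  choose a haw using hin
  have hmul : ∀ x y, a (x * y) = a x * a y := fun x y => win_injective (N := 4) (a := 1) le_rfl (by
    rw [map_mul, haw, haw, haw, map_mul])
  obtain ⟨ν, hd, hα⟩ := eq_semi_of_fixed hF hK (α := MonoidHom.mk' a hmul)
    (fun x y e => hθb (Φ.symm.injective (show θ x = θ y by rw [← haw, ← haw]; exact congrArg _ e)))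
    (fun x => win_injective (N := 4) (a := 1) le_rfl (by
      show win 4 3 1 (a _) = _; rw [haw, hagree', win_win (show 1 + 3 ≤ 4 by omega) (show 0 + 2 ≤ 3 by omega)]))
    (fun y => by
      obtain ⟨z, hz⟩ : θ (win 3 2 1 y) ∈ (win 4 2 2 : Cfsg.SU 2 F q →* _).range := by
        rw [range_win hF (show 2 + 2 ≤ 4 by omega)]
        exact fix_mono (fun i hi => by
          simp only [Finset.mem_filter, Finset.mem_univ, true_and] at hi
          have := i.isLt
          rw [Finset.mem_insert, Finset.mem_singleton]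
          rcases (show (i : ℕ) = 0 ∨ (i : ℕ) = 1 by omega) with e | e
          · exact Or.inl (Fin.ext (by simpa using e))
          · exact Or.inr (Fin.ext (by simpa using e))) (hfix2 y)
      refine ⟨z, win_injective (N := 4) (a := 1) le_rfl ?_⟩
      show _ = win 4 3 1 (a _)
      rw [haw, ← hz, win_win (show 1 + 3 ≤ 4 by omega) (show 1 + 2 ≤ 3 by omega)])
  have hD : ∀ i, (![1, 1, 1, ν] : Fin 4 → F) i * (![1, 1, 1, ν] : Fin 4 → F) i ^ q = 1 := fun i => by
    have := hd 2
    fin_cases i <;> simp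
    simpa using this
  refine ⟨g.comp (Φ.toMonoidHom.comp (semi hF (RingEquiv.refl F) ![1, 1, 1, ν] hD)),
    fun x => ?_, fun x => ?_⟩
  · show g (Φ (semi hF _ _ hD (win 4 3 0 x))) = _
    rw [semi_win hF _ _ hD (fun _ => 1) (fun _ => by simp) (by omega)
      (fun j => by fin_cases j <;> rfl),
      show semi hF (RingEquiv.refl F) (fun _ : Fin 3 => (1 : F)) (fun _ => by simp) x = x from
        Subtype.ext (Subtype.ext (Matrix.ext fun i j => by rw [semi_val]; simp)), ← hΦ, hga']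
  · show g (Φ (semi hF _ _ hD (win 4 3 1 x))) = _
    rw [semi_win hF _ _ hD ![1, 1, ν] hd le_rfl (fun j => by fin_cases j <;> rfl), ← hα]
    show g (Φ (win 4 3 1 (a x))) = _
    rw [haw]
    show g (Φ (Φ.symm (θb x))) = _
    rw [Φ.apply_symm_apply, hgb']

/-- The case of nine elements. -/
theorem ok_three (hF : Fintype.card F = 3 ^ 2) : Ok 3 F G where
  field := ringEquiv_eq hF
  eq_of_blocks := fun {α β} _ _ h0 h1 x => by
    have : MonoidHom.eqLocus α β = ⊤ := by
      refine top_le_iff.1 ?_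
      rw [← gen_three hF le_rfl]
      refine sup_le ?_ ?_ <;> rintro _ ⟨y, rfl⟩
      · exact h0 y
      · exact h1 y
    exact this.ge (Subgroup.mem_top x)
  lift := fun g hg {ψ} hψ hle => exists_lift_three hF hg hψ hle
  line := fun θ _ h0 h1 x => by
    have : (fix 3 F ({0} : Finset (Fin 4))).comap θ = ⊤ := by
      refine top_le_iff.1 ?_
      rw [← gen_three hF le_rfl]
      refine sup_le ?_ ?_ <;> rintro _ ⟨y, rfl⟩
      · rw [Subgroup.mem_comap, h0]
        have hm : win 4 2 1 y ∈ (win 4 2 1 : Cfsg.SU 2 F 3 →* _).range := ⟨y, rfl⟩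
        rw [range_win hF (show 1 + 2 ≤ 4 by omega)] at hm
        exact fix_mono (fun i hi => by rw [Finset.mem_singleton] at hi; subst hi; simp) hm
      · exact fix_mono (fun i hi => by rw [Finset.mem_singleton] at hi; subst hi; simp) (h1 y)
    exact this.ge (Subgroup.mem_top x)

theorem exists_four (hF : Fintype.card F = 3 ^ 2) {ψa ψb : Cfsg.SU 3 F 3 →* G}
    (hagree : ∀ x, ψa (win 3 2 1 x) = ψb (win 3 2 0 x))
    (hcomm : ∀ x y, Commute (ψa (win 3 2 0 x)) (ψb (win 3 2 1 y)))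
    (ha : Function.Injective ψa) (hb : Function.Injective ψb) (g : Cfsg.SU 4 F 3 →* G)
    (hga : ψa.range ≤ g.range) (hgb : ψb.range ≤ g.range) :
    ∃ f : Cfsg.SU 4 F 3 →* G, (∀ x, f (win 4 3 0 x) = ψa x) ∧ ∀ x, f (win 4 3 1 x) = ψb x :=
  exists_four_of hF (ok_three hF) hagree hcomm ha hb g hga hgb

end Rigid

end Cfsg.Agent.Lib.Phan
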