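import Cfsg.Agent.Lib.Phan.Three

/-!
# Phan's theorem, part 17

Over the field with four elements two windows inside `SU 4` extend to `SU 4`.
-/

set_option autoImplicit false
set_option linter.unusedSectionVars false

namespace Cfsg.Agent.Lib.Phan

open Matrix Module Cfsg.Agent.Lib.Unitary

variable {F : Type*} [Field F] [Fintype F] {G : Type*} [Group G]

namespace Small

/-- The field with four elements. -/
theorem exists_omega (hF : Fintype.card F = 2 ^ 2) :
    ∃ ω : F, ω * ω = ω + 1 ∧ (2 : F) = 0 ∧ ω ≠ 0 ∧ ω ≠ 1 ∧ ω ^ 3 = 1 ∧ (∀ x : F, x ≠ 0 → x ^ 3 = 1) ∧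
      ∀ x : F, x ^ 3 = 1 → x = 1 ∨ x = ω ∨ x = ω + 1 := by
  have h2 : (2 : F) = 0 := by
    have h := FiniteField.cast_card_eq_zero F
    rw [hF, Nat.cast_pow] at h
    have := eq_zero_of_pow_eq_zero h
    exact_mod_cast this
  obtain ⟨l, hl, hl2⟩ := exists_norm_one_ne_conj hF
  have h1 : l ≠ 1 := fun e => hl2 (by rw [e, one_pow])
  have h0 : l ≠ 0 := fun e => hl2 (by rw [e]; simp)
  have hl3 : l ^ 3 = 1 := by linear_combination hl
  have he : l * l = l + 1 := by
    have : (l - 1) * (l * l + l + 1) = 0 := by linear_combination hl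
    linear_combination ((mul_eq_zero.1 this).resolve_left (sub_ne_zero.2 h1)) - (l + 1) * h2
  refine ⟨l, he, h2, h0, h1, hl3, fun x hx => ?_, fun x hx => ?_⟩
  · have := FiniteField.pow_card_sub_one_eq_one x hx
    rwa [hF] at this
  · have : (x - 1) * ((x - l) * (x - (l + 1))) = 0 := by
      linear_combination hx + (x - 1) * he + ((x - 1) * (l + 1 - l * x - x) + 1 - x) * h2
    rcases mul_eq_zero.1 this with h | h
    · exact Or.inl (sub_eq_zero.1 h)
    · rcases mul_eq_zero.1 h with h | h
      · exact Or.inr (Or.inl (sub_eq_zero.1 h))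
      · exact Or.inr (Or.inr (sub_eq_zero.1 h))

theorem nat_card_eq (hF : Fintype.card F = 2 ^ 2) {x : F} (hx : x ≠ 0) : x ^ 4 = x := by
  obtain ⟨-, -, -, -, -, -, h3, -⟩ := exists_omega hF
  linear_combination x * h3 x hx

set_option maxHeartbeats 800000 in
/-- The matrix of the discrete Fourier transform. -/
theorem exists_fourier (hF : Fintype.card F = 2 ^ 2) :
    ∃ (ω : F) (M : Cfsg.SU 3 F 2) (td w : Cfsg.SU 2 F 2),
      ω * ω = ω + 1 ∧ M.1.1 = !![1, 1, 1; 1, ω, ω + 1; 1, ω + 1, ω] ∧
      td.1.1 = !![ω, 0; 0, ω + 1] ∧ w.1.1 = !![0, 1; 1, 0] ∧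
      M * win 3 2 1 td = win 3 2 1 w * win 3 2 0 w * M ∧
      M * (win 3 2 1 w * win 3 2 0 w) = (win 3 2 1 td)⁻¹ * M ∧ M ^ 4 = 1 ∧ M ^ 2 ≠ 1 := by
  obtain ⟨ω, hw, h2, h0, h1, h3, -, -⟩ := exists_omega hF
  let M : Cfsg.SU 3 F 2 := ⟨⟨!![1, 1, 1; 1, ω, ω + 1; 1, ω + 1, ω], by
      rw [Matrix.det_fin_three]
      simp
      linear_combination (-ω) * h2⟩, fun u v => by
    show hermForm 3 F 2 (!![1, 1, 1; 1, ω, ω + 1; 1, ω + 1, ω] *ᵥ u)
      (!![1, 1, 1; 1, ω, ω + 1; 1, ω + 1, ω] *ᵥ v) = hermForm 3 F 2 u v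
    have e1 : ω ^ 2 = ω + 1 := by linear_combination hw
    have e2 : (ω + 1) ^ 2 = ω := by linear_combination hw + (ω + 1) * h2
    simp [hermForm, Fin.sum_univ_three, Matrix.mulVec, dotProduct, Matrix.of_apply]
    simp only [add_pow_q hF, mul_pow, e1, e2, one_pow, one_mul]
    linear_combination
      (u 0 * v 0 ^ 2 + (ω * ω + ω) * (u 1 * v 1 ^ 2 + u 2 * v 2 ^ 2)
        + (ω + 1) * (u 0 * v 1 ^ 2 + u 0 * v 2 ^ 2 + u 1 * v 0 ^ 2 + u 2 * v 0 ^ 2)
        + (ω * ω + ω + 1) * (u 1 * v 2 ^ 2 + u 2 * v 1 ^ 2)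
        + (u 0 * v 1 ^ 2 + u 0 * v 2 ^ 2 + (1 + ω) * (u 1 * v 1 ^ 2 + u 2 * v 2 ^ 2)
          + ω * (u 1 * v 2 ^ 2 + u 2 * v 1 ^ 2))) * h2⟩
  have hM : M.1.1 = !![1, 1, 1; 1, ω, ω + 1; 1, ω + 1, ω] := rfl
  obtain ⟨td, htd⟩ := exists_su2 hF (a := ω) (b := (0 : F)) (by linear_combination h3)
  obtain ⟨w, hw'⟩ := exists_su2 hF (a := (0 : F)) (b := 1) (by ring)
  have htd' : td.1.1 = !![ω, 0; 0, ω + 1] := by
    rw [htd]; ext i j; fin_cases i <;> fin_cases j <;> simp [su2Matrix]; linear_combination hw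
  have hww : w.1.1 = !![0, 1; 1, 0] := by
    rw [hw']; ext i j; fin_cases i <;> fin_cases j <;> simp [su2Matrix]; linear_combination -h2
  have hMt : M * win 3 2 1 td = win 3 2 1 w * win 3 2 0 w * M := by
    refine Subtype.ext (Subtype.ext ?_)
    show M.1.1 * (win 3 2 1 td).1.1 = (win 3 2 1 w).1.1 * (win 3 2 0 w).1.1 * M.1.1
    rw [hM, win_low_val, win_high_val, win_high_val, htd', hww]
    ext i j
    fin_cases i <;> fin_cases j <;> simp [Matrix.mul_apply, Fin.sum_univ_three] <;>
      first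
      | ring1
      | linear_combination hw
      | linear_combination -hw
      | linear_combination h2
      | linear_combination hw + (ω + 1) * h2
      | linear_combination hw + ω * h2
      | linear_combination -hw - ω * h2
      | linear_combination (ω + 1) * h2
      | linear_combination (ω * ω + ω + 1) * h2
      | linear_combination (ω * ω + ω) * h2
      | linear_combination ω * hw + (ω * ω) * h2
      | linear_combination (ω + 1) * hw + (ω + 1) * h2
  have hMP : M * (win 3 2 1 w * win 3 2 0 w) = (win 3 2 1 td)⁻¹ * M := by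
    refine eq_inv_mul_of_mul_eq (Subtype.ext (Subtype.ext ?_))
    show (win 3 2 1 td).1.1 * (M.1.1 * ((win 3 2 1 w).1.1 * (win 3 2 0 w).1.1)) = M.1.1
    rw [hM, win_low_val, win_high_val, win_high_val, htd', hww]
    ext i j
    fin_cases i <;> fin_cases j <;> simp [Matrix.mul_apply, Fin.sum_univ_three] <;>
      first
      | ring1
      | linear_combination hw
      | linear_combination -hw
      | linear_combination h2
      | linear_combination hw + (ω + 1) * h2
      | linear_combination hw + ω * h2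
      | linear_combination -hw - ω * h2
      | linear_combination (ω + 1) * h2
      | linear_combination (ω * ω + ω + 1) * h2
      | linear_combination (ω * ω + ω) * h2
      | linear_combination ω * hw + (ω * ω) * h2
      | linear_combination (ω + 1) * hw + (ω + 1) * h2
  have hM2 : (M * M).1.1 = !![1, 0, 0; 0, 0, 1; 0, 1, 0] := by
    show M.1.1 * M.1.1 = _
    rw [hM]
    ext i j
    fin_cases i <;> fin_cases j <;> simp [Matrix.mul_apply, Fin.sum_univ_three] <;>
      first
      | ring1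
      | linear_combination hw
      | linear_combination -hw
      | linear_combination h2
      | linear_combination hw + (ω + 1) * h2
      | linear_combination hw + ω * h2
      | linear_combination -hw - ω * h2
      | linear_combination (ω + 1) * h2
      | linear_combination (ω * ω + ω + 1) * h2
      | linear_combination (ω * ω + ω) * h2
      | linear_combination ω * hw + (ω * ω) * h2
      | linear_combination (ω + 1) * hw + (ω + 1) * h2
  refine ⟨ω, M, td, w, hw, hM, htd', hww, hMt, hMP, ?_, fun e => ?_⟩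
  · rw [show M ^ 4 = M * M * (M * M) by simp [pow_succ, mul_assoc]]
    refine Subtype.ext (Subtype.ext ?_)
    show (M * M).1.1 * (M * M).1.1 = 1
    rw [hM2]
    ext i j
    fin_cases i <;> fin_cases j <;> simp [Matrix.mul_apply, Fin.sum_univ_three]
  · rw [pow_two] at e
    have := congrArg (fun x : Cfsg.SU 3 F 2 => x.1.1 1 2) e
    simp only [hM2] at this
    simp at this

/-- The blocks and the twisted Fourier matrices generate. -/
theorem gen_two (hF : Fintype.card F = 2 ^ 2) {ω : F} (hw : ω * ω = ω + 1) {M : Cfsg.SU 3 F 2}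
    (hM : M.1.1 = !![1, 1, 1; 1, ω, ω + 1; 1, ω + 1, ω]) {S : Subgroup (Cfsg.SU 3 F 2)}
    (h0 : ∀ y, win 3 2 0 y ∈ S) (h1 : ∀ y, win 3 2 1 y ∈ S)
    (hp : ∀ (p : Fin 3 → F) (hd : ∀ i, p i * p i ^ 2 = 1), semi hF (RingEquiv.refl F) p hd M ∈ S) :
    S = ⊤ := by
  obtain ⟨-, -, h2, -, -, -, hcube, -⟩ := exists_omega hF
  have hw0 : ω ≠ 0 := fun e => by rw [e, mul_zero, zero_add] at hw; exact zero_ne_one hw
  refine eq_top_iff.2 fun g _ => ?_
  have fin : ∀ s ∈ S, act s (bv 2) = act g (bv 2) → g ∈ S := fun s hs e => by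
    have hm : s⁻¹ * g ∈ (win 3 2 0 : Cfsg.SU 2 F 2 →* _).range := by
      rw [range_win_low hF, mem_vstab, act_mul, ← e, act_inv_act]
    obtain ⟨y, hy⟩ := hm
    simpa [hy] using S.mul_mem hs (h0 y)
  set v := act g (bv 2) with hv
  have hv1 : v 0 * v 0 ^ 2 + v 1 * v 1 ^ 2 + v 2 * v 2 ^ 2 = 1 := by
    have := act_herm g (bv 2) (bv 2)
    rw [← hv, herm_bv hF, if_pos rfl, hermForm, Fin.sum_univ_three] at this
    exact this
  have hn : ∀ x : F, x = 0 ∨ x * x ^ 2 = 1 := fun x =>
    (em (x = 0)).imp id fun hx => by linear_combination hcube x hx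
  obtain ⟨w, hw'⟩ := exists_su2 hF (a := (0 : F)) (b := 1) (by ring)
  have hmv : ∀ (A : Cfsg.SU 3 F 2) i, act A (bv 2) i = A.1.1 i 2 := fun A i => act_bv_apply A i 2
  have single : ∀ c : F, c * c ^ 2 = 1 → ∀ i : Fin 3, ∃ s ∈ S, act s (bv 2) = c • bv i := by
    intro c hc i
    obtain ⟨y, hy⟩ := exists_su2 hF (a := c ^ 2) (b := (0 : F)) (by
      rw [zero_mul, add_zero]; linear_combination (c * c ^ 2 + 1) * hc)
    have e2 : act (win 3 2 1 y) (bv 2) = c • bv 2 := funext fun k => by
      rw [hmv, win_high_val, hy]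
      fin_cases k <;> simp [su2Matrix]
      linear_combination c * hc
    have e1 : act (win 3 2 1 w * win 3 2 1 y) (bv 2) = c • bv 1 := by
      rw [act_mul, e2, act_smul]
      congr 1
      funext k
      rw [hmv, win_high_val, hw']
      fin_cases k <;> simp [su2Matrix]
      linear_combination -h2
    fin_cases i
    · refine ⟨win 3 2 0 w * (win 3 2 1 w * win 3 2 1 y), S.mul_mem (h0 w) (S.mul_mem (h1 w) (h1 y)), ?_⟩
      rw [act_mul, e1, act_smul]
      congr 1
      funext k
      rw [act_bv_apply, win_low_val, hw']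
      fin_cases k <;> simp [su2Matrix]
      linear_combination -h2
    · exact ⟨_, S.mul_mem (h1 w) (h1 y), e1⟩
    · exact ⟨_, h1 y, e2⟩
  by_cases hall : v 0 ≠ 0 ∧ v 1 ≠ 0 ∧ v 2 ≠ 0
  · have n0 := (hn (v 0)).resolve_left hall.1
    have n1 := (hn (v 1)).resolve_left hall.2.1
    have n2 := (hn (v 2)).resolve_left hall.2.2
    have nw : ω * ω ^ 2 = 1 := (hn ω).resolve_left hw0
    set d : F := v 2 ^ 2 * ω with hd
    have nd : d * d ^ 2 = 1 := by
      rw [hd]; linear_combination (v 2 * v 2 ^ 2 + 1) * (ω * ω ^ 2) * n2 + nw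
    obtain ⟨D, hD⟩ := exists_su2 hF (a := d) (b := (0 : F)) (by rw [zero_mul, add_zero]; exact nd)
    have hp' : ∀ i, (![v 0, v 1 * (d ^ 2 * ω), 1] : Fin 3 → F) i *
        (![v 0, v 1 * (d ^ 2 * ω), 1] : Fin 3 → F) i ^ 2 = 1 := fun i => by
      fin_cases i <;> simp
      · exact n0
      · linear_combination ((v 1 * v 1 ^ 2) * (d * d ^ 2) ^ 2) * nw +
          ((d * d ^ 2) ^ 2) * n1 + (d * d ^ 2 + 1) * nd
    refine fin _ (S.mul_mem (h1 D) (hp _ hp')) (funext fun k => ?_)
    rw [hmv]
    show ((win 3 2 1 D).1.1 * (semi hF (RingEquiv.refl F) _ hp' M).1.1) k 2 = v k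
    rw [Matrix.mul_apply, Fin.sum_univ_three, semi_val, semi_val, semi_val, hM, win_high_val, hD]
    have e1 : ω ^ 2 = ω + 1 := by linear_combination hw
    fin_cases k <;> simp [su2Matrix]
    · linear_combination (v 1 * (d * d ^ 2)) * nw + v 1 * nd - v 1 * ω * d ^ 3 * e1
    · rw [hd]; linear_combination (v 2 * (ω * ω ^ 2)) * n2 + v 2 * nw
  · have : ∃ i : Fin 3, ∀ k, k ≠ i → v k = 0 := by
      rcases hn (v 0) with a | a <;> rcases hn (v 1) with b | b <;> rcases hn (v 2) with c | c
      · exfalso; rw [a, b, c] at hv1; simp at hv1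
      · exact ⟨2, fun k hk => by fin_cases k <;> simp_all⟩
      · exact ⟨1, fun k hk => by fin_cases k <;> simp_all⟩
      · exfalso; rw [a] at hv1; exact one_ne_zero (α := F) (by linear_combination h2 - hv1 + b + c)
      · exact ⟨0, fun k hk => by fin_cases k <;> simp_all⟩
      · exfalso; rw [b] at hv1; exact one_ne_zero (α := F) (by linear_combination h2 - hv1 + a + c)
      · exfalso; rw [c] at hv1; exact one_ne_zero (α := F) (by linear_combination h2 - hv1 + a + b)
      · refine absurd ⟨fun e => ?_, fun e => ?_, fun e => ?_⟩ hall <;> simp [e] at a b c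
    obtain ⟨i, hi⟩ := this
    have hvi : v = v i • bv i := funext fun k => by
      by_cases hk : k = i
      · subst hk; simp
      · simp [hi k hk, hk]
    have hi0 : v i ≠ 0 := fun e => by
      have e0 : ∀ k, v k = 0 := fun k => by
        rw [hvi, e]; simp
      rw [e0, e0, e0] at hv1; simp at hv1
    obtain ⟨s, hs, e⟩ := single (v i) ((hn (v i)).resolve_left hi0) i
    exact fin s hs (e.trans hvi.symm)

/-- An endomorphism fixing both blocks pointwise fixes the Fourier matrix. -/
theorem fix_fourier (hF : Fintype.card F = 2 ^ 2) {α : Cfsg.SU 3 F 2 →* Cfsg.SU 3 F 2} {ω : F}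
    (hw : ω * ω = ω + 1) {M : Cfsg.SU 3 F 2} {td w : Cfsg.SU 2 F 2}
    (htd : td.1.1 = !![ω, 0; 0, ω + 1]) (hw' : w.1.1 = !![0, 1; 1, 0])
    (hMt : M * win 3 2 1 td = win 3 2 1 w * win 3 2 0 w * M)
    (hMP : M * (win 3 2 1 w * win 3 2 0 w) = (win 3 2 1 td)⁻¹ * M) (hM4 : M ^ 4 = 1)
    (h0 : ∀ y, α (win 3 2 0 y) = win 3 2 0 y) (h1 : ∀ y, α (win 3 2 1 y) = win 3 2 1 y) : α M = M := by
  obtain ⟨-, -, h2, -, -, -, -, -⟩ := exists_omega hF
  set t : Cfsg.SU 3 F 2 := win 3 2 1 td with ht
  set P : Cfsg.SU 3 F 2 := win 3 2 1 w * win 3 2 0 w with hP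
  have et : α t = t := h1 td
  have eP : α P = P := by rw [hP, map_mul, h0, h1]
  have a1 := congrArg α hMt
  have a2 := congrArg α hMP
  simp only [map_mul, map_inv, et, eP] at a1 a2
  set z := M⁻¹ * α M with hz
  have hzt : z * t = t * z := by
    have e : M⁻¹ * P = t * M⁻¹ := by
      rw [inv_mul_eq_iff_eq_mul, ← mul_assoc, hMt, mul_inv_cancel_right]
    calc z * t = M⁻¹ * (α M * t) := mul_assoc _ _ _
      _ = M⁻¹ * P * α M := by rw [a1]; exact (mul_assoc _ _ _).symm
      _ = t * z := by rw [e]; exact mul_assoc _ _ _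
  have hzP : z * P = P * z := by
    have e : M⁻¹ * t⁻¹ = P * M⁻¹ := by
      rw [inv_mul_eq_iff_eq_mul, ← mul_assoc, hMP, mul_inv_cancel_right]
    calc z * P = M⁻¹ * (α M * P) := mul_assoc _ _ _
      _ = M⁻¹ * t⁻¹ * α M := by rw [a2]; exact (mul_assoc _ _ _).symm
      _ = P * z := by rw [e]; exact mul_assoc _ _ _
  have ezt : z.1.1 * t.1.1 = t.1.1 * z.1.1 := congrArg (fun X : Cfsg.SU 3 F 2 => X.1.1) hzt
  have ezP : z.1.1 * P.1.1 = P.1.1 * z.1.1 := congrArg (fun X : Cfsg.SU 3 F 2 => X.1.1) hzP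
  have hPv : P.1.1 = !![0, 1, 0; 0, 0, 1; 1, 0, 0] := by
    show (win 3 2 1 w).1.1 * (win 3 2 0 w).1.1 = _
    rw [win_low_val, win_high_val, hw']
    ext i j
    fin_cases i <;> fin_cases j <;> simp [Matrix.mul_apply, Fin.sum_univ_three]
  rw [ht, win_high_val, htd] at ezt
  rw [hPv] at ezP
  have f := fun i j => congrFun (congrFun ezt i) j
  have g := fun i j => congrFun (congrFun ezP i) j
  have f01 := f 0 1
  have f02 := f 0 2
  have f10 := f 1 0
  have f12 := f 1 2
  have f20 := f 2 0
  have f21 := f 2 1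
  have g01 := g 0 1
  have g12 := g 1 2
  simp [Matrix.mul_apply, Fin.sum_univ_three] at f01 f02 f10 f12 f20 f21 g01 g12
  have hw1 : ω + 1 ≠ 0 := fun e => zero_ne_one (α := F) (by linear_combination (ω - 2) * e - hw)
  have kill : ∀ {a b y : F}, a ≠ b → a * y = b * y → y = 0 := fun hab e =>
    (mul_eq_zero.1 (show (_ - _) * _ = (0 : F) by rw [sub_mul, e, sub_self])).resolve_left
      (sub_ne_zero.2 hab)
  have hne1 : ω ≠ 1 := fun e => hw1 (by linear_combination h2 + e)
  have hne2 : ω + 1 ≠ 1 := fun e => by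
    have : ω = 0 := by linear_combination e
    rw [this, mul_zero, zero_add] at hw; exact zero_ne_one hw
  have hne3 : ω + 1 ≠ ω := fun e => one_ne_zero (α := F) (by linear_combination e)
  have z01 : z.1.1 0 1 = 0 := kill hne1 (by linear_combination f01)
  have z02 : z.1.1 0 2 = 0 := kill hne2 (by linear_combination f02)
  have z10 : z.1.1 1 0 = 0 := kill (Ne.symm hne1) (by linear_combination f10)
  have z12 : z.1.1 1 2 = 0 := kill hne3 (by linear_combination f12)
  have z20 : z.1.1 2 0 = 0 := kill (Ne.symm hne2) (by linear_combination f20)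
  have z21 : z.1.1 2 1 = 0 := kill (Ne.symm hne3) (by linear_combination f21)
  set c := z.1.1 0 0
  have hzv : z.1.1 = c • (1 : Matrix (Fin 3) (Fin 3) F) := by
    ext i j
    fin_cases i <;> fin_cases j <;> simp [z01, z02, z10, z12, z20, z21, c] <;>
      first | linear_combination g01 | linear_combination -g01 | linear_combination g01 + g12 | linear_combination -g01 - g12
  have hcen : z ∈ Subgroup.center (Cfsg.SU 3 F 2) := Subgroup.mem_center_iff.2 fun X =>
    Subtype.ext (Subtype.ext (by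
      show X.1.1 * z.1.1 = z.1.1 * X.1.1
      rw [hzv, Matrix.mul_smul, Matrix.smul_mul, Matrix.mul_one, Matrix.one_mul]))
  have hc : c ^ 3 = 1 := by
    have : z.1.1.det = 1 := z.1.2
    rw [hzv, Matrix.det_smul, Matrix.det_one, mul_one] at this
    simpa using this
  have hz3 : z ^ 3 = 1 := Subtype.ext (Subtype.ext (by
    show z.1.1 ^ 3 = 1
    rw [hzv, smul_pow, one_pow, hc, one_smul]))
  have e : α M = M * z := by rw [hz, mul_inv_cancel_left]
  have h4 : (α M) ^ 4 = 1 := by rw [← map_pow, hM4, map_one]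
  have hcomm : Commute M z := Subgroup.mem_center_iff.1 hcen M
  rw [e, hcomm.mul_pow, hM4, one_mul, pow_succ, hz3, one_mul] at h4
  rw [e, h4, mul_one]

theorem eq_of_blocks (hF : Fintype.card F = 2 ^ 2) {α β : Cfsg.SU 3 F 2 →* Cfsg.SU 3 F 2}
    (hβ : Function.Injective β) (h0 : ∀ y, α (win 3 2 0 y) = β (win 3 2 0 y))
    (h1 : ∀ y, α (win 3 2 1 y) = β (win 3 2 1 y)) (x : Cfsg.SU 3 F 2) : α x = β x := by
  obtain ⟨ω, M, td, w, hw, hM, htd, hw', hMt, hMP, hM4, -⟩ := exists_fourier hF
  let B : MulAut (Cfsg.SU 3 F 2) := MulEquiv.ofBijective β (Finite.injective_iff_bijective.1 hβ)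
  set γ := B.symm.toMonoidHom.comp α with hγ
  have g0 : ∀ y, γ (win 3 2 0 y) = win 3 2 0 y := fun y => by
    show B.symm (α _) = _; rw [h0]; exact B.symm_apply_apply _
  have g1 : ∀ y, γ (win 3 2 1 y) = win 3 2 1 y := fun y => by
    show B.symm (α _) = _; rw [h1]; exact B.symm_apply_apply _
  have hS : MonoidHom.eqLocus γ (MonoidHom.id _) = ⊤ := gen_two hF hw hM g0 g1 fun p hd => by
    let P : MulAut (Cfsg.SU 3 F 2) := MulEquiv.ofBijective (semi hF (RingEquiv.refl F) p hd)
      (Finite.injective_iff_bijective.1 (semi_injective hF _ p hd))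
    have hPw : ∀ a, a + 2 ≤ 3 → (∀ y, γ (win 3 2 a y) = win 3 2 a y) →
        ∀ y, P.symm (γ (P (win 3 2 a y))) = win 3 2 a y := fun a ha hg y => by
      have e : P (win 3 2 a y) = win 3 2 a (semi hF (RingEquiv.refl F)
          (fun j => p (shift 3 2 a ha j)) (fun j => hd _) y) :=
        semi_win hF _ p hd _ _ ha (fun j => rfl) y
      rw [e, hg, ← e, P.symm_apply_apply]
    have := fix_fourier hF (α := P.symm.toMonoidHom.comp (γ.comp P.toMonoidHom)) hw htd hw' hMt hMP hM4
      (hPw 0 (by omega) g0) (hPw 1 le_rfl g1)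
    show γ (P M) = P M
    exact P.symm_apply_eq.1 this
  have e := hS.ge (Subgroup.mem_top x)
  exact B.symm_apply_eq.1 e

/-- An element of order dividing four squares to one on an invariant plane. -/
theorem sq_fixed (h2 : (2 : F) = 0) {X : Cfsg.SU 4 F 2} (hX : X ^ 4 = 1)
    {W : Submodule F (Fin 4 → F)} (hW : ∀ v ∈ W, act X v ∈ W) (hd : finrank F W ≤ 2) {v : Fin 4 → F}
    (hv : v ∈ W) : act X (act X v) = v := by
  have two : ∀ u : Fin 4 → F, u + u = 0 := fun u => by rw [← two_smul F u, h2, zero_smul]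
  let N : (Fin 4 → F) →ₗ[F] (Fin 4 → F) := Matrix.mulVecLin X.1.1 + LinearMap.id
  have hN : ∀ u, N u = act X u + u := fun u => rfl
  have hNW : ∀ {u}, u ∈ W → N u ∈ W := fun {u} hu => by rw [hN]; exact W.add_mem (hW u hu) hu
  have h4 : ∀ u, act X (act X (act X (act X u))) = u := fun u => by
    rw [← act_mul, ← act_mul, ← act_mul, show X * X * X * X = X ^ 4 by simp [pow_succ, mul_assoc], hX, act_one]
  have sq : ∀ u, N (N u) = act X (act X u) + u := fun u => by
    simp only [hN, act_add]
    funext i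
    simp only [Pi.add_apply]
    linear_combination act X u i * h2
  have key : ∀ u ∈ W, N (N (N u)) = 0 → N (N u) = 0 := by
    intro u hu h3
    by_contra hne
    have hli : LinearIndependent F (![⟨u, hu⟩, ⟨N u, hNW hu⟩, ⟨N (N u), hNW (hNW hu)⟩] : Fin 3 → W) := by
      rw [Fintype.linearIndependent_iff]
      intro c hc
      have hc' : c 0 • u + c 1 • N u + c 2 • N (N u) = 0 := by
        have := congrArg Subtype.val hc
        simpa [Fin.sum_univ_three] using this
      have e1 : c 0 • N u + c 1 • N (N u) = 0 := by simpa [h3] using congrArg N hc'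
      have e2 : c 0 • N (N u) = 0 := by simpa [h3] using congrArg N e1
      have c0 : c 0 = 0 := (smul_eq_zero.1 e2).resolve_right hne
      rw [c0, zero_smul, zero_add] at e1 hc'
      have c1 : c 1 = 0 := (smul_eq_zero.1 e1).resolve_right hne
      rw [c1, zero_smul, zero_add] at hc'
      have c2 : c 2 = 0 := (smul_eq_zero.1 hc').resolve_right hne
      intro i; fin_cases i <;> assumption
    have := hli.fintype_card_le_finrank
    simp at this
    omega
  have h3 : N (N (N v)) = 0 := key (N v) (hNW hv) (by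
    simp only [sq, act_add, h4]
    funext i
    simp only [Pi.add_apply, Pi.zero_apply]
    linear_combination (v i + act X (act X v) i) * h2)
  have := key v hv h3
  rw [sq] at this
  calc act X (act X v) = act X (act X v) + (v + v) := by rw [two, add_zero]
    _ = v := by rw [← add_assoc, this, zero_add]

theorem card_vstab (hF : Fintype.card F = 2 ^ 2) {e : Fin 4 → F} (he : hermForm 4 F 2 e e = 1) :
    Nat.card (vstab 2 e : Subgroup (Cfsg.SU 4 F 2)) = Nat.card (Cfsg.SU 3 F 2) := by
  obtain ⟨h, -, hh⟩ := exists_fix_unit hF (∅ : Finset (Fin 4)) (by simp) (v := bv 3)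
    (fun x hx => absurd hx (Finset.notMem_empty x)) (fun x hx => absurd hx (Finset.notMem_empty x)) he
    (by simp [herm_bv hF])
  rw [Nat.card_congr (Subgroup.equivMapOfInjective (vstab 2 e) (MulAut.conj h).toMonoidHom
    (MulAut.conj h).injective).toEquiv, map_conj_vstab, hh, ← Rigid.range_win_top hF]
  exact (Nat.card_congr (MonoidHom.ofInjective (win_injective (N := 4) (a := 0) (by omega))).toEquiv).symm

/-- A copy of `SU 3` in `SU 4` is the stabiliser of a unit vector. -/
theorem exists_line (hF : Fintype.card F = 2 ^ 2) {θ : Cfsg.SU 3 F 2 →* Cfsg.SU 4 F 2}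
    (hθ : Function.Injective θ) :
    ∃ e : Fin 4 → F, hermForm 4 F 2 e e = 1 ∧ θ.range = vstab 2 e := by
  obtain ⟨ω, M, td, w, hw, hM, htd, hw', -, -, hM4, hM2⟩ := exists_fourier hF
  obtain ⟨-, -, h2, -, -, -, hcube, -⟩ := exists_omega hF
  have two : ∀ u : Fin 4 → F, u + u = 0 := fun u => by rw [← two_smul F u, h2, zero_smul]
  set ζ : Cfsg.SU 3 F 2 := win 3 2 0 td * (win 3 2 1 td * win 3 2 1 td)
  have hζ : ζ.1.1 = ω • (1 : Matrix (Fin 3) (Fin 3) F) := by
    show (win 3 2 0 td).1.1 * ((win 3 2 1 td).1.1 * (win 3 2 1 td).1.1) = _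
    rw [win_low_val, win_high_val, htd]
    ext i j
    fin_cases i <;> fin_cases j <;> simp [Matrix.mul_apply, Fin.sum_univ_three] <;>
      first
      | ring1
      | linear_combination hw
      | linear_combination -hw
      | linear_combination h2
      | linear_combination hw + (ω + 1) * h2
      | linear_combination hw + ω * h2
      | linear_combination -hw - ω * h2
      | linear_combination (ω + 1) * h2
      | linear_combination (ω * ω + ω + 1) * h2
      | linear_combination (ω * ω + ω) * h2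
      | linear_combination ω * hw + (ω * ω) * h2
      | linear_combination (ω + 1) * hw + (ω + 1) * h2
  have hw3 : ω ^ 3 = 1 := hcube ω fun e => by rw [e, mul_zero, zero_add] at hw; exact zero_ne_one hw
  have hζc : ∀ X : Cfsg.SU 3 F 2, X * ζ = ζ * X := fun X => Subtype.ext (Subtype.ext (by
    show X.1.1 * ζ.1.1 = ζ.1.1 * X.1.1
    rw [hζ, Matrix.mul_smul, Matrix.smul_mul, Matrix.mul_one, Matrix.one_mul]))
  have hζ3 : ζ ^ 3 = 1 := Subtype.ext (Subtype.ext (by
    show ζ.1.1 ^ 3 = 1
    rw [hζ, smul_pow, one_pow, hw3, one_smul]))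
  have hζ1 : ζ ≠ 1 := fun e => by
    have := congrArg (fun x : Cfsg.SU 3 F 2 => x.1.1 0 0) e
    simp [hζ] at this
    rw [this] at hw
    exact one_ne_zero (α := F) (by linear_combination -hw)
  set z := θ ζ with hz
  have hz3 : ∀ u, act z (act z (act z u)) = u := fun u => by
    rw [← act_mul, ← act_mul, hz, ← map_mul, ← map_mul, show ζ * ζ * ζ = ζ ^ 3 by simp [pow_succ, mul_assoc], hζ3, map_one,
      act_one]
  let V : F → Submodule F (Fin 4 → F) := fun c =>
    LinearMap.ker (Matrix.mulVecLin z.1.1 - c • LinearMap.id)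
  have mV : ∀ {c u}, u ∈ V c ↔ act z u = c • u := fun {c u} => by
    simp [V, LinearMap.mem_ker, sub_eq_zero, act]
  have inv : ∀ x {c u}, u ∈ V c → act (θ x) u ∈ V c := fun x {c u} hu => by
    rw [mV] at hu ⊢
    rw [← act_mul, hz, ← map_mul, ← hζc, map_mul, act_mul, ← hz, hu, act_smul]
  let pr : F → (Fin 4 → F) → (Fin 4 → F) := fun c u => u + c • act z u + (c * c) • act z (act z u)
  have hpr : ∀ c u, c ^ 3 = 1 → pr c u ∈ V (c * c) := fun c u hc => by
    rw [mV]
    simp only [pr, act_add, act_smul, hz3, smul_add, smul_smul,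
      show c * c * c = 1 by linear_combination hc,
      show c * c * (c * c) = c by linear_combination c * hc, one_smul]
    abel
  have hw1 : (ω + 1) ^ 3 = 1 := hcube _ fun e => zero_ne_one (α := F) (by linear_combination (ω - 2) * e - hw)
  have hsum : ∀ u, u = pr 1 u + pr ω u + pr (ω + 1) u := fun u => by
    funext i
    simp only [pr, Pi.add_apply, Pi.smul_apply, smul_eq_mul]
    linear_combination -(u i + (ω + 1) * act z u i + (ω * ω + ω + 1) * act z (act z u) i) * h2
  obtain ⟨c0, hc0, hdim⟩ : ∃ c : F, c ^ 3 = 1 ∧ 3 ≤ finrank F (V c) := by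
    by_contra hcon
    push Not at hcon
    refine hM2 (hθ (su_ext fun u => ?_))
    rw [map_one, act_one]
    have hfix : ∀ c, c ^ 3 = 1 → ∀ u, act (θ (M ^ 2)) (pr c u) = pr c u := fun c hc u => by
      rw [map_pow, pow_two, act_mul]
      refine sq_fixed h2 (by rw [← map_pow, hM4, map_one]) (fun v hv => inv M hv) ?_ (hpr c u hc)
      have := hcon (c * c) (by linear_combination (c ^ 3 + 1) * hc)
      omega
    conv_lhs => rw [hsum u, act_add, act_add, hfix 1 (one_pow 3), hfix ω hw3, hfix (ω + 1) hw1]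
    exact (hsum u).symm
  have hne : ¬ ∀ u, u ∈ V c0 := fun hall => by
    have hzs : z.1.1 = c0 • (1 : Matrix (Fin 4) (Fin 4) F) := Matrix.toLin'.injective (LinearMap.ext fun u => by
      rw [Matrix.toLin'_apply, Matrix.toLin'_apply, smul_mulVec, one_mulVec]
      exact mV.1 (hall u))
    have hd : z.1.1.det = 1 := z.1.2
    rw [hzs, Matrix.det_smul, Matrix.det_one, mul_one, Fintype.card_fin, pow_succ, hc0, one_mul] at hd
    refine hζ1 (hθ (Subtype.ext (Subtype.ext ?_)))
    rw [map_one, ← hz, hzs, hd, one_smul]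
    rfl
  obtain ⟨c1, hc1, p, hp, hpV⟩ : ∃ c : F, c ^ 3 = 1 ∧ ∃ p, p ∈ V (c * c) ∧ p ∉ V c0 := by
    by_contra hcon
    push Not at hcon
    refine hne fun u => ?_
    rw [hsum u]
    exact add_mem (add_mem (hcon 1 (one_pow 3) _ (hpr 1 u (one_pow 3))) (hcon ω hw3 _ (hpr ω u hw3)))
      (hcon (ω + 1) hw1 _ (hpr (ω + 1) u hw1))
  have hperp : p ∈ perp 2 (V c0) := fun u hu => by
    have h := act_herm z p u
    rw [mV.1 hp, mV.1 hu, herm_smul_left, herm_smul_right] at h
    refine (mul_eq_zero.1 (show (c1 * c1 * c0 ^ 2 - 1) * hermForm 4 F 2 p u = 0 by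
      linear_combination h)).resolve_left (sub_ne_zero.2 fun e => hpV ?_)
    rw [show c0 = c1 * c1 by linear_combination (-c0) * e + (c1 * c1) * hc0]
    exact hp
  have hp0 : p ≠ 0 := fun e => hpV (by rw [e]; exact zero_mem _)
  have hP : perp 2 (V c0) = Submodule.span F {p} := by
    refine (Submodule.eq_of_le_of_finrank_le ((Submodule.span_singleton_le_iff_mem _ _).2 hperp) ?_).symm
    rw [finrank_span_singleton hp0]
    have := finrank_perp hF (V c0)
    omega
  have hpp : hermForm 4 F 2 p p ≠ 0 := fun e => hpV (by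
    rw [← perp_perp hF (V c0), hP, mem_perp_span hF]
    intro x hx
    rw [Set.mem_singleton_iff.1 hx, e])
  obtain ⟨a, ha0, ha⟩ := exists_unit_of_ne_zero hF hpp
  set e := a • p with he
  have hline : ∀ x, ∃ c : F, act (θ x) e = c • e := fun x => by
    have hm : act (θ x) p ∈ perp 2 (V c0) := fun u hu => by
      have h := act_herm (θ x⁻¹) (act (θ x) p) u
      rw [map_inv, act_inv_act, ← map_inv] at h
      rw [← h]
      exact hperp _ (inv _ hu)
    rw [hP, Submodule.mem_span_singleton] at hm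
    obtain ⟨c, hc⟩ := hm
    exact ⟨c, by rw [he, act_smul, ← hc, smul_comm]⟩
  have he0 : e ≠ 0 := smul_ne_zero ha0 hp0
  have h4 : ∀ x, x ^ 4 = 1 → θ x ∈ vstab 2 e := fun x hx => by
    obtain ⟨c, hc⟩ := hline x
    have hiter : ∀ n : ℕ, act (θ x ^ n) e = c ^ n • e := by
      intro n
      induction n with
      | zero => rw [pow_zero, act_one, pow_zero, one_smul]
      | succ n ih => rw [pow_succ, act_mul, hc, act_smul, ih, smul_smul, pow_succ, mul_comm]
    have h := hiter 4
    rw [← map_pow, hx, map_one, act_one] at h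
    have hc4 : c ^ 4 = 1 := by
      by_contra hn
      exact he0 ((smul_eq_zero.1 (show (c ^ 4 - 1) • e = 0 by rw [sub_smul, one_smul, ← h, sub_self]))
        |>.resolve_left (sub_ne_zero.2 hn))
    have hc0' : c ≠ 0 := fun e0 => by rw [e0] at hc4; simp at hc4
    rw [nat_card_eq hF hc0'] at hc4
    show act (θ x) e = e
    rw [hc, hc4, one_smul]
  have hblock : ∀ i y, θ (win 3 2 i y) ∈ vstab 2 e := fun i y => by
    have : (vstab 2 e).comap (θ.comp (win 3 2 i)) = ⊤ := Rigid.gen_pow_q hF fun s hs =>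
      h4 _ (by rw [← map_pow, show 4 = 2 * 2 from rfl, pow_mul, hs, one_pow, map_one])
    exact this.ge (Subgroup.mem_top y)
  have htop : (vstab 2 e).comap θ = ⊤ := gen_two hF hw hM (hblock 0) (hblock 1) fun q hd =>
    h4 _ (by rw [← map_pow, hM4, map_one])
  refine ⟨e, ha, Subgroup.eq_of_le_of_card_ge ?_ (le_of_eq ?_)⟩
  · rintro _ ⟨x, rfl⟩
    exact htop.ge (Subgroup.mem_top x)
  · rw [card_vstab hF ha]
    exact Nat.card_congr (MonoidHom.ofInjective hθ).toEquiv

theorem line_two (hF : Fintype.card F = 2 ^ 2) (θ : Cfsg.SU 3 F 2 →* Cfsg.SU 4 F 2)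
    (hθ : Function.Injective θ) (h0 : ∀ y, θ (win 3 2 0 y) = win 4 2 1 y)
    (h1 : ∀ y, θ (win 3 2 1 y) ∈ fix 2 F ({0, 1} : Finset (Fin 4))) (x : Cfsg.SU 3 F 2) :
    θ x ∈ fix 2 F ({0} : Finset (Fin 4)) := by
  obtain ⟨e, he, hr⟩ := exists_line hF hθ
  obtain ⟨l, t, -, -, hl1, hlq, ht, -, -⟩ := Rigid.exists_torus hF
  have hfix : ∀ y, act (θ y) e = e := fun y => by
    have : θ y ∈ vstab 2 e := by rw [← hr]; exact ⟨y, rfl⟩
    exact this
  have kill : ∀ {a y : F}, a ≠ 1 → a * y = y → y = 0 := fun {a y} ha e' =>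
    (mul_eq_zero.1 (show (a - 1) * y = 0 by linear_combination e')).resolve_left (sub_ne_zero.2 ha)
  have coord : ∀ b (hb : b + 2 ≤ 4), act (win 4 2 b t) e = e →
      e (shift 4 2 b hb 0) = 0 ∧ e (shift 4 2 b hb 1) = 0 := fun b hb hfe => by
    have a0 := act_emb_apply (shift 4 2 b hb) t e 0
    have a1 := act_emb_apply (shift 4 2 b hb) t e 1
    rw [← win_eq hb, hfe] at a0 a1
    simp [act, ht, su2Matrix, Matrix.mulVec, dotProduct, Fin.sum_univ_two] at a0 a1
    exact ⟨kill hl1 a0.symm, kill hlq a1.symm⟩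
  obtain ⟨e1, e2⟩ := coord 1 (by omega) (by rw [← h0]; exact hfix _)
  have hle : (θ.comp (win 3 2 1)).range ≤ (win 4 2 2 : Cfsg.SU 2 F 2 →* _).range := by
    rintro _ ⟨y, rfl⟩
    rw [range_win hF (show 2 + 2 ≤ 4 by omega)]
    refine fix_mono (fun i hi => ?_) (h1 y)
    simp only [Finset.mem_filter, Finset.mem_univ, true_and] at hi
    have := i.isLt
    rw [Finset.mem_insert, Finset.mem_singleton]
    rcases (show (i : ℕ) = 0 ∨ (i : ℕ) = 1 by omega) with e | e
    · exact Or.inl (Fin.ext (by simpa using e))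
    · exact Or.inr (Fin.ext (by simpa using e))
  have heq := Subgroup.eq_of_le_of_card_ge hle (le_of_eq
    (((Nat.card_congr (MonoidHom.ofInjective
      (win_injective (F := F) (q := 2) (N := 4) (k := 2) (a := 2) le_rfl)).toEquiv).symm).trans
      (Nat.card_congr (MonoidHom.ofInjective (f := θ.comp (win 3 2 1))
        (hθ.comp (win_injective (N := 3) (a := 1) le_rfl))).toEquiv)))
  obtain ⟨y, hy⟩ := heq.ge ⟨t, rfl⟩
  obtain ⟨-, e3⟩ := coord 2 le_rfl (by rw [← hy]; exact hfix _)
  have he' : e = e 0 • bv 0 := funext fun k => by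
    fin_cases k
    · simp
    · simpa [show shift 4 2 1 (by omega) 0 = (1 : Fin 4) from rfl] using e1
    · simpa [show shift 4 2 1 (by omega) 1 = (2 : Fin 4) from rfl] using e2
    · simpa [show shift 4 2 2 le_rfl 1 = (3 : Fin 4) from rfl] using e3
  have he0 : e 0 ≠ 0 := fun h => by
    rw [he', h, zero_smul, herm_zero_left] at he; exact zero_ne_one he
  intro i hi
  rw [Finset.mem_singleton] at hi
  subst hi
  show act (θ x) (bv 0) = bv 0
  have h := hfix x
  rw [he', act_smul] at h
  exact smul_right_injective _ he0 h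

theorem ok_two (hF : Fintype.card F = 2 ^ 2) : Rigid.Ok 2 F G where
  field σ hσ x := by
    by_cases hx : x = 0
    · rw [hx, map_zero]
    · obtain ⟨-, -, -, -, -, -, hcube, -⟩ := exists_omega hF
      exact hσ x (by linear_combination hcube x hx)
  eq_of_blocks := fun {_ _} _ hβ h0 h1 x => eq_of_blocks hF hβ h0 h1 x
  lift g hg ψ hψ hle := by
    have hc : Subgroup.center (Cfsg.SU 4 F 2) = ⊥ := (Subgroup.card_eq_one).1 (by
      rw [card_center_SU hF (by norm_num)]; rfl)
    have hginj : Function.Injective g := by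
      rw [← MonoidHom.ker_eq_bot_iff, eq_bot_iff, ← hc]; exact hg
    let iso := MonoidHom.ofInjective hginj
    let θ := iso.symm.toMonoidHom.comp (ψ.codRestrict g.range fun x => hle ⟨x, rfl⟩)
    have hθ : ∀ x, g (θ x) = ψ x := fun x => congrArg Subtype.val (iso.apply_symm_apply _)
    have hinj : Function.Injective θ := fun a b e => hψ (by rw [← hθ, ← hθ, e])
    obtain ⟨e, he, hr⟩ := exists_line hF hinj
    exact ⟨e, θ, he, hinj, hr, hθ⟩
  line := line_two hF

theorem scalar_mem (hF : Fintype.card F = 2 ^ 2) {π : Cfsg.SU 3 F 2 →* G} (hk : π.ker ≤ Subgroup.center _)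
    {ω : F} (hw : ω * ω = ω + 1) {td : Cfsg.SU 2 F 2} (htd : td.1.1 = !![ω, 0; 0, ω + 1])
    (hnot : ¬ Function.Injective π) : π (win 3 2 0 td) = π (win 3 2 1 td) := by
  obtain ⟨-, -, h2, -, -, -, hcube, -⟩ := exists_omega hF
  rw [injective_iff_map_eq_one] at hnot
  push Not at hnot
  obtain ⟨z, hz, hz1⟩ := hnot
  obtain ⟨l, hl⟩ := (mem_center_SU_iff hF (by norm_num) z).1 (hk hz)
  have hzv : z.1.1 = l • (1 : Matrix (Fin 3) (Fin 3) F) := Matrix.toLin'.injective (LinearMap.ext fun u => by
    rw [Matrix.toLin'_apply, Matrix.toLin'_apply, hl, smul_mulVec, one_mulVec])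
  have hl3 : l ^ 3 = 1 := by
    have : z.1.1.det = 1 := z.1.2
    rw [hzv, Matrix.det_smul, Matrix.det_one, mul_one] at this
    simpa using this
  have hll : l ≠ 1 := fun e => hz1 (Subtype.ext (Subtype.ext (by rw [hzv, e, one_smul]; rfl)))
  set ζ : Cfsg.SU 3 F 2 := win 3 2 0 td * (win 3 2 1 td)⁻¹
  have hζ : ζ = z ∨ ζ = z * z := by
    have hinv : ((win 3 2 1 td)⁻¹).1.1 = !![1, 0, 0; 0, ω + 1, 0; 0, 0, ω] := by
      rw [← map_inv]
      have : (td⁻¹).1.1 = !![ω + 1, 0; 0, ω] := by
        show ((td.1)⁻¹ : Matrix.SpecialLinearGroup (Fin 2) F).1 = _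
        rw [Matrix.SpecialLinearGroup.coe_inv, Matrix.adjugate_fin_two, htd]
        simp
      rw [win_high_val, this]
      simp
    have hv : ζ.1.1 = ω • (1 : Matrix (Fin 3) (Fin 3) F) := by
      show (win 3 2 0 td).1.1 * ((win 3 2 1 td)⁻¹).1.1 = _
      rw [win_low_val, hinv, htd]
      ext i j
      fin_cases i <;> fin_cases j <;> simp [Matrix.mul_apply, Fin.sum_univ_three] <;>
      first
      | ring1
      | linear_combination hw
      | linear_combination -hw
      | linear_combination h2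
      | linear_combination hw + (ω + 1) * h2
      | linear_combination hw + ω * h2
      | linear_combination -hw - ω * h2
      | linear_combination (ω + 1) * h2
      | linear_combination (ω * ω + ω + 1) * h2
      | linear_combination (ω * ω + ω) * h2
      | linear_combination ω * hw + (ω * ω) * h2
      | linear_combination (ω + 1) * hw + (ω + 1) * h2
    have : (l - ω) * (l * l - ω) = 0 := by
      have hll' : l * l + l + 1 = 0 := (mul_eq_zero.1 (show (l - 1) * (l * l + l + 1) = 0 by
        linear_combination hl3)).resolve_left (sub_ne_zero.2 hll)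
      linear_combination hl3 + hw + ω * (-1 : F) * hll' + (ω + 1) * h2
    rcases mul_eq_zero.1 this with h | h
    · exact Or.inl (Subtype.ext (Subtype.ext (by rw [hv, hzv, sub_eq_zero.1 h])))
    · refine Or.inr (Subtype.ext (Subtype.ext ?_))
      show ζ.1.1 = z.1.1 * z.1.1
      rw [hv, hzv, Matrix.smul_mul, Matrix.one_mul, smul_smul, sub_eq_zero.1 h]
  have h1 : π ζ = 1 := by
    rcases hζ with e | e <;> rw [e] <;> simp [hz]
  rw [map_mul, map_inv, mul_inv_eq_one] at h1
  exact h1

/-- Neighbouring windows whose outer blocks commute are injective. -/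
theorem injective_of_neighbour (hF : Fintype.card F = 2 ^ 2) {πa πb : Cfsg.SU 3 F 2 →* G}
    {A B C : Subgroup G} (ha : IsPair πa A B) (hb : IsPair πb B C)
    (hagree : ∀ g, πa (win 3 2 1 g) = πb (win 3 2 0 g))
    (hcomm : ∀ g h, Commute (πa (win 3 2 0 g)) (πb (win 3 2 1 h))) :
    Function.Injective πa ∧ Function.Injective πb := by
  obtain ⟨ω, -, td, w, hw, -, htd, hw', -⟩ := exists_fourier hF
  obtain ⟨-, -, h2, -, -, -, hcube, -⟩ := exists_omega hF
  have hw0 : ω ≠ 0 := fun e => by rw [e, mul_zero, zero_add] at hw; exact zero_ne_one hw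
  obtain ⟨w', hw''⟩ := exists_su2 hF (a := (0 : F)) (b := ω) (by linear_combination hcube ω hw0)
  have hne : w' ≠ w := fun e => by
    have := congrArg (fun x : Cfsg.SU 2 F 2 => x.1.1 1 0) e
    simp [hw'', hw', su2Matrix] at this
    rw [this] at hw
    exact one_ne_zero (α := F) (by linear_combination -hw)
  constructor <;> by_contra hnot
  · have e := scalar_mem hF ha.ker hw htd hnot
    have hc : win 3 2 0 td * win 3 2 1 w = win 3 2 1 w' * win 3 2 0 td := by
      refine Subtype.ext (Subtype.ext ?_)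
      show (win 3 2 0 td).1.1 * (win 3 2 1 w).1.1 = (win 3 2 1 w').1.1 * (win 3 2 0 td).1.1
      rw [win_low_val, win_high_val, win_high_val, htd, hw', hw'']
      ext i j
      fin_cases i <;> fin_cases j <;> simp [su2Matrix, Matrix.mul_apply, Fin.sum_univ_three] <;>
      first
      | ring1
      | linear_combination hw
      | linear_combination -hw
      | linear_combination h2
      | linear_combination hw + (ω + 1) * h2
      | linear_combination hw + ω * h2
      | linear_combination -hw - ω * h2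
      | linear_combination (ω + 1) * h2
      | linear_combination (ω * ω + ω + 1) * h2
      | linear_combination (ω * ω + ω) * h2
      | linear_combination ω * hw + (ω * ω) * h2
      | linear_combination (ω + 1) * hw + (ω + 1) * h2
    refine hne (hb.injective hF le_rfl ?_)
    show πb (win 3 2 1 w') = πb (win 3 2 1 w)
    have h := congrArg πb hc
    rw [map_mul, map_mul, ← hagree, ← e, (hcomm td w).eq] at h
    exact (mul_right_cancel h).symm
  · have e := scalar_mem hF hb.ker hw htd hnot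
    have hc : win 3 2 1 td * win 3 2 0 w = win 3 2 0 w' * win 3 2 1 td := by
      refine Subtype.ext (Subtype.ext ?_)
      show (win 3 2 1 td).1.1 * (win 3 2 0 w).1.1 = (win 3 2 0 w').1.1 * (win 3 2 1 td).1.1
      rw [win_low_val, win_high_val, win_low_val, htd, hw', hw'']
      ext i j
      fin_cases i <;> fin_cases j <;> simp [su2Matrix, Matrix.mul_apply, Fin.sum_univ_three] <;>
      first
      | ring1
      | linear_combination hw
      | linear_combination -hw
      | linear_combination h2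
      | linear_combination hw + (ω + 1) * h2
      | linear_combination hw + ω * h2
      | linear_combination -hw - ω * h2
      | linear_combination (ω + 1) * h2
      | linear_combination (ω * ω + ω + 1) * h2
      | linear_combination (ω * ω + ω) * h2
      | linear_combination ω * hw + (ω * ω) * h2
      | linear_combination (ω + 1) * hw + (ω + 1) * h2
    refine hne (ha.injective hF (i := 0) (by omega) ?_)
    show πa (win 3 2 0 w') = πa (win 3 2 0 w)
    have h := congrArg πa hc
    rw [map_mul, map_mul, hagree, e, ← (hcomm w td).eq] at h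
    exact (mul_right_cancel h).symm

end Small

end Cfsg.Agent.Lib.Phan
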